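import Cfsg.Agent.SuzukiTheorem.Frame
import Mathlib

/-!
# The cases of the structure equation `t s t = r⁻¹ t r`

* `r_eq_or_sq`: if `r ^ 4 = 1` then `r = s`, or `r * r = s` and `(s t) ^ 5 = 1`.
* `not_three_dvd`: in the second case `3 ∤ |K|`.
* `card_ne_cube`: in the second case `|Q| ≠ q ^ 3`.
-/

set_option autoImplicit false
set_option linter.unusedSectionVars false
set_option linter.style.haveILetI false

namespace CfsgLib.SuzukiThm

open CfsgLib

universe u v

variable {G : Type u} {Ω : Type v} [Group G] [MulAction G Ω] [Finite G] {a : Ω} {t : G} {Q : Subgroup G}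

namespace Frame

variable (P : Frame a t Q)

include P

/-- An element inverted by an involution `w` and fixing a point `c` moved by `w` fixes only `c` and `w • c`. -/
theorem fixed_pair {x w : G} (hw1 : w ≠ 1) (hw2 : w * w = 1) (hwx : w * x * w = x⁻¹) (hx1 : x ≠ 1)
    {c : Ω} (hxc : x • c = c) (hwc : w • c ≠ c) {d : Ω} (hxd : x • d = d) : d = c ∨ d = w • c := by
  have hxwc : x • w • c = w • c := by
    have h : w * x⁻¹ * w = x := by
      rw [← hwx, show w * (w * x * w) * w = w * w * x * (w * w) by group, hw2, one_mul, mul_one]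
    conv_lhs => rw [← h]
    rw [mul_smul, mul_smul, ← mul_smul w w c, hw2, one_smul, inv_smul_eq_iff.2 hxc.symm]
  obtain ⟨g, hgc, hgwc⟩ :=
    MulAction.is_two_pretransitive_iff.1 P.hS.two_transitive hwc.symm (RankOne.ta_ne P.hS).symm
  obtain ⟨u, hu⟩ : ∃ u, u = g * w * g⁻¹ := ⟨_, rfl⟩
  obtain ⟨y, hy⟩ : ∃ y, y = g * x * g⁻¹ := ⟨_, rfl⟩
  have hu1 : u ≠ 1 := fun h => hw1 (by rw [show w = g⁻¹ * u * g by rw [hu]; group, h]; group)
  have hu2 : u * u = 1 := by
    rw [hu, show g * w * g⁻¹ * (g * w * g⁻¹) = g * (w * w) * g⁻¹ by group, hw2]; group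
  have hua : u • a = t • a := by
    rw [hu, mul_smul, mul_smul, ← hgc, inv_smul_smul, hgc, hgwc]
  obtain ⟨k, hk, hku⟩ := (RankOne.swap_iff P.hS).1 ⟨hu1, hu2, hua⟩
  obtain ⟨hkD, hkt⟩ := (RankOne.mem_inverted_iff P.hS).1 hk
  obtain ⟨i, hi⟩ := RankOne.exists_sqrt (X := pairD G a t) P.hS.odd_card hkD
  obtain ⟨l, hl⟩ : ∃ l, l = k ^ i := ⟨_, rfl⟩
  rw [← hl] at hi
  have hlt : t * l * t = l⁻¹ := by
    have h := conj_pow (a := t) (b := k) (i := i)
    rw [P.tinv, hkt, inv_pow, ← hl] at h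
    exact h.symm
  have hlD : l ∈ pairD G a t := hl ▸ pow_mem hkD i
  have hul : u = l⁻¹ * t * l := by
    calc u = t * (l * l) := by rw [hku, hi]
      _ = t * l * t * (t * l) := by
          rw [mul_assoc (t * l) t, ← mul_assoc t t, P.tt, one_mul, mul_assoc]
      _ = l⁻¹ * t * l := by rw [hlt, mul_assoc]
  have hyD : y ∈ pairD G a t := by
    refine Subgroup.mem_inf.2 ⟨?_, ?_⟩ <;> rw [MulAction.mem_stabilizer_iff, hy]
    · rw [mul_smul, mul_smul, ← hgc, inv_smul_smul, hxc]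
    · rw [mul_smul, mul_smul, ← hgwc, inv_smul_smul, hxwc]
  have hyK : l * y * l⁻¹ ∈ P.K := by
    refine P.mem_K_iff.2 ⟨mul_mem (mul_mem hlD hyD) (inv_mem hlD), ?_⟩
    calc t * (l * y * l⁻¹) * t = l * (l⁻¹ * t * l) * y * (l⁻¹ * t * l) * l⁻¹ := by group
      _ = l * (u * y * u) * l⁻¹ := by rw [← hul]; group
      _ = l * (g * (w * x * w) * g⁻¹) * l⁻¹ := by rw [hu, hy]; group
      _ = (l * y * l⁻¹)⁻¹ := by rw [hwx, hy]; group
  have hy1 : l * y * l⁻¹ ≠ 1 := fun h => hx1 (by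
    rw [show x = g⁻¹ * l⁻¹ * (l * y * l⁻¹) * l * g by rw [hy]; group, h]; group)
  have hld : (l * y * l⁻¹) • l • g • d = l • g • d := by
    rw [mul_smul, mul_smul, inv_smul_smul, hy, mul_smul, mul_smul, inv_smul_smul, hxd]
  by_cases hga : l • g • d = a
  · left
    rw [← smul_left_cancel_iff g, hgc, ← smul_left_cancel_iff l, hga]
    exact (Subgroup.mem_inf.1 hlD).1.symm
  · right
    rw [← smul_left_cancel_iff g, hgwc, ← smul_left_cancel_iff l,
      show l • t • a = t • a from (Subgroup.mem_inf.1 hlD).2]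
    obtain ⟨z, hz, hzc, hze⟩ := RankOne.Q_centralizes P.hS (X := {l * y * l⁻¹})
      (Set.singleton_subset_iff.2 (P.K_le hyK)) hga (by
        intro e he; rw [Set.mem_singleton_iff] at he; subst he; exact hld)
    have hz1 := P.K_fpf hyK hy1 hz (Subgroup.mem_centralizer_iff.1 hzc _ rfl)
    rw [hz1, one_smul] at hze
    exact hze.symm

theorem st_ne_one : P.s * t ≠ 1 := fun h =>
  P.hS.not_mem (by rw [show t = P.s⁻¹ from eq_inv_of_mul_eq_one_right h]; exact inv_mem P.hs.1)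

theorem odd_order_st : Odd (orderOf (P.s * t)) :=
  RankOne.odd_orderOf_mul P.hS P.hs.1 P.hs.2.1 P.hs.2.2 P.hS.not_mem P.tt

theorem r_pow_conj (i : ℕ) : (P.r ^ i)⁻¹ * (P.s * t) * P.r ^ i = (P.s * t) ^ (2 ^ i) := by
  induction i with
  | zero => simp
  | succ i ih =>
    have hsq : P.r⁻¹ * (P.s * t) * P.r = (P.s * t) ^ 2 := by rw [pow_two]; exact P.r_conj_st
    have h := conj_pow (a := P.r⁻¹) (b := P.s * t) (i := 2 ^ i)
    rw [inv_inv, hsq, ← pow_mul, ← pow_succ'] at h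
    rw [h, ← ih, pow_succ, mul_inv_rev]
    group

theorem s_conj_st : P.s * (P.s * t) * P.s = (P.s * t)⁻¹ := by
  rw [mul_inv_rev, P.tinv, inv_eq_of_mul_eq_one_right P.hs.2.2, ← mul_assoc, P.hs.2.2, one_mul]

/-- An involution centralising a non-trivial product of two involutions does not exist. -/
theorem eq_one_of_centralizes {w v e : G} (hw1 : w ≠ 1) (hw2 : w * w = 1) (hv1 : v ≠ 1)
    (hv2 : v * v = 1) (hx : (w * v) * (w * v) ≠ 1) (he2 : e * e = 1) (hc : e * (w * v) = w * v * e) :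
    e = 1 := by
  obtain ⟨-, hodd⟩ := RankOne.real_elements P.hS P.h2 hw1 hw2 hv1 hv2 hx
  have h : e ^ Nat.card ↥(Subgroup.centralizer ({w * v} : Set G)) = 1 :=
    congrArg Subtype.val (pow_card_eq_one' (G := ↥(Subgroup.centralizer ({w * v} : Set G)))
      (x := ⟨e, Subgroup.mem_centralizer_singleton_iff.2 hc⟩))
  obtain ⟨j, hj⟩ := hodd
  rw [hj, pow_succ, pow_mul, pow_two, he2, one_pow, one_mul] at h
  exact h

theorem r_eq_or_sq (h4 : P.r ^ 4 = 1) :
    (P.r = P.s ∧ (P.s * t) ^ 3 = 1) ∨ (P.r * P.r = P.s ∧ (P.s * t) ^ 5 = 1) := by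
  obtain ⟨x, hx⟩ : ∃ x, x = P.s * t := ⟨_, rfl⟩
  have hodd : Odd (orderOf x) := hx ▸ P.odd_order_st
  have hx2 : x * x ≠ 1 := fun h => P.st_ne_one (by
    have hdvd : orderOf x ∣ 2 := orderOf_dvd_of_pow_eq_one (by rw [pow_two]; exact h)
    rcases (Nat.dvd_prime Nat.prime_two).1 hdvd with h1 | h1
    · rw [← hx]; exact orderOf_eq_one_iff.1 h1
    · rw [h1] at hodd; exact absurd hodd (by decide))
  have hsconj : P.s * x * P.s = x⁻¹ := by rw [hx]; exact P.s_conj_st
  have hr := fun i => P.r_pow_conj i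
  simp only [← hx] at hr ⊢
  have hsr : P.s * P.r = P.r * P.s := P.E_central P.s_mem_E P.hr
  by_cases hr2 : P.r * P.r = 1
  · left
    have h3 : x ^ 3 = 1 := by
      have := hr 2
      rw [pow_two, hr2, inv_one, one_mul, mul_one] at this
      calc x ^ 3 = x⁻¹ * x ^ (2 ^ 2) := by group
        _ = 1 := by rw [← this]; group
    refine ⟨?_, h3⟩
    have hu2 : P.r * P.s * (P.r * P.s) = 1 := by
      calc P.r * P.s * (P.r * P.s) = P.r * (P.s * P.r) * P.s := by group
        _ = P.r * P.r * (P.s * P.s) := by rw [hsr]; group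
        _ = 1 := by rw [hr2, P.hs.2.2, one_mul]
    have hu : P.r * P.s = 1 := by
      refine P.eq_one_of_centralizes P.s_ne_one P.hs.2.2 P.hS.ne_one P.tt (by rw [← hx]; exact hx2)
        hu2 ?_
      rw [← hx]
      have hrx := hr 1
      rw [pow_one, pow_one] at hrx
      have hri : P.r⁻¹ = P.r := inv_eq_of_mul_eq_one_right hr2
      rw [hri] at hrx
      have h1 : P.r * P.s * x * (P.r * P.s) = x := by
        calc P.r * P.s * x * (P.r * P.s) = P.r * P.s * x * (P.s * P.r) := by rw [hsr]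
          _ = P.r * (P.s * x * P.s) * P.r := by group
          _ = (P.r⁻¹ * x * P.r)⁻¹ := by rw [hsconj, mul_inv_rev, mul_inv_rev, inv_inv, hri]; group
          _ = (x ^ 2)⁻¹ := by rw [hri, hrx]
          _ = x := inv_eq_of_mul_eq_one_right (by rw [← pow_succ]; exact h3)
      calc P.r * P.s * x = P.r * P.s * x * (P.r * P.s * (P.r * P.s)) := by rw [hu2, mul_one]
        _ = (P.r * P.s * x * (P.r * P.s)) * (P.r * P.s) := by group
        _ = x * (P.r * P.s) := by rw [h1]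
    rw [eq_inv_of_mul_eq_one_left hu, inv_eq_of_mul_eq_one_right P.hs.2.2]
  · right
    obtain ⟨ρ, hρ⟩ : ∃ ρ, ρ = P.r * P.r := ⟨_, rfl⟩
    rw [← hρ] at hr2 ⊢
    have hρ2 : ρ * ρ = 1 := by
      rw [hρ]; calc P.r * P.r * (P.r * P.r) = P.r ^ 4 := by simp [pow_succ, mul_assoc]
        _ = 1 := h4
    have hρi : ρ⁻¹ = ρ := inv_eq_of_mul_eq_one_right hρ2
    have hρx : ρ * x * ρ = x ^ 4 := by
      have := hr 2
      rw [pow_two, ← hρ, hρi] at this
      exact this
    have h15 : x ^ 15 = 1 := by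
      have := hr 4
      rw [h4, inv_one, one_mul, mul_one] at this
      calc x ^ 15 = x⁻¹ * x ^ (2 ^ 4) := by group
        _ = 1 := by rw [← this]; group
    have h3 : x ^ 3 ≠ 1 := fun h3 => hr2 (by
      refine P.eq_one_of_centralizes P.s_ne_one P.hs.2.2 P.hS.ne_one P.tt (by rw [← hx]; exact hx2)
        hρ2 ?_
      rw [← hx]
      calc ρ * x = ρ * x * (ρ * ρ) := by rw [hρ2, mul_one]
        _ = x ^ 4 * ρ := by rw [← mul_assoc, hρx]
        _ = x * ρ := by rw [pow_succ, h3, one_mul])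
    obtain ⟨w, hw⟩ : ∃ w, w = t * P.s * t * P.s * t := ⟨_, rfl⟩
    have hy : x ^ 3 = P.s * w := by rw [hx, hw]; simp [pow_succ, mul_assoc]
    have hw2 : w * w = 1 := by
      rw [hw]
      simp only [mul_assoc]
      rw [← mul_assoc t t, P.tt, one_mul, ← mul_assoc P.s P.s, P.hs.2.2, one_mul, ← mul_assoc t t,
        P.tt, one_mul, ← mul_assoc P.s P.s, P.hs.2.2, one_mul, P.tt]
    have hw1 : w ≠ 1 := fun h => P.hS.ne_one (by
      calc t = (t * P.s)⁻¹ * ((t * P.s) * t * (P.s * t)) * (P.s * t)⁻¹ := by group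
        _ = (t * P.s)⁻¹ * w * (P.s * t)⁻¹ := by rw [hw]; group
        _ = 1 := by rw [h, mul_one, ← mul_inv_rev, show P.s * t * (t * P.s) = P.s * (t * t) * P.s by
            group, P.tt, mul_one, P.hs.2.2, inv_one])
    have hy2 : (x ^ 3) * (x ^ 3) ≠ 1 := fun h => h3 (by
      obtain ⟨j, hj⟩ := hodd.pow (n := 1)
      have h6 : x ^ 6 = 1 := by rw [← h]; group
      calc x ^ 3 = x ^ 15 * (x ^ 6)⁻¹ * (x ^ 6)⁻¹ := by group
        _ = 1 := by rw [h15, h6]; group)
    have hsu : P.s * ρ = ρ * P.s := by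
      rw [hρ, ← mul_assoc, hsr, mul_assoc, hsr, ← mul_assoc]
    have hu2 : ρ * P.s * (ρ * P.s) = 1 := by
      calc ρ * P.s * (ρ * P.s) = ρ * (P.s * ρ) * P.s := by group
        _ = ρ * ρ * (P.s * P.s) := by rw [hsu]; group
        _ = 1 := by rw [hρ2, P.hs.2.2, one_mul]
    have hu : ρ * P.s = 1 := by
      refine P.eq_one_of_centralizes P.s_ne_one P.hs.2.2 hw1 hw2 (by rw [← hy]; exact hy2) hu2 ?_
      rw [← hy]
      have h1 : ρ * P.s * x ^ 3 * (ρ * P.s) = x ^ 3 := by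
        have h5 : ρ * P.s * x * (ρ * P.s) = (x ^ 4)⁻¹ := by
          calc ρ * P.s * x * (ρ * P.s) = ρ * P.s * x * (P.s * ρ) := by rw [hsu]
            _ = ρ * (P.s * x * P.s) * ρ := by group
            _ = (ρ⁻¹ * x * ρ⁻¹)⁻¹ := by rw [hsconj]; group
            _ = _ := by rw [hρi, hρx]
        have h6 := conj_pow (a := ρ * P.s) (b := x) (i := 3)
        rw [inv_eq_of_mul_eq_one_right hu2, h5] at h6
        rw [← h6]
        calc ((x ^ 4)⁻¹) ^ 3 = x ^ 3 * (x ^ 15)⁻¹ := by group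
          _ = x ^ 3 := by rw [h15, inv_one, mul_one]
      calc ρ * P.s * x ^ 3 = ρ * P.s * x ^ 3 * (ρ * P.s * (ρ * P.s)) := by rw [hu2, mul_one]
        _ = (ρ * P.s * x ^ 3 * (ρ * P.s)) * (ρ * P.s) := by group
        _ = x ^ 3 * (ρ * P.s) := by rw [h1]
    have hρs : ρ = P.s := by
      rw [eq_inv_of_mul_eq_one_left hu, inv_eq_of_mul_eq_one_right P.hs.2.2]
    refine ⟨hρs, ?_⟩
    rw [hρs, hsconj] at hρx
    calc x ^ 5 = x * x ^ 4 := by group
      _ = 1 := by rw [← hρx]; group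

/-- In the second case `K` has no element of order three. -/
theorem not_three_dvd (hrr : P.r * P.r = P.s) : ¬ 3 ∣ Nat.card P.K := by
  intro h3
  haveI : Fact (Nat.Prime 3) := ⟨Nat.prime_three⟩
  obtain ⟨⟨k, hk⟩, hko⟩ := exists_prime_orderOf_dvd_card' 3 h3
  rw [Subgroup.orderOf_mk] at hko
  have hk3 : k ^ 3 = 1 := by rw [← hko, pow_orderOf_eq_one]
  have hk1 : k ≠ 1 := fun h => by rw [h, orderOf_one] at hko; omega
  have hkk1 : k * k ≠ 1 := fun h => hk1 (by
    calc k = k ^ 3 * (k * k)⁻¹ := by group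
      _ = 1 := by rw [hk3, h, inv_one, mul_one])
  have hkkk : k * k * k = 1 := by rw [← pow_two, ← pow_succ, hk3]
  have hki : k⁻¹ = k * k := inv_eq_of_mul_eq_one_right (by rw [← mul_assoc, hkkk])
  obtain ⟨e, he⟩ : ∃ e, e = k * P.s * k⁻¹ := ⟨_, rfl⟩
  obtain ⟨e', he'⟩ : ∃ e', e' = k * k * P.s * (k * k)⁻¹ := ⟨_, rfl⟩
  have heE : e ∈ P.E := he ▸ P.D_norm_E (P.K_le hk) P.s_mem_E
  have heE' : e' ∈ P.E := he' ▸ P.D_norm_E (P.K_le (mul_mem hk hk)) P.s_mem_E
  have hsum : P.s * e * e' = 1 := by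
    refine P.K_fpf hk hk1 (P.E_le (mul_mem (mul_mem P.s_mem_E heE) heE')) ?_
    have h1 : k * P.s = e * k := by rw [he]; group
    have h2 : k * e = e' * k := by rw [he, he']; group
    have h3' : k * e' = P.s * k := by
      rw [he', show k * (k * k * P.s * (k * k)⁻¹) = k * k * k * P.s * (k * k)⁻¹ by group, hkkk,
        one_mul, mul_inv_rev, hki]
      calc P.s * (k * k * (k * k)) = P.s * (k * k * k) * k := by group
        _ = P.s * k := by rw [hkkk, mul_one]
    calc k * (P.s * e * e') = (k * P.s) * e * e' := by group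
      _ = e * (k * e) * e' := by rw [h1]; group
      _ = e * e' * (k * e') := by rw [h2]; group
      _ = e * e' * P.s * k := by rw [h3']; group
      _ = P.s * e * e' * k := by rw [← P.E_comm P.s_mem_E (mul_mem heE heE')]; group
  have hse : P.s * e = e' := by
    rw [eq_inv_of_mul_eq_one_left hsum, P.E_inv heE']
  have hse' : P.s * e' = e := by rw [← hse, ← mul_assoc, P.hs.2.2, one_mul]
  have hri : P.r⁻¹ = P.r * P.s :=
    inv_eq_of_mul_eq_one_right (by rw [← mul_assoc, hrr, P.hs.2.2])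
  have hne : ∀ d ∈ P.E, P.r * d ≠ 1 := fun d hd h => by
    have hrd : P.r ∈ P.E := by rw [eq_inv_of_mul_eq_one_left h]; exact inv_mem hd
    exact P.s_ne_one (by rw [← hrr, P.E_sq hrd])
  have step : ∀ d d' : G, d ∈ P.E → d' ∈ P.E → P.s * d = d' →
      P.g (P.r * d) = (P.f (P.r * d'))⁻¹ := by
    intro d d' hd hd' hdd
    have hinv : (P.r * d')⁻¹ = P.r * d := by
      rw [mul_inv_rev, P.E_inv hd', hri, P.E_central hd' (mul_mem P.hr P.s_mem_Q), mul_assoc, ← hdd,
        ← mul_assoc P.s, P.hs.2.2, one_mul]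
    have := (P.parts_inv (mul_mem P.hr (P.E_le hd')) (hne _ hd')).1
    rwa [hinv] at this
  obtain ⟨-, hf⟩ := P.parts_r_mul hk (he ▸ hne _ heE)
  obtain ⟨-, hf'⟩ := P.parts_r_mul (mul_mem hk hk) (he' ▸ hne _ heE')
  rw [← he, step e e' heE heE' hse, inv_inv] at hf
  rw [← he', step e' e heE' heE hse', inv_inv] at hf'
  rw [hf'] at hf
  have h6 : P.r * (k * k) * P.r * k = 1 := by
    have h := congrArg (fun z => (P.f (P.r * e))⁻¹ * z) hf
    simp only [inv_mul_cancel] at h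
    refine (h.trans ?_).symm
    calc (P.f (P.r * e))⁻¹ * (k⁻¹ * ((k * k)⁻¹ * (P.f (P.r * e) * P.r) * (k * k) * P.r) * k)
        = (P.f (P.r * e))⁻¹ * (k * k * k)⁻¹ * P.f (P.r * e) * (P.r * (k * k) * P.r * k) := by group
      _ = _ := by rw [hkkk]; group
  rw [← hki] at h6
  have h7 : k⁻¹ * P.r * k = P.r⁻¹ := eq_inv_of_mul_eq_one_right (by rw [← mul_assoc, ← mul_assoc]; exact h6)
  have h8 : (k * k) * P.r = P.r * (k * k) := by
    have h9 : (k * k)⁻¹ * P.r * (k * k) = P.r := by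
      calc (k * k)⁻¹ * P.r * (k * k) = k⁻¹ * (k⁻¹ * P.r * k) * k := by group
        _ = (k⁻¹ * P.r * k)⁻¹ := by nth_rewrite 1 [h7]; group
        _ = P.r := by rw [h7, inv_inv]
    conv_lhs => rw [← h9]
    group
  exact P.r_ne_one (P.K_fpf (mul_mem hk hk) hkk1 P.hr h8)

/-- In the second case `q` is an odd power of two and `|Q| ≠ q ^ 3`. -/
theorem card_ne_cube (hrr : P.r * P.r = P.s) (h5 : (P.s * t) ^ 5 = 1) : Nat.card Q ≠ P.q ^ 3 := by
  intro hn
  haveI : Fact (Nat.Prime 5) := ⟨Nat.prime_five⟩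
  haveI := RankOne.finite_points P.hS
  obtain ⟨p, hp2, hq⟩ := P.exists_q_eq
  have hpodd : Odd p := by
    by_contra hev
    rw [Nat.not_odd_iff_even] at hev
    obtain ⟨j, rfl⟩ := hev
    apply P.not_three_dvd hrr
    have hK := P.card_K_add_one
    rw [hq] at hK
    have h4 : 4 ^ j % 3 = 1 := by simp [Nat.pow_mod]
    have h22 : (2 : ℕ) ^ (j + j) = 4 ^ j := by rw [← two_mul, pow_mul]; norm_num
    omega
  obtain ⟨x, hx⟩ : ∃ x, x = P.s * t := ⟨_, rfl⟩
  rw [← hx] at h5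
  have hp5 : IsPGroup 5 (Subgroup.zpowers x) :=
    IsPGroup.of_card (n := 1) (by
      rw [Nat.card_zpowers, pow_one]; exact orderOf_eq_prime h5 (hx ▸ P.st_ne_one))
  have hfix : IsEmpty (MulAction.fixedPoints (Subgroup.zpowers x) Ω) := by
    refine ⟨fun ⟨c, hc⟩ => ?_⟩
    have hxc : x • c = c := hc ⟨x, Subgroup.mem_zpowers x⟩
    have hsc : P.s • c ≠ c := by
      intro h
      have hca : c = a := RankOne.fixed_eq_of_involution P.hS P.hs.1 P.hs.2.1 P.hs.2.2 h
      subst hca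
      rw [hx, mul_smul] at hxc
      have h' := congrArg (P.s • ·) hxc
      simp only [← mul_smul P.s P.s, P.hs.2.2, one_smul, h] at h'
      exact RankOne.ta_ne P.hS h'
    have hsx : P.s * x * P.s = x⁻¹ := by rw [hx]; exact P.s_conj_st
    have hrx : P.r⁻¹ * x * P.r = x * x := by rw [hx]; exact P.r_conj_st
    have hxrc : x • P.r • c = P.r • c := by
      calc x • P.r • c = P.r • (P.r⁻¹ * x * P.r) • c := by
            rw [← mul_smul, ← mul_smul]; congr 1; group
        _ = P.r • c := by rw [hrx, mul_smul, hxc, hxc]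
    have hrrc : P.r • P.r • c = P.s • c := by rw [← mul_smul, hrr]
    rcases P.fixed_pair P.s_ne_one P.hs.2.2 hsx (hx ▸ P.st_ne_one) hxc hsc hxrc with h | h
    · rw [h, h] at hrrc; exact hsc hrrc.symm
    · rw [h, ← mul_smul, ← P.E_central P.s_mem_E P.hr, mul_smul, h, ← mul_smul, P.hs.2.2,
        one_smul] at hrrc
      exact hsc hrrc.symm
  have hmod := hp5.card_modEq_card_fixedPoints Ω
  have hF : Nat.card (MulAction.fixedPoints (Subgroup.zpowers x) Ω) = 0 := Nat.card_of_isEmpty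
  rw [hF, RankOne.card_points P.hS, hn, hq, ← pow_mul] at hmod
  obtain ⟨j, rfl⟩ := hpodd
  have h2 : 2 ^ ((2 * j + 1) * 3) = 8 * 64 ^ j := by
    rw [show (2 * j + 1) * 3 = 3 + 6 * j by ring, pow_add, pow_mul]; norm_num
  rw [h2, Nat.ModEq] at hmod
  have h64 : ∀ i : ℕ, 64 ^ i % 5 = 1 ∨ 64 ^ i % 5 = 4 := by
    intro i
    induction i with
    | zero => left; rfl
    | succ i ih =>
      rw [pow_succ, Nat.mul_mod]
      rcases ih with h | h <;> rw [h] <;> simp
  rcases h64 j with h | h <;> omega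

end Frame

end CfsgLib.SuzukiThm
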