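import Cfsg.Prelude.Def_OddOrderChar
import Cfsg.Agent.RealChars.Basic
import Cfsg.Agent.Characters.FixedPoints
import Cfsg.Agent.OddOrderChar.Reciprocity
import Cfsg.Agent.S0188

/-!
# Character toolbox for Suzuki's theorem: fixed characters, degree bounds, products
-/

set_option autoImplicit false
set_option linter.unusedSectionVars false

namespace CfsgLib.SuzukiThm

open Cfsg CfsgLib.Characters
open scoped ComplexConjugate

universe u v w

variable {X : Type u} [Group X] [Finite X]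

theorem comp_mulAut_irr (σ : MulAut X) (χ : X → ℂ) (h : Cfsg.IsIrrCharacter X χ) :
    Cfsg.IsIrrCharacter X (χ ∘ σ) :=
  letI := Fintype.ofFinite X
  CfsgLib.OddOrderChar.isIrrCharacter_comp_equiv (G := X) (H := X) σ h

/-- As many fixed irreducible characters as fixed classes. -/
theorem card_irr_fixed (σ : MulAut X) :
    Nat.card {χ : Cfsg.IrrCharacter X // χ.1 ∘ σ = χ.1} =
      Nat.card {C : ConjClasses X // ∀ y, ConjClasses.mk y = C → IsConj (σ y) y} :=
  CfsgLib.RealChars.card_fixed_eq (fun x => σ x) (fun {_ _} h => σ.toMonoidHom.map_isConj h)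
    (comp_mulAut_irr σ)

/-- A fixed-point-free automorphism fixes only the principal character. -/
theorem irr_eq_one_of_fixed (σ : MulAut X) (h : ∀ x, σ x = x → x = 1) (χ : Cfsg.IrrCharacter X)
    (hχ : χ.1 ∘ σ = χ.1) : χ.1 = fun _ => 1 := by
  have hbij : Function.Bijective fun w : X => (σ w)⁻¹ * w := by
    refine Finite.injective_iff_bijective.1 fun w w' e => ?_
    have e' : σ (w' * w⁻¹) = w' * w⁻¹ := by
      rw [map_mul, map_inv]
      calc σ w' * (σ w)⁻¹ = σ w' * ((σ w)⁻¹ * w) * w⁻¹ := by group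
        _ = σ w' * ((σ w')⁻¹ * w') * w⁻¹ := by
          rw [show (σ w)⁻¹ * w = (σ w')⁻¹ * w' from e]
        _ = _ := by group
    exact (mul_inv_eq_one.1 (h _ e')).symm
  have hclass : ∀ C : {C : ConjClasses X // ∀ y, ConjClasses.mk y = C → IsConj (σ y) y},
      C.1 = ConjClasses.mk 1 := by
    rintro ⟨C, hC⟩
    obtain ⟨c, rfl⟩ := ConjClasses.mk_surjective C
    obtain ⟨y, hy⟩ := isConj_iff.1 (hC c rfl).symm
    obtain ⟨w, rfl⟩ := hbij.2 y
    -- `hy : y * c * y⁻¹ = σ c`
    have e : σ (w * c * w⁻¹) = w * c * w⁻¹ := by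
      rw [map_mul, map_mul, map_inv, ← hy]
      group
    have h1 := h _ e
    exact congrArg ConjClasses.mk (by rw [show c = w⁻¹ * (w * c * w⁻¹) * w by group, h1]; group)
  have hsub : Subsingleton {C : ConjClasses X // ∀ y, ConjClasses.mk y = C → IsConj (σ y) y} :=
    ⟨fun a b => Subtype.ext ((hclass a).trans (hclass b).symm)⟩
  have hle : Nat.card {χ : Cfsg.IrrCharacter X // χ.1 ∘ σ = χ.1} ≤ 1 := by
    rw [card_irr_fixed]; exact Finite.card_le_one_iff_subsingleton.2 hsub
  haveI := Finite.card_le_one_iff_subsingleton.1 hle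
  exact congrArg (fun x : {χ : Cfsg.IrrCharacter X // χ.1 ∘ σ = χ.1} => x.1.1)
    (Subsingleton.elim (⟨χ, hχ⟩ : {χ : Cfsg.IrrCharacter X // χ.1 ∘ σ = χ.1})
      ⟨⟨fun _ => 1, isIrr_one⟩, rfl⟩)

/-- For abelian groups: as many fixed characters as fixed points. -/
theorem card_irr_fixed_comm (hab : ∀ x y : X, x * y = y * x) (σ : MulAut X) :
    Nat.card {χ : Cfsg.IrrCharacter X // χ.1 ∘ σ = χ.1} = Nat.card {x : X // σ x = x} := by
  rw [card_irr_fixed]
  have hc : ∀ x y : X, IsConj x y ↔ x = y := fun x y => by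
    refine ⟨fun hxy => ?_, fun e => e ▸ IsConj.refl x⟩
    obtain ⟨c, hc⟩ := isConj_iff.1 hxy
    rw [← hc, hab c x, mul_inv_cancel_right]
  refine (Nat.card_eq_of_bijective
    (fun x : {x : X // σ x = x} => (⟨ConjClasses.mk x.1, fun y hy => by
      rw [ConjClasses.mk_eq_mk_iff_isConj, hc] at hy
      rw [hy, x.2]⟩ : {C : ConjClasses X // ∀ y, ConjClasses.mk y = C → IsConj (σ y) y})) ⟨?_, ?_⟩).symm
  · rintro ⟨x, hx⟩ ⟨y, hy⟩ e
    exact Subtype.ext ((hc x y).1 (ConjClasses.mk_eq_mk_iff_isConj.1 (congrArg Subtype.val e)))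
  · rintro ⟨C, hC⟩
    obtain ⟨c, rfl⟩ := ConjClasses.mk_surjective C
    exact ⟨⟨c, (hc _ _).1 (hC c rfl)⟩, rfl⟩

/-- The square of a degree is at most the index of a central subgroup. -/
theorem sq_degree_mul_le (Z : Subgroup X) (hZ : Z ≤ Subgroup.center X) (χ : Cfsg.IrrCharacter X) :
    (χ.1 1).re ^ 2 * Nat.card Z ≤ Nat.card X := by
  classical
  haveI := Fintype.ofFinite X
  haveI := Fintype.ofFinite Z
  obtain ⟨χ, n, ρ, hρ, rfl⟩ := χ
  have hnorm : ∀ z : Z, ‖ρ.character (z : X)‖ = (ρ.character 1).re := fun z => by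
    rw [(norm_char_eq_iff_scalar ρ (z : X)).2 (central_scalar ρ (hZ z.2)), Representation.char_one,
      Complex.natCast_re]
  have h1 := classInner_isIrr_self (χ := ρ.character) ⟨n, ρ, hρ, rfl⟩
  have hsum : ∑ x : X, ‖ρ.character x‖ ^ 2 = (Nat.card X : ℝ) := by
    have h2 : (∑ x : X, ρ.character x * conj (ρ.character x)) = (Nat.card X : ℂ) := by
      have h3 : (Nat.card X : ℂ)⁻¹ * ∑ x : X, ρ.character x * conj (ρ.character x) = 1 := h1
      have h4 : (Nat.card X : ℂ) ≠ 0 := natCard_ne_zero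
      field_simp at h3
      linear_combination h3
    have h5 : ∀ x : X, ρ.character x * conj (ρ.character x) = ((‖ρ.character x‖ ^ 2 : ℝ) : ℂ) :=
      fun x => by rw [Complex.mul_conj', Complex.ofReal_pow]
    rw [Finset.sum_congr rfl fun x _ => h5 x, ← Complex.ofReal_sum] at h2
    exact_mod_cast h2
  calc (ρ.character 1).re ^ 2 * Nat.card Z = ∑ z : Z, ‖ρ.character (z : X)‖ ^ 2 := by
        rw [Finset.sum_congr rfl fun z _ => by rw [hnorm z], Finset.sum_const, Finset.card_univ,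
          nsmul_eq_mul, Nat.card_eq_fintype_card, mul_comm]
    _ = ∑ x ∈ Finset.univ.map (Function.Embedding.subtype _), ‖ρ.character x‖ ^ 2 := by
        rw [Finset.sum_map]; rfl
    _ ≤ ∑ x : X, ‖ρ.character x‖ ^ 2 :=
        Finset.sum_le_univ_sum_of_nonneg fun x => sq_nonneg _
    _ = _ := hsum

/-- An irreducible character trivial on a subgroup containing all commutators is linear. -/
theorem linear_of_trivial (Z : Subgroup X) (hc : ∀ x y : X, x * y * x⁻¹ * y⁻¹ ∈ Z)
    (χ : Cfsg.IrrCharacter X) (ht : ∀ z ∈ Z, χ.1 z = χ.1 1) : χ.1 1 = 1 := by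
  haveI := Fintype.ofFinite X
  obtain ⟨χ, n, ρ, hρ, rfl⟩ := χ
  have hkey : ∀ x, ∃ c : ℂ, ρ x = c • LinearMap.id := by
    intro x
    refine schur_scalar ρ _ fun g v => ?_
    have hz : ρ (x * g * x⁻¹ * g⁻¹) = LinearMap.id :=
      (char_eq_finrank_iff ρ _).1 ((ht _ (hc x g)).trans (Representation.char_one ρ))
    have e : ρ (x * g) = ρ (g * x) := by
      rw [show x * g = x * g * x⁻¹ * g⁻¹ * (g * x) by group, map_mul, hz]
      rfl
    rw [map_mul, map_mul] at e
    exact LinearMap.congr_fun e v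
  have h1 := classInner_isIrr_self (χ := ρ.character) ⟨n, ρ, hρ, rfl⟩
  have hn : ∀ x : X, ρ.character x * conj (ρ.character x) = (n : ℂ) ^ 2 := fun x => by
    rw [Complex.mul_conj', (norm_char_eq_iff_scalar ρ x).2 (hkey x), Module.finrank_fin_fun,
      Complex.ofReal_natCast]
  have h3 : (Nat.card X : ℂ)⁻¹ * ∑ x : X, ρ.character x * conj (ρ.character x) = 1 := h1
  rw [Finset.sum_congr rfl fun x _ => hn x, Finset.sum_const, Finset.card_univ,
    ← Nat.card_eq_fintype_card, nsmul_eq_mul, ← mul_assoc,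
    inv_mul_cancel₀ (natCard_ne_zero (G := X)), one_mul] at h3
  have h4 : n ^ 2 = 1 := by exact_mod_cast h3
  show ρ.character 1 = 1
  rw [Representation.char_one, Module.finrank_fin_fun, (Nat.pow_eq_one.1 h4).resolve_right (by norm_num)]
  exact Nat.cast_one

section Pair

variable {A : Type v} [Group A] [Finite A] {B : Type w} [Group B] [Finite B]

/-- The product of characters of two direct factors. -/
noncomputable def pairIrr (e : A × B ≃* X) (π : Cfsg.IrrCharacter A) (ψ : Cfsg.IrrCharacter B) :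
    Cfsg.IrrCharacter X :=
  letI := Fintype.ofFinite A
  letI := Fintype.ofFinite B
  ⟨fun x => (fun y : A × B => π.1 y.1 * ψ.1 y.2) (e.symm x),
    CfsgLib.OddOrderChar.isIrrCharacter_comp_equiv e.symm
      ((Cfsg.Agent.S0188.result _).2 ⟨π.1, ψ.1, π.2, ψ.2, rfl⟩)⟩

theorem pairIrr_apply (e : A × B ≃* X) (π : Cfsg.IrrCharacter A) (ψ : Cfsg.IrrCharacter B) (x : X) :
    (pairIrr e π ψ).1 x = π.1 (e.symm x).1 * ψ.1 (e.symm x).2 := rfl

theorem pairIrr_injective (e : A × B ≃* X) {π π' : Cfsg.IrrCharacter A} {ψ ψ' : Cfsg.IrrCharacter B}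
    (h : pairIrr e π ψ = pairIrr e π' ψ') : π = π' ∧ ψ = ψ' := by
  haveI := Fintype.ofFinite A
  haveI := Fintype.ofFinite B
  have hp : ∀ a b, π.1 a * ψ.1 b = π'.1 a * ψ'.1 b := fun a b => by
    have h' := congrFun (congrArg Subtype.val h) (e (a, b))
    simpa [pairIrr_apply] using h'
  obtain ⟨i, hi, hi'⟩ := exists_degree_pos π.2
  obtain ⟨i', hi1, hi1'⟩ := exists_degree_pos π'.2
  have hψ0 : ψ.1 1 ≠ 0 := irr_one_ne_zero ψ.2
  have hπ : π = π' := by
    by_contra hne
    have h1 := classInner_isIrr_ne π.2 π'.2 fun e => hne (Subtype.ext e)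
    have e2 : π.1 = (ψ'.1 1 / ψ.1 1) • π'.1 := funext fun a => by
      rw [Pi.smul_apply, smul_eq_mul, div_mul_eq_mul_div, eq_div_iff hψ0, hp a 1, mul_comm]
    rw [e2, classInner_smul_left, classInner_isIrr_self π'.2, mul_one] at h1
    exact div_ne_zero (irr_one_ne_zero ψ'.2) hψ0 h1
  subst hπ
  exact ⟨rfl, Subtype.ext (funext fun b => mul_left_cancel₀ (irr_one_ne_zero π.2) (hp 1 b))⟩

end Pair

/-- In a group of odd order only the principal character is real. -/
theorem conjFun_ne_of_odd (hodd : Odd (Nat.card X)) (χ : Cfsg.IrrCharacter X)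
    (h1 : χ.1 ≠ fun _ => 1) : Cfsg.conjFun χ.1 ≠ χ.1 := by
  haveI := Fintype.ofFinite X
  intro h
  refine h1 (eq_one_of_real_of_odd hodd χ.2 fun g => ?_)
  exact Complex.conj_eq_iff_im.1 (congrFun h g)

/-- The sum of the squares of the degrees. -/
theorem sum_re_sq_degree [Fintype (Cfsg.IrrCharacter X)] :
    ∑ χ : Cfsg.IrrCharacter X, (χ.1 1).re ^ 2 = Nat.card X := by
  haveI := Fintype.ofFinite X
  have h := congrArg Complex.re (sum_degree_sq (G := X))
  rw [Complex.re_sum, Complex.natCast_re] at h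
  refine (Finset.sum_congr (Finset.ext fun _ => by simp) fun χ _ => ?_).trans h
  obtain ⟨n, -, hn⟩ := exists_degree_pos χ.2
  rw [hn]; norm_cast

end CfsgLib.SuzukiThm
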