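import Cfsg.Agent.SuzukiTheorem.CharFamily
import Cfsg.Agent.SuzukiTheorem.AbelianSquare
import Cfsg.Agent.SuzukiTheorem.FixedIrr
import Cfsg.Agent.SuzukiTheorem.Cases
import Cfsg.Agent.TwoClasses.Tools

/-!
# Suzuki's theorem: an abelian 2-group `Q` has order `q`

An element of `D` outside `K` fixes at most the cube root of a `D`-invariant subgroup of `Q`, so most
linear characters of `Q` have trivial stabiliser in `D`; the character bound then forces `|Q| = q`.
-/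

set_option autoImplicit false
set_option linter.unusedSectionVars false
set_option linter.style.haveILetI false

namespace CfsgLib.SuzukiThm

open CfsgLib
open Subgroup (centralizer)

universe u v w

/-- A counting lemma: twice the non-trivial characters of an abelian group with a non-trivial
stabiliser. -/
theorem two_mul_card_fixed_le {X : Type u} [Group X] [Finite X] (hab : ∀ x y : X, x * y = y * x)
    {D : Type w} [Group D] [Finite D] (hD : Odd (Nat.card D)) (σ : D →* MulAut X) (K : Subgroup D)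
    (hfpf : ∀ k ∈ K, k ≠ 1 → ∀ x, σ k x = x → x = 1) (B : ℕ)
    (hB : ∀ d ∉ K, Nat.card {x : X // σ d x = x} ≤ B) :
    2 * Nat.card {χ : Cfsg.IrrCharacter X //
        χ.1 ≠ (fun _ => 1) ∧ ∃ d, d ≠ 1 ∧ χ.1 ∘ σ d = χ.1} ≤
      (Nat.card D - Nat.card K) * B := by
  classical
  letI : Fintype D := Fintype.ofFinite D
  let S := {χ : Cfsg.IrrCharacter X // χ.1 ≠ (fun _ => 1) ∧ ∃ d, d ≠ 1 ∧ χ.1 ∘ σ d = χ.1}
  let Pairs := Σ d : {d : D // d ∉ K}, {χ : Cfsg.IrrCharacter X // χ.1 ∘ σ d.1 = χ.1}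
  have hinvfix : ∀ (d : D) (χ : Cfsg.IrrCharacter X), χ.1 ∘ σ d = χ.1 → χ.1 ∘ σ d⁻¹ = χ.1 := by
    intro d χ h
    funext x
    have h' := congrFun h (σ d⁻¹ x)
    simp only [Function.comp_apply, ← MulAut.mul_apply, ← map_mul, mul_inv_cancel, map_one,
      MulAut.one_apply] at h'
    exact h'.symm
  have hnot : ∀ (d : D) (χ : Cfsg.IrrCharacter X), χ.1 ≠ (fun _ => 1) → d ≠ 1 →
      χ.1 ∘ σ d = χ.1 → d ∉ K := fun d χ h1 hd h hk =>
    h1 (irr_eq_one_of_fixed (σ d) (hfpf d hk hd) χ h)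
  have hwit : ∀ χ : S, ∃ d : {d : D // d ∉ K}, χ.1.1 ∘ σ d.1 = χ.1.1 := fun χ => by
    obtain ⟨h1, d, hd, h⟩ := χ.2
    exact ⟨⟨d, hnot d χ.1 h1 hd h⟩, h⟩
  choose dd hdd using hwit
  let f : S × Bool → Pairs := fun p =>
    bif p.2 then ⟨dd p.1, p.1.1, hdd p.1⟩
    else ⟨⟨(dd p.1).1⁻¹, fun h => (dd p.1).2 (inv_mem_iff.1 h)⟩, p.1.1, hinvfix _ _ (hdd p.1)⟩
  have hne : ∀ d : {d : D // d ∉ K}, d.1 ≠ d.1⁻¹ := by
    intro d h
    apply d.2
    obtain ⟨j, hj⟩ := hD
    have h2 : d.1 ^ 2 = 1 := by rw [pow_two]; exact mul_eq_one_iff_eq_inv.2 h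
    have h1 : d.1 ^ Nat.card D = 1 := pow_card_eq_one'
    rw [hj, pow_succ, pow_mul, h2, one_pow, one_mul] at h1
    rw [h1]; exact one_mem _
  have hf : Function.Injective f := by
    rintro ⟨χ, b⟩ ⟨χ', b'⟩ h
    have hχ : χ = χ' := by
      have h' := congrArg (fun z : Pairs => z.2.1) h
      cases b <;> cases b' <;> exact Subtype.ext h'
    subst hχ
    have h' := congrArg (fun z : Pairs => z.1.1) h
    cases b <;> cases b'
    · rfl
    · exact absurd h'.symm (hne _)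
    · exact absurd h' (hne _)
    · rfl
  calc 2 * Nat.card S = Nat.card (S × Bool) := by
        rw [Nat.card_prod, Nat.card_eq_fintype_card (α := Bool), Fintype.card_bool, mul_comm]
    _ ≤ Nat.card Pairs := Nat.card_le_card_of_injective f hf
    _ = ∑ d : {d : D // d ∉ K}, Nat.card {χ : Cfsg.IrrCharacter X // χ.1 ∘ σ d.1 = χ.1} :=
        Nat.card_sigma
    _ ≤ ∑ _d : {d : D // d ∉ K}, B := Finset.sum_le_sum fun d _ => by
        rw [card_irr_fixed_comm hab]; exact hB d.1 d.2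
    _ = (Nat.card D - Nat.card K) * B := by
        rw [Finset.sum_const, Finset.card_univ, smul_eq_mul]
        congr 1
        rw [Fintype.card_subtype_compl, Nat.card_eq_fintype_card, Nat.card_eq_fintype_card (α := K)]

/-- The characters of an abelian group: their number and degrees. -/
theorem irr_comm {X : Type u} [Group X] [Finite X] (hab : ∀ x y : X, x * y = y * x) :
    Nat.card (Cfsg.IrrCharacter X) = Nat.card X ∧ ∀ χ : Cfsg.IrrCharacter X, χ.1 1 = 1 := by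
  haveI := Fintype.ofFinite X
  refine ⟨?_, fun χ => TwoClasses.irr_degree_one_of_comm (G := X) hab χ.2⟩
  have h := card_irr_fixed_comm hab (1 : MulAut X)
  exact ((Nat.card_congr (Equiv.subtypeUnivEquiv
      (p := fun χ : Cfsg.IrrCharacter X => χ.1 ∘ ⇑(1 : MulAut X) = χ.1) fun χ => rfl)).symm.trans h).trans
    (Nat.card_congr (Equiv.subtypeUnivEquiv (p := fun x : X => (1 : MulAut X) x = x) fun x => rfl))

theorem eight_mul_pred_cube_le : ∀ p : ℕ, 8 * (p - 1) ^ 3 ≤ 27 * 2 ^ p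
  | 0 => by norm_num
  | 1 => by norm_num
  | 2 => by norm_num
  | 3 => by norm_num
  | 4 => by norm_num
  | 5 => by norm_num
  | n + 6 => by
    have ih := eight_mul_pred_cube_le (n + 5)
    simp only [show n + 6 - 1 = n + 5 from rfl, show n + 5 - 1 = n + 4 from rfl] at ih ⊢
    rw [pow_succ 2 (n + 5)]
    nlinarith [ih, mul_nonneg (Nat.zero_le (n ^ 2)) (Nat.zero_le n)]

variable {G : Type u} {Ω : Type v} [Group G] [MulAction G Ω] [Finite G] {a : Ω} {t : G} {Q : Subgroup G}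

namespace Frame

variable (P : Frame a t Q)

include P

theorem invariant_meets_E {A : Subgroup G} (hAQ : A ≤ Q) (hA : A ≠ ⊥) (hQ2 : IsPGroup 2 Q)
    (hAn : ∀ d ∈ pairD G a t, ∀ x ∈ A, d * x * d⁻¹ ∈ A) : P.E ≤ A := by
  haveI : Fact (Nat.Prime 2) := ⟨Nat.prime_two⟩
  haveI : Nontrivial A := (Subgroup.nontrivial_iff_ne_bot A).2 hA
  have hA2 : IsPGroup 2 A := hQ2.to_le hAQ
  obtain ⟨j, hj0, hj⟩ := IsPGroup.nontrivial_iff_card hA2 |>.1 inferInstance
  obtain ⟨⟨e, he⟩, heo⟩ := exists_prime_orderOf_dvd_card' (G := A) 2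
    (hj ▸ dvd_pow_self 2 hj0.ne')
  rw [Subgroup.orderOf_mk] at heo
  have he2 : e * e = 1 := by rw [← pow_two, ← heo, pow_orderOf_eq_one]
  have he1 : e ≠ 1 := fun h => by rw [h, orderOf_one] at heo; exact absurd heo (by norm_num)
  intro e' he'
  rcases eq_or_ne e' 1 with rfl | he'1
  · exact one_mem _
  obtain ⟨k, hk, hke⟩ := P.exists_conj_K (P.mem_E_of_mem_Q (hAQ he) he2) he1 he' he'1
  exact hke ▸ hAn k (P.K_le hk) e he

/-- An element of `D` centralising `E` centralises an abelian 2-group `Q`. -/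
theorem eq_one_of_centralizes_E [FaithfulSMul G Ω] (hQ2 : IsPGroup 2 Q)
    (hab : ∀ x ∈ Q, ∀ y ∈ Q, x * y = y * x) {d : G} (hd : d ∈ pairD G a t)
    (hE : ∀ e ∈ P.E, d * e * d⁻¹ = e) : d = 1 := by
  have key : ∀ k : ℕ, ∀ x ∈ Q, x ^ (2 ^ k) = 1 → d * x * d⁻¹ = x := by
    intro k
    induction k with
    | zero => intro x _ h; rw [pow_zero, pow_one] at h; rw [h]; group
    | succ k ih =>
      intro x hx h
      have hxx : d * (x * x) * d⁻¹ = x * x := ih _ (mul_mem hx hx) (by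
        rw [← pow_two, ← pow_mul, ← pow_succ']; exact h)
      have hdx : d * x * d⁻¹ ∈ Q := RankOne.D_norm_Q P.hS hd hx
      obtain ⟨e, he⟩ : ∃ e, e = x⁻¹ * (d * x * d⁻¹) := ⟨_, rfl⟩
      have hee : e * e = 1 := by
        rw [he, show x⁻¹ * (d * x * d⁻¹) * (x⁻¹ * (d * x * d⁻¹)) =
          x⁻¹ * ((d * x * d⁻¹) * x⁻¹) * (d * x * d⁻¹) by group, hab _ hdx _ (inv_mem hx),
          show x⁻¹ * (x⁻¹ * (d * x * d⁻¹)) * (d * x * d⁻¹) = (x * x)⁻¹ * (d * (x * x) * d⁻¹) by group,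
          hxx, inv_mul_cancel]
      have heE : e ∈ P.E := P.mem_E_of_mem_Q (he ▸ mul_mem (inv_mem hx) hdx) hee
      have hiter : ∀ i : ℕ, d ^ i * x * (d ^ i)⁻¹ = x * e ^ i := by
        intro i
        induction i with
        | zero => group
        | succ i ih' =>
          calc d ^ (i + 1) * x * (d ^ (i + 1))⁻¹ = d * (d ^ i * x * (d ^ i)⁻¹) * d⁻¹ := by group
            _ = (d * x * d⁻¹) * (d * e * d⁻¹) ^ i := by rw [ih', conj_pow]; group
            _ = x * e * e ^ i := by rw [hE e heE, he]; group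
            _ = x * e ^ (i + 1) := by rw [mul_assoc, pow_succ']
      obtain ⟨j, hj⟩ := P.hS.odd_card
      have h1 := hiter (Nat.card ↥(pairD G a t))
      rw [show d ^ Nat.card ↥(pairD G a t) = 1 from congrArg Subtype.val
        (pow_card_eq_one' (G := ↥(pairD G a t)) (x := ⟨d, hd⟩)), hj, pow_succ, pow_mul, pow_two, hee,
        one_pow, one_mul, one_mul, inv_one, mul_one] at h1
      have he1 : e = 1 := mul_eq_left.1 h1.symm
      rw [he] at he1
      exact (inv_mul_eq_one.1 he1).symm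
  have hall : ∀ x ∈ Q, d * x * d⁻¹ = x := fun x hx => by
    obtain ⟨k, hk⟩ := hQ2 ⟨x, hx⟩
    exact key k x hx (congrArg Subtype.val hk)
  refine eq_of_smul_eq_smul fun c : Ω => ?_
  rw [one_smul]
  by_cases hc : c = a
  · rw [hc]; exact (Subgroup.mem_inf.1 hd).1
  · obtain ⟨x, hx, rfl⟩ := RankOne.exists_Q_smul P.hS hc
    rw [← mul_smul, show d * x = x * d from mul_inv_eq_iff_eq_mul.1 (hall x hx), mul_smul,
      (Subgroup.mem_inf.1 hd).2]

/-- `C_D(t)`. -/
theorem comm_s_of_comm_t {d : G} (hd : d ∈ pairD G a t ⊓ centralizer ({t} : Set G)) :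
    d * P.s * d⁻¹ = P.s := by
  rw [RankOne.centralizer_eq_of_structure P.hS P.hs.1 P.hr P.est] at hd
  rw [Subgroup.mem_centralizer_singleton_iff.1 (Subgroup.mem_inf.1 hd).2, mul_inv_cancel_right]

theorem card_D :
    Nat.card ↥(pairD G a t) =
      Nat.card ↥(pairD G a t ⊓ centralizer ({t} : Set G)) * Nat.card P.K := by
  rw [← Nat.card_prod]
  refine (Nat.card_congr (Equiv.ofBijective (fun vk : ↥(pairD G a t ⊓ centralizer ({t} : Set G)) × P.K =>
    (⟨vk.1.1 * vk.2.1, mul_mem (Subgroup.mem_inf.1 vk.1.2).1 (P.K_le vk.2.2)⟩ : ↥(pairD G a t)))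
    ⟨?_, ?_⟩)).symm
  · rintro ⟨v, k⟩ ⟨v', k'⟩ h
    obtain ⟨h1, h2⟩ := RankOne.decomp_unique (X := pairD G a t) P.tt P.hS.odd_card
      (Subgroup.mem_centralizer_singleton_iff.1 (Subgroup.mem_inf.1 v.2).2).symm
      (Subgroup.mem_centralizer_singleton_iff.1 (Subgroup.mem_inf.1 v'.2).2).symm
      (P.K_le k.2) (P.K_le k'.2) (P.t_conj_K k.2) (P.t_conj_K k'.2) (congrArg Subtype.val h)
    exact Prod.ext (Subtype.ext h1) (Subtype.ext h2)
  · rintro ⟨d, hd⟩
    obtain ⟨v, hv, k, hk, htv, e⟩ := P.exists_K_mul hd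
    exact ⟨(⟨v, Subgroup.mem_inf.2 ⟨hv, Subgroup.mem_centralizer_singleton_iff.2 htv.symm⟩⟩, ⟨k, hk⟩),
      Subtype.ext e.symm⟩

theorem K_pow_card {p : ℕ} (hp : P.q = 2 ^ p) {k : G} (hk : k ∈ P.K) (i : ℕ) :
    k ^ (2 ^ (i % p)) = k ^ (2 ^ i) := by
  have h1 : k ^ (2 ^ p) = k := by
    rw [← hp, ← P.card_K_add_one, pow_succ, show k ^ Nat.card P.K = 1 from congrArg Subtype.val
      (pow_card_eq_one' (G := P.K) (x := ⟨k, hk⟩)), one_mul]
  have h2 : ∀ m, k ^ (2 ^ (p * m)) = k := by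
    intro m
    induction m with
    | zero => simp
    | succ m ih => rw [Nat.mul_succ, pow_add, pow_mul, ih, h1]
  conv_rhs => rw [← Nat.div_add_mod i p, pow_add, pow_mul, h2]

theorem centralizes_E_of_centralizes {v : G}
    (hv : v ∈ pairD G a t ⊓ centralizer ({t} : Set G)) (h : ∀ k ∈ P.K, v * k * v⁻¹ = k) :
    ∀ e ∈ P.E, v * e * v⁻¹ = e := by
  intro e he
  rcases eq_or_ne e 1 with rfl | he1
  · group
  obtain ⟨k, hk, rfl⟩ := P.exists_conj_K P.s_mem_E P.s_ne_one he he1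
  calc v * (k * P.s * k⁻¹) * v⁻¹ = (v * k * v⁻¹) * (v * P.s * v⁻¹) * (v * k * v⁻¹)⁻¹ := by group
    _ = _ := by rw [h k hk, P.comm_s_of_comm_t hv]

theorem card_V_le [FaithfulSMul G Ω] (hQ2 : IsPGroup 2 Q)
    (hab : ∀ x ∈ Q, ∀ y ∈ Q, x * y = y * x) {p : ℕ} (hp : P.q = 2 ^ p) (hp0 : 0 < p) :
    Nat.card ↥(pairD G a t ⊓ centralizer ({t} : Set G)) ≤ p := by
  classical
  have h : ∀ v : ↥(pairD G a t ⊓ centralizer ({t} : Set G)), ∃ i < p, ∀ k ∈ P.K,
      v.1 * k * v.1⁻¹ = k ^ (2 ^ i) := fun v => by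
    obtain ⟨i, hi⟩ := P.exists_conj_pow (Subgroup.mem_inf.1 v.2).1
    exact ⟨i % p, Nat.mod_lt _ hp0, fun k hk => by rw [hi k hk, P.K_pow_card hp hk]⟩
  choose i hi hconj using h
  calc Nat.card ↥(pairD G a t ⊓ centralizer ({t} : Set G)) ≤ Nat.card (Fin p) := by
        refine Nat.card_le_card_of_injective (fun v => (⟨i v, hi v⟩ : Fin p)) fun v v' h => ?_
        have hii : i v = i v' := congrArg Fin.val h
        have hm : v'.1⁻¹ * v.1 ∈ pairD G a t ⊓ centralizer ({t} : Set G) := mul_mem (inv_mem v'.2) v.2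
        have := P.eq_one_of_centralizes_E hQ2 hab (Subgroup.mem_inf.1 hm).1
          (P.centralizes_E_of_centralizes hm fun k hk => by
            calc v'.1⁻¹ * v.1 * k * (v'.1⁻¹ * v.1)⁻¹ = v'.1⁻¹ * (v.1 * k * v.1⁻¹) * v'.1 := by group
              _ = v'.1⁻¹ * (v'.1 * k * v'.1⁻¹) * v'.1 := by rw [hconj v k hk, hii, ← hconj v' k hk]
              _ = k := by group)
        exact Subtype.ext (inv_mul_eq_one.1 this).symm
    _ = p := Nat.card_fin p

theorem fixed_E_cube [FaithfulSMul G Ω] (hQ2 : IsPGroup 2 Q)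
    (hab : ∀ x ∈ Q, ∀ y ∈ Q, x * y = y * x) {d : G} (hd : d ∈ pairD G a t) (hdK : d ∉ P.K) :
    Nat.card ↥(P.E ⊓ centralizer ({d} : Set G)) ^ 3 ≤ P.q := by
  classical
  obtain ⟨p, hp, hq⟩ := P.exists_q_eq
  haveI := P.K_cyclic
  obtain ⟨i, hi⟩ := P.exists_conj_pow hd
  obtain ⟨k₀, hk₀⟩ := IsCyclic.exists_generator (α := P.K)
  have hord : orderOf k₀.1 = 2 ^ p - 1 := by
    have := P.card_K_add_one
    rw [show orderOf k₀.1 = orderOf k₀ from Subgroup.orderOf_coe k₀,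
      orderOf_eq_card_of_forall_mem_zpowers hk₀]
    omega
  obtain ⟨g, hg⟩ : ∃ g, g = Nat.gcd i p := ⟨_, rfl⟩
  -- `p` does not divide `i`
  have hip : g ≠ p := by
    intro hgp
    apply hdK
    obtain ⟨v, hv, k, hk, htv, e⟩ := P.exists_K_mul hd
    have hi0 : i % p = 0 := Nat.mod_eq_zero_of_dvd (hgp ▸ hg ▸ Nat.gcd_dvd_left i p)
    have hvm : v ∈ pairD G a t ⊓ centralizer ({t} : Set G) :=
      Subgroup.mem_inf.2 ⟨hv, Subgroup.mem_centralizer_singleton_iff.2 htv.symm⟩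
    have hv1 := P.eq_one_of_centralizes_E hQ2 hab hv (P.centralizes_E_of_centralizes hvm fun l hl => by
      have h1 := hi l hl
      rw [← P.K_pow_card hq hl i, hi0, pow_zero, pow_one, e] at h1
      calc v * l * v⁻¹ = v * (k * l * k⁻¹) * v⁻¹ := by rw [P.K_comm hk hl, mul_inv_cancel_right]
        _ = v * k * l * (v * k)⁻¹ := by group
        _ = l := h1)
    rw [e, hv1, one_mul]
    exact hk
  -- `p / g` is odd
  have hgdvd : g ∣ p := hg ▸ Nat.gcd_dvd_right i p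
  have hiter : ∀ m : ℕ, ∀ k ∈ P.K, d ^ m * k * (d ^ m)⁻¹ = k ^ (2 ^ (i * m)) := by
    intro m
    induction m with
    | zero => intro k _; simp
    | succ m ih =>
      intro k hk
      rw [show d ^ (m + 1) * k * (d ^ (m + 1))⁻¹ = d ^ m * (d * k * d⁻¹) * (d ^ m)⁻¹ by group, hi k hk,
        ih _ (pow_mem hk _), ← pow_mul, ← pow_add, show i + i * m = i * (m + 1) by ring]
  have h3g : 3 * g ≤ p := by
    obtain ⟨m, hm⟩ := hgdvd
    rcases Nat.eq_zero_or_pos g with h0 | hg0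
    · omega
    have hmodd : Odd m := by
      have h1 := hiter (Nat.card ↥(pairD G a t)) k₀.1 k₀.2
      rw [show d ^ Nat.card ↥(pairD G a t) = 1 from congrArg Subtype.val
        (pow_card_eq_one' (G := ↥(pairD G a t)) (x := ⟨d, hd⟩)), one_mul, inv_one, mul_one] at h1
      have h2 : 2 ^ p - 1 ∣ 2 ^ (i * Nat.card ↥(pairD G a t)) - 1 := by
        rw [← hord]
        refine orderOf_dvd_of_pow_eq_one (mul_right_cancel (b := k₀.1) ?_)
        rw [← pow_succ, show 2 ^ (i * Nat.card ↥(pairD G a t)) - 1 + 1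
          = 2 ^ (i * Nat.card ↥(pairD G a t)) by
            have := Nat.one_le_two_pow (n := i * Nat.card ↥(pairD G a t)); omega, ← h1, one_mul]
      have hgg := Nat.gcd_eq_left h2
      rw [Nat.pow_sub_one_gcd_pow_sub_one] at hgg
      have h4 : 2 ^ (p.gcd (i * Nat.card ↥(pairD G a t))) = 2 ^ p := by
        have := Nat.one_le_two_pow (n := p.gcd (i * Nat.card ↥(pairD G a t)))
        have := Nat.one_le_two_pow (n := p)
        omega
      have h5 : p ∣ i * Nat.card ↥(pairD G a t) :=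
        Nat.gcd_eq_left_iff_dvd.1 (Nat.pow_right_injective (le_refl 2) h4)
      obtain ⟨i', hi'⟩ : g ∣ i := hg ▸ Nat.gcd_dvd_left i p
      have hcop : Nat.Coprime i' m := by
        have h6 := hg.symm
        rw [hi', hm, Nat.gcd_mul_left] at h6
        exact (mul_eq_left₀ hg0.ne').1 h6
      rw [hm, hi', mul_assoc] at h5
      exact P.hS.odd_card.of_dvd_nat (hcop.symm.dvd_of_dvd_mul_left (Nat.dvd_of_mul_dvd_mul_left hg0 h5))
    have hm1 : m ≠ 1 := fun h => hip (by rw [hm, h, mul_one])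
    have : 3 ≤ m := by
      obtain ⟨c, rfl⟩ := hmodd
      omega
    rw [hm]
    exact (mul_comm 3 g).le.trans (Nat.mul_le_mul_left g this)
  -- fixed involutions
  let F := {k : P.K // k.1 * P.s * k.1⁻¹ ∈ centralizer ({d} : Set G)}
  have hk' : ∀ e : {e : ↥(P.E ⊓ centralizer ({d} : Set G)) // e.1 ≠ 1},
      ∃ k : F, k.1.1 * P.s * k.1.1⁻¹ = e.1.1 := fun e => by
    obtain ⟨k, hk, hke⟩ := P.exists_conj_K P.s_mem_E P.s_ne_one (Subgroup.mem_inf.1 e.1.2).1 e.2
    exact ⟨⟨⟨k, hk⟩, by rw [hke]; exact (Subgroup.mem_inf.1 e.1.2).2⟩, hke⟩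
  choose kf hkf using hk'
  letI : CommGroup P.K := IsCyclic.commGroup
  have hsol : Nat.card F ≤ 2 ^ g - 1 := by
    rcases isEmpty_or_nonempty F with hF | ⟨⟨f₀⟩⟩
    · simp
    have key : ∀ f : F, (f.1 * f₀.1⁻¹) ^ (2 ^ g - 1) = 1 := by
      intro f
      have hfix : ∀ f : F, f.1.1 ^ (2 ^ i) * (d * P.s * d⁻¹) * (f.1.1 ^ (2 ^ i))⁻¹ =
          f.1.1 * P.s * f.1.1⁻¹ := fun f => by
        rw [← hi _ f.1.2]
        calc d * f.1.1 * d⁻¹ * (d * P.s * d⁻¹) * (d * f.1.1 * d⁻¹)⁻¹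
            = d * (f.1.1 * P.s * f.1.1⁻¹) * d⁻¹ := by group
          _ = _ := by rw [← Subgroup.mem_centralizer_singleton_iff.1 f.2, mul_inv_cancel_right]
      have hl : ∀ f : F, (f.1.1⁻¹ * f.1.1 ^ (2 ^ i)) * (d * P.s * d⁻¹) *
          (f.1.1⁻¹ * f.1.1 ^ (2 ^ i))⁻¹ = P.s := fun f => by
        calc _ = f.1.1⁻¹ * (f.1.1 ^ (2 ^ i) * (d * P.s * d⁻¹) * (f.1.1 ^ (2 ^ i))⁻¹) * f.1.1 := by group
          _ = _ := by rw [hfix f]; group
      have heq := P.conj_K_injective (mul_mem (inv_mem f.1.2) (pow_mem f.1.2 _))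
        (mul_mem (inv_mem f₀.1.2) (pow_mem f₀.1.2 _))
        (P.E_le (P.D_norm_E hd P.s_mem_E))
        (fun h => P.s_ne_one (by rw [show P.s = d⁻¹ * (d * P.s * d⁻¹) * d by group, h]; group))
        ((hl f).trans (hl f₀).symm)
      have heq' : f.1⁻¹ * f.1 ^ (2 ^ i) = f₀.1⁻¹ * f₀.1 ^ (2 ^ i) := Subtype.ext heq
      have hz : (f.1 * f₀.1⁻¹) ^ (2 ^ i - 1) = 1 := by
        have e' : ∀ x : P.K, x ^ (2 ^ i - 1) = x⁻¹ * x ^ (2 ^ i) := fun x => by
          rw [eq_inv_mul_iff_mul_eq, ← pow_succ', Nat.sub_add_cancel Nat.one_le_two_pow]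
        rw [mul_pow, inv_pow, e', e', heq', mul_inv_cancel]
      have hz2 : (f.1 * f₀.1⁻¹) ^ (2 ^ p - 1) = 1 := by
        have h := pow_card_eq_one' (G := P.K) (x := f.1 * f₀.1⁻¹)
        have := P.card_K_add_one
        rwa [show 2 ^ p - 1 = Nat.card P.K by omega]
      have := pow_gcd_eq_one.2 ⟨hz, hz2⟩
      rwa [Nat.pow_sub_one_gcd_pow_sub_one, ← hg] at this
    classical
    letI : Fintype P.K := Fintype.ofFinite P.K
    calc Nat.card F ≤ Nat.card {x : P.K // x ^ (2 ^ g - 1) = 1} :=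
          Nat.card_le_card_of_injective (fun f => ⟨_, key f⟩) fun f f' h =>
            Subtype.ext (mul_right_cancel (congrArg Subtype.val h))
      _ ≤ 2 ^ g - 1 := by
          rw [Nat.card_eq_fintype_card, Fintype.card_subtype]
          refine IsCyclic.card_pow_eq_one_le ?_
          have : 1 < 2 ^ g := by
            refine Nat.one_lt_pow ?_ (by norm_num)
            intro h0
            rw [hg, Nat.gcd_eq_zero_iff] at h0
            omega
          omega
  have hCE : Nat.card ↥(P.E ⊓ centralizer ({d} : Set G)) ≤ 2 ^ g := by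
    have h1 : Nat.card {e : ↥(P.E ⊓ centralizer ({d} : Set G)) // e.1 ≠ 1} ≤ Nat.card F :=
      Nat.card_le_card_of_injective kf fun e e' h =>
        Subtype.ext (Subtype.ext ((hkf e).symm.trans (by rw [h]; exact hkf e')))
    haveI : Fintype ↥(P.E ⊓ centralizer ({d} : Set G)) := Fintype.ofFinite _
    have h2 : Nat.card {e : ↥(P.E ⊓ centralizer ({d} : Set G)) // e.1 ≠ 1} + 1 =
        Nat.card ↥(P.E ⊓ centralizer ({d} : Set G)) := by
      rw [Nat.card_congr (Equiv.subtypeEquivRight (q := fun e => e ≠ 1) fun e => by simp),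
        Nat.card_eq_fintype_card, Nat.card_eq_fintype_card, Fintype.card_subtype_compl,
        Fintype.card_subtype_eq]
      have : 0 < Fintype.card ↥(P.E ⊓ centralizer ({d} : Set G)) := Fintype.card_pos
      omega
    have := Nat.one_le_two_pow (n := g)
    omega
  calc Nat.card ↥(P.E ⊓ centralizer ({d} : Set G)) ^ 3 ≤ (2 ^ g) ^ 3 := Nat.pow_le_pow_left hCE 3
    _ = 2 ^ (g * 3) := (pow_mul 2 g 3).symm
    _ ≤ 2 ^ p := Nat.pow_le_pow_right (by norm_num) (by omega)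
    _ = P.q := hq.symm

/-- The subgroup of squares. -/
def squares (A : Subgroup G) (hA : ∀ x ∈ A, ∀ y ∈ A, x * y = y * x) : Subgroup G where
  carrier := {z | ∃ x ∈ A, x * x = z}
  one_mem' := ⟨1, one_mem _, mul_one 1⟩
  mul_mem' := by
    rintro _ _ ⟨x, hx, rfl⟩ ⟨y, hy, rfl⟩
    refine ⟨x * y, mul_mem hx hy, ?_⟩
    calc x * y * (x * y) = x * (y * x) * y := by group
      _ = x * (x * y) * y := by rw [hA y hy x hx]
      _ = _ := by group
  inv_mem' := by
    rintro _ ⟨x, hx, rfl⟩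
    exact ⟨x⁻¹, inv_mem hx, (mul_inv_rev x x).symm⟩

end Frame

/-- Squaring onto the subgroup of squares. -/
def sqHom (A : Subgroup G) (hA : ∀ x ∈ A, ∀ y ∈ A, x * y = y * x) (B : Subgroup G)
    (hB : ∀ x ∈ A, x * x ∈ B) : ↥A →* ↥B where
  toFun x := ⟨x.1 * x.1, hB x.1 x.2⟩
  map_one' := Subtype.ext (mul_one 1)
  map_mul' x y := Subtype.ext (by
    show x.1 * y.1 * (x.1 * y.1) = x.1 * x.1 * (y.1 * y.1)
    rw [← mul_assoc, mul_assoc x.1 y.1 x.1, hA _ y.2 _ x.2]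
    group)

namespace Frame

variable (P : Frame a t Q)

include P

theorem squares_le (hab : ∀ x ∈ Q, ∀ y ∈ Q, x * y = y * x) {A : Subgroup G} (hAQ : A ≤ Q) :
    Frame.squares A (fun x hx y hy => hab x (hAQ hx) y (hAQ hy)) ≤ A := by
  rintro _ ⟨x, hx, rfl⟩
  exact mul_mem hx hx

/-- An element of `D` outside `K` fixes at most the cube root of an invariant subgroup of `Q`. -/
theorem fixed_cube [FaithfulSMul G Ω] (hQ2 : IsPGroup 2 Q)
    (hab : ∀ x ∈ Q, ∀ y ∈ Q, x * y = y * x) {d : G} (hd : d ∈ pairD G a t) (hdK : d ∉ P.K) :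
    ∀ A : Subgroup G, A ≤ Q → (∀ c ∈ pairD G a t, ∀ x ∈ A, c * x * c⁻¹ ∈ A) →
      Nat.card ↥(A ⊓ centralizer ({d} : Set G)) ^ 3 ≤ Nat.card A := by
  suffices h : ∀ (n : ℕ) (A : Subgroup G), Nat.card A = n → A ≤ Q →
      (∀ c ∈ pairD G a t, ∀ x ∈ A, c * x * c⁻¹ ∈ A) →
      Nat.card ↥(A ⊓ centralizer ({d} : Set G)) ^ 3 ≤ Nat.card A from fun A => h _ A rfl
  intro n
  induction n using Nat.strong_induction_on with
  | _ n ih =>
    intro A hAn hAQ hAD
    rcases eq_or_ne A ⊥ with rfl | hA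
    · rw [bot_inf_eq, Subgroup.card_bot, one_pow]
    have hA' : ∀ x ∈ A, ∀ y ∈ A, x * y = y * x := fun x hx y hy => hab x (hAQ hx) y (hAQ hy)
    let B := Frame.squares A hA'
    let σ := sqHom A hA' B fun x hx => ⟨x, hx, rfl⟩
    have hσ : Function.Surjective σ := by
      rintro ⟨_, x, hx, rfl⟩
      exact ⟨⟨x, hx⟩, rfl⟩
    have hEA := P.invariant_meets_E hAQ hA hQ2 hAD
    have hker : Nat.card σ.ker = P.q := Nat.card_congr
      { toFun := fun x => ⟨x.1.1, P.mem_E_of_mem_Q (hAQ x.1.2) (congrArg Subtype.val x.2)⟩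
        invFun := fun e => ⟨⟨e.1, hEA e.2⟩, Subtype.ext (P.E_sq e.2)⟩
        left_inv := fun _ => rfl
        right_inv := fun _ => rfl }
    have hcard : Nat.card A = P.q * Nat.card B := by
      rw [← hker, ← Subgroup.card_mul_index σ.ker, Subgroup.index_ker,
        MonoidHom.range_eq_top.2 hσ, Subgroup.card_top]
    have hlt : Nat.card B < n := by
      rw [← hAn, hcard]
      have hB0 : 0 < Nat.card B := Nat.card_pos
      have := P.four_le_q
      nlinarith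
    have hBD : ∀ c ∈ pairD G a t, ∀ x ∈ B, c * x * c⁻¹ ∈ B := by
      rintro c hc _ ⟨x, hx, rfl⟩
      exact ⟨c * x * c⁻¹, hAD c hc x hx, by group⟩
    have hrec := ih _ hlt B rfl ((P.squares_le hab hAQ).trans hAQ) hBD
    -- squaring on the fixed points
    let F := A ⊓ centralizer ({d} : Set G)
    let τ : ↥F →* ↥B := σ.comp (Subgroup.inclusion inf_le_left)
    have hF : Nat.card F = Nat.card τ.ker * Nat.card τ.range := by
      rw [← Subgroup.index_ker, Subgroup.card_mul_index]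
    have h1 : Nat.card τ.ker ≤ Nat.card ↥(P.E ⊓ centralizer ({d} : Set G)) :=
      Nat.card_le_card_of_injective
        (fun x => ⟨x.1.1, Subgroup.mem_inf.2 ⟨P.mem_E_of_mem_Q (hAQ (Subgroup.mem_inf.1 x.1.2).1)
          (congrArg Subtype.val x.2), (Subgroup.mem_inf.1 x.1.2).2⟩⟩)
        fun x y h => Subtype.ext (Subtype.ext
          (congrArg (Subtype.val : ↥(P.E ⊓ centralizer ({d} : Set G)) → G) h))
    have h2 : Nat.card τ.range ≤ Nat.card ↥(B ⊓ centralizer ({d} : Set G)) := by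
      refine Nat.card_le_card_of_injective (fun y => ⟨y.1.1, Subgroup.mem_inf.2 ⟨y.1.2, ?_⟩⟩)
        fun x y h => Subtype.ext (Subtype.ext
          (congrArg (Subtype.val : ↥(B ⊓ centralizer ({d} : Set G)) → G) h))
      obtain ⟨x, hx⟩ := y.2
      rw [← hx]
      exact mul_mem (Subgroup.mem_inf.1 x.2).2 (Subgroup.mem_inf.1 x.2).2
    rw [hF, mul_pow, hcard]
    exact Nat.mul_le_mul ((Nat.pow_le_pow_left h1 3).trans (P.fixed_E_cube hQ2 hab hd hdK))
      ((Nat.pow_le_pow_left h2 3).trans hrec)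

theorem card_fixedBy_conjAut (A : Subgroup G) (hA : ∀ d ∈ pairD G a t, ∀ x ∈ A, d * x * d⁻¹ ∈ A)
    (d : ↥(pairD G a t)) :
    Nat.card {x : A // conjAut A hA d x = x} = Nat.card ↥(A ⊓ centralizer ({(d : G)} : Set G)) := by
  refine Nat.card_congr
    { toFun := fun x => ⟨x.1.1, Subgroup.mem_inf.2 ⟨x.1.2, Subgroup.mem_centralizer_singleton_iff.2
        (mul_inv_eq_iff_eq_mul.1 (congrArg Subtype.val x.2)).symm⟩⟩
      invFun := fun y => ⟨⟨y.1, (Subgroup.mem_inf.1 y.2).1⟩, Subtype.ext (by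
        show (d : G) * y.1 * (d : G)⁻¹ = y.1
        rw [← Subgroup.mem_centralizer_singleton_iff.1 (Subgroup.mem_inf.1 y.2).2, mul_inv_cancel_right])⟩
      left_inv := fun _ => rfl
      right_inv := fun _ => rfl }

end Frame

/-- An abelian 2-group `Q` has order `q`. -/
theorem card_eq_q_of_abelian' [FaithfulSMul G Ω] [Fintype ↥Q] (P : Frame a t Q) (hQ2 : IsPGroup 2 Q)
    (hab : ∀ x ∈ Q, ∀ y ∈ Q, x * y = y * x)
    (hdvd : P.r = P.s → P.q * (P.q ^ 2 - 1) ∣ Nat.card Q - P.q)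
    (hbound : ∀ (Φ : Finset (Cfsg.IrrCharacter ↥Q)) (base : Cfsg.IrrCharacter ↥Q → ℕ), CharFamily P Φ base →
      ∀ c : ℝ, 0 < c → (P.q : ℝ) ^ 2 * ∑ φ ∈ Φ, (φ.1 1).re ^ 2 ≤
        (1 + c) * 4 * ((P.q : ℝ) - 1) * Nat.card Q + (1 + 1 / c) * ((P.q : ℝ) - 2) ^ 2) :
    Nat.card Q = P.q := by
  classical
  by_contra hne
  have hrr := P.r_sq_of_abelian hQ2 hab
  have hrs : P.r = P.s := by
    rcases P.r_eq_or_sq (by rw [show P.r ^ 4 = P.r * P.r * (P.r * P.r) by
        simp only [pow_succ, pow_zero, one_mul, mul_assoc], hrr, one_mul]) with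
      ⟨h, -⟩ | ⟨h, -⟩
    · exact h
    · exact absurd (h.symm.trans hrr) P.s_ne_one
  obtain ⟨p, hp2, hq⟩ := P.exists_q_eq
  have hq4 := P.four_le_q
  -- `n ≥ q³`
  obtain ⟨m, hm⟩ : P.q ∣ Nat.card Q := Subgroup.card_dvd_of_le P.E_le
  have hm1 : 1 < m := by
    have h0 : 0 < Nat.card Q := Nat.card_pos
    rcases Nat.lt_or_ge 1 m with h | h
    · exact h
    · interval_cases m
      · omega
      · exact absurd (by rw [hm, mul_one]) hne
  have hmq : P.q ^ 2 ≤ m := by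
    have h := hdvd hrs
    rw [hm, show P.q * m - P.q = P.q * (m - 1) by rw [Nat.mul_sub, mul_one]] at h
    have h1 := Nat.le_of_dvd (by omega) (Nat.dvd_of_mul_dvd_mul_left (by omega) h)
    omega
  have hn : P.q ^ 3 ≤ Nat.card Q := by
    rw [hm, pow_succ']
    exact Nat.mul_le_mul_left _ hmq
  -- `|D|`
  obtain ⟨w, hw⟩ : ∃ w, w = Nat.card ↥(pairD G a t ⊓ centralizer ({t} : Set G)) := ⟨_, rfl⟩
  have hwp : w ≤ p := hw ▸ P.card_V_le hQ2 hab hq (by omega)
  have hδ : Nat.card ↥(pairD G a t) = w * Nat.card P.K := hw ▸ P.card_D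
  have hwodd : Odd w := P.hS.odd_card.of_dvd_nat (hδ ▸ dvd_mul_right w _)
  have hK : Nat.card P.K + 1 = P.q := P.card_K_add_one
  have hKD : Nat.card ↥(P.K.subgroupOf (pairD G a t)) = Nat.card P.K :=
    Nat.card_congr (Subgroup.subgroupOfEquivOfLe P.K_le).toEquiv
  have hdiff : Nat.card ↥(pairD G a t) - Nat.card ↥(P.K.subgroupOf (pairD G a t))
      = (w - 1) * Nat.card P.K := by
    rw [hKD, hδ, Nat.sub_mul, one_mul]
  -- the two actions
  have hA' : ∀ x ∈ Q, ∀ y ∈ Q, x * y = y * x := hab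
  let A := Frame.squares Q hA'
  have hAQ : A ≤ Q := P.squares_le hab le_rfl
  have hAD : ∀ c ∈ pairD G a t, ∀ x ∈ A, c * x * c⁻¹ ∈ A := by
    rintro c hc _ ⟨x, hx, rfl⟩
    exact ⟨c * x * c⁻¹, RankOne.D_norm_Q P.hS hc hx, by group⟩
  have hQD : ∀ c ∈ pairD G a t, ∀ x ∈ Q, c * x * c⁻¹ ∈ Q := fun c hc x hx =>
    RankOne.D_norm_Q P.hS hc hx
  let σQ := conjAut (a := a) (t := t) Q hQD
  let σA := conjAut (a := a) (t := t) A hAD
  let sq := sqHom Q hA' A fun x hx => ⟨x, hx, rfl⟩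
  have hsq : Function.Surjective sq := by
    rintro ⟨_, x, hx, rfl⟩
    exact ⟨⟨x, hx⟩, rfl⟩
  have hkerE : ∀ x : ↥Q, sq x = 1 ↔ (x : G) ∈ P.E := fun x =>
    ⟨fun h => P.mem_E_of_mem_Q x.2 (congrArg Subtype.val h), fun h => Subtype.ext (P.E_sq h)⟩
  have hsqker : Nat.card sq.ker = P.q := Nat.card_congr
    { toFun := fun x => ⟨x.1.1, (hkerE x.1).1 x.2⟩
      invFun := fun e => ⟨⟨e.1, P.E_le e.2⟩, (hkerE _).2 e.2⟩
      left_inv := fun _ => rfl
      right_inv := fun _ => rfl }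
  have hcardA : Nat.card A = m := by
    refine Nat.eq_of_mul_eq_mul_left (show 0 < P.q by omega) ?_
    rw [← hm, ← hsqker, ← Subgroup.card_mul_index sq.ker, Subgroup.index_ker,
      MonoidHom.range_eq_top.2 hsq, Subgroup.card_top]
  have hfpf : ∀ (B : Subgroup G) (hB : ∀ c ∈ pairD G a t, ∀ x ∈ B, c * x * c⁻¹ ∈ B), B ≤ Q →
      ∀ k ∈ P.K.subgroupOf (pairD G a t), k ≠ 1 → ∀ x, conjAut B hB k x = x → x = 1 :=
    fun B hB hBQ k hk hk1 x h => Subtype.ext (P.K_fpf hk (fun e => hk1 (Subtype.ext e)) (hBQ x.2)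
      (mul_inv_eq_iff_eq_mul.1 (congrArg Subtype.val h)))
  -- bounds for the fixed points
  have hBQ : ∀ d ∉ P.K.subgroupOf (pairD G a t),
      Nat.card {x : ↥Q // σQ d x = x} ≤ Nat.card Q / P.q ^ 2 := by
    intro d hd
    rw [P.card_fixedBy_conjAut, Nat.le_div_iff_mul_le (by positivity)]
    refine le_of_pow_le_pow_left₀ (by norm_num : (3 : ℕ) ≠ 0) (Nat.zero_le _) ?_
    rw [mul_pow]
    calc Nat.card ↥(Q ⊓ centralizer ({(d : G)} : Set G)) ^ 3 * (P.q ^ 2) ^ 3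
        ≤ Nat.card Q * (P.q ^ 3) ^ 2 := by
          rw [← pow_mul, ← pow_mul]
          exact Nat.mul_le_mul_right _ (P.fixed_cube hQ2 hab d.2 hd Q le_rfl hQD)
      _ ≤ Nat.card Q * Nat.card Q ^ 2 := Nat.mul_le_mul_left _ (Nat.pow_le_pow_left hn 2)
      _ = Nat.card Q ^ 3 := by ring
  have hBA : ∀ d ∉ P.K.subgroupOf (pairD G a t),
      Nat.card {x : ↥A // σA d x = x} * (2 * P.q * (p - 1)) ≤ 3 * m := by
    intro d hd
    rw [P.card_fixedBy_conjAut]
    refine le_of_pow_le_pow_left₀ (by norm_num : (3 : ℕ) ≠ 0) (Nat.zero_le _) ?_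
    rw [mul_pow]
    calc Nat.card ↥(A ⊓ centralizer ({(d : G)} : Set G)) ^ 3 * (2 * P.q * (p - 1)) ^ 3
        ≤ m * (P.q ^ 3 * (8 * (p - 1) ^ 3)) := by
          rw [← hcardA]
          exact Nat.mul_le_mul (P.fixed_cube hQ2 hab d.2 hd A hAQ hAD) (le_of_eq (by ring))
      _ ≤ m * (P.q ^ 3 * (27 * P.q)) := Nat.mul_le_mul_left _ (Nat.mul_le_mul_left _
          (hq ▸ eight_mul_pred_cube_le p))
      _ = m * (27 * (P.q ^ 2) ^ 2) := by ring
      _ ≤ m * (27 * m ^ 2) := Nat.mul_le_mul_left _ (Nat.mul_le_mul_left _ (Nat.pow_le_pow_left hmq 2))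
      _ = (3 * m) ^ 3 := by ring
  -- regular characters
  have habQ : ∀ x y : ↥Q, x * y = y * x := fun x y => Subtype.ext (hab x x.2 y y.2)
  have habA : ∀ x y : ↥A, x * y = y * x := fun x y => Subtype.ext (hab x (hAQ x.2) y (hAQ y.2))
  obtain ⟨hcardIQ, hdegQ⟩ := irr_comm habQ
  obtain ⟨hcardIA, hdegA⟩ := irr_comm habA
  have hreg_iff : ∀ (d : ↥(pairD G a t)) (φ : Cfsg.IrrCharacter ↥Q), conjD P d φ.1 = φ.1 ∘ σQ d :=
    fun d φ => rfl
  let Φ := Finset.univ.filter fun φ : Cfsg.IrrCharacter ↥Q => ∀ d, conjD P d φ.1 = φ.1 → d = 1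
  have hmemΦ : ∀ φ, φ ∈ Φ ↔ ∀ d, conjD P d φ.1 = φ.1 → d = 1 := fun φ => by simp [Φ]
  let S := {χ : Cfsg.IrrCharacter ↥Q // χ.1 ≠ (fun _ => 1) ∧ ∃ d, d ≠ 1 ∧ χ.1 ∘ σQ d = χ.1}
  have hS2 : 2 * Nat.card S ≤ (w - 1) * Nat.card P.K * (Nat.card Q / P.q ^ 2) := by
    rw [← hdiff]
    exact two_mul_card_fixed_le habQ P.hS.odd_card σQ _ (hfpf Q hQD le_rfl) _ hBQ
  have hΦ : Nat.card Q ≤ Φ.card + (Nat.card S + 1) := by
    rw [← hcardIQ, ← Nat.card_eq_finsetCard Φ, show Nat.card S + 1 = Nat.card (Option S) from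
      Finite.card_option.symm, ← Nat.card_sum]
    refine Nat.card_le_card_of_injective (fun φ =>
      if h : φ ∈ Φ then Sum.inl ⟨φ, h⟩
      else if h' : φ.1 ≠ (fun _ => 1) then Sum.inr (some ⟨φ, h', by
          rw [hmemΦ] at h; push Not at h
          obtain ⟨d, h1, h2⟩ := h
          exact ⟨d, h2, (hreg_iff d φ).symm.trans h1⟩⟩)
        else Sum.inr none) ?_
    intro φ φ' h
    dsimp only at h
    by_cases h1 : φ ∈ Φ <;> by_cases h2 : φ' ∈ Φ
    · rw [dif_pos h1, dif_pos h2] at h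
      exact congrArg Subtype.val (Sum.inl.inj h)
    · rw [dif_pos h1, dif_neg h2] at h
      by_cases h3 : φ'.1 ≠ (fun _ => 1)
      · rw [dif_pos h3] at h; exact absurd h (by simp)
      · rw [dif_neg h3] at h; exact absurd h (by simp)
    · rw [dif_neg h1, dif_pos h2] at h
      by_cases h3 : φ.1 ≠ (fun _ => 1)
      · rw [dif_pos h3] at h; exact absurd h (by simp)
      · rw [dif_neg h3] at h; exact absurd h (by simp)
    · rw [dif_neg h1, dif_neg h2] at h
      by_cases h3 : φ.1 ≠ (fun _ => 1) <;> by_cases h4 : φ'.1 ≠ (fun _ => 1)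
      · rw [dif_pos h3, dif_pos h4] at h
        exact congrArg Subtype.val (Option.some.inj (Sum.inr.inj h))
      · rw [dif_pos h3, dif_neg h4] at h; exact absurd h (by simp)
      · rw [dif_neg h3, dif_pos h4] at h; exact absurd h (by simp)
      · exact Subtype.ext ((not_not.1 h3).trans (not_not.1 h4).symm)
  -- inflation from `A`
  let infl : Cfsg.IrrCharacter ↥A → Cfsg.IrrCharacter ↥Q := fun ψ => ⟨fun x => ψ.1 (sq x), by
    obtain ⟨f, hf⟩ := Characters.exists_hom_of_degree_one (Characters.isCharacter_of_isIrr ψ.2)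
      (hdegA ψ)
    rw [hf]
    exact Characters.isIrr_linChar (f.comp sq)⟩
  have hinflTriv : ∀ ψ, TrivE P (infl ψ).1 := fun ψ x hx => by
    show ψ.1 (sq x) = ψ.1 (sq 1)
    rw [(hkerE x).2 hx, map_one]
  have hTriv : Nat.card {φ : Cfsg.IrrCharacter ↥Q // TrivE P φ.1} ≤ m := by
    rw [← hcardA, ← hcardIA]
    refine Nat.card_le_card_of_surjective (fun ψ => ⟨infl ψ, hinflTriv ψ⟩) ?_
    rintro ⟨φ, hφ⟩
    obtain ⟨f, hf⟩ := Characters.exists_hom_of_degree_one (Characters.isCharacter_of_isIrr φ.2)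
      (hdegQ φ)
    have hker : sq.ker ≤ f.ker := fun x hx => by
      have h := hφ x ((hkerE x).1 hx)
      rw [hf] at h
      exact MonoidHom.mem_ker.2 (Units.ext (by simpa using h))
    let g : ↥A →* ℂˣ := MonoidHom.liftOfSurjective sq hsq ⟨f, hker⟩
    refine ⟨⟨fun y => (g y : ℂ), Characters.isIrr_linChar g⟩, Subtype.ext (Subtype.ext ?_)⟩
    show (fun x => (g (sq x) : ℂ)) = φ.1
    rw [hf]
    funext x
    show ((MonoidHom.liftOfSurjective sq hsq ⟨f, hker⟩ (sq x) : ℂˣ) : ℂ) = _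
    rw [MonoidHom.liftOfRightInverse_comp_apply]
  have hSq : Nat.card S * P.q ^ 2 * 2 ≤ (w - 1) * P.q * Nat.card Q := by
    have h := Nat.mul_le_mul_right (P.q ^ 2) hS2
    have h' := Nat.div_mul_le_self (Nat.card Q) (P.q ^ 2)
    calc Nat.card S * P.q ^ 2 * 2 = 2 * Nat.card S * P.q ^ 2 := by ring
      _ ≤ (w - 1) * Nat.card P.K * (Nat.card Q / P.q ^ 2) * P.q ^ 2 := h
      _ = (w - 1) * Nat.card P.K * (Nat.card Q / P.q ^ 2 * P.q ^ 2) := by ring
      _ ≤ (w - 1) * P.q * Nat.card Q :=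
          Nat.mul_le_mul (Nat.mul_le_mul_left _ (by omega)) h'
  obtain ⟨w', rfl⟩ : ∃ w', w = w' + 1 := ⟨w - 1, by obtain ⟨c, rfl⟩ := hwodd; omega⟩
  simp only [Nat.add_sub_cancel] at hSq
  have hS' : (Nat.card S + 1) * P.q ≤ Nat.card Q * (w' + 1) := by
    refine Nat.le_of_mul_le_mul_left ?_ (show 0 < 2 * P.q by omega)
    have hqn : P.q * P.q ≤ P.q * Nat.card Q :=
      Nat.mul_le_mul_left _ ((Nat.le_self_pow (by norm_num) _).trans hn)
    nlinarith [hSq, hqn, Nat.zero_le (w' * P.q * Nat.card Q)]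
  have hwq : w' + 3 ≤ P.q := by
    rw [hq]
    have h : p + 2 ≤ 2 ^ p := by
      clear * - hp2
      induction p, hp2 using Nat.le_induction with
      | base => norm_num
      | succ k hk ih => rw [pow_succ]; omega
    omega
  have hgt : m < Φ.card := by
    by_contra hle
    push Not at hle
    have h1 : Nat.card Q * P.q ≤ m * P.q + Nat.card Q * (w' + 1) := by
      calc Nat.card Q * P.q ≤ (m + (Nat.card S + 1)) * P.q :=
            Nat.mul_le_mul_right _ (hΦ.trans (Nat.add_le_add_right hle _))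
        _ ≤ _ := by rw [add_mul]; exact Nat.add_le_add_left hS' _
    have h3 := Nat.mul_le_mul_left (Nat.card Q) hwq
    have h4 : 0 < Nat.card Q := Nat.card_pos
    have h5 : m * P.q = Nat.card Q := by rw [hm, mul_comm]
    nlinarith
  -- a regular character trivial on `E`
  have hexT : ∃ φ ∈ Φ, TrivE P φ.1 := by
    by_contra hcon
    push Not at hcon
    let T := {χ : Cfsg.IrrCharacter ↥A // χ.1 ≠ (fun _ => 1) ∧ ∃ d, d ≠ 1 ∧ χ.1 ∘ σA d = χ.1}
    have hinflfix : ∀ ψ : Cfsg.IrrCharacter ↥A, ∀ d, conjD P d (infl ψ).1 = (infl ψ).1 →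
        ψ.1 ∘ σA d = ψ.1 := by
      intro ψ d h
      funext y
      obtain ⟨x, rfl⟩ := hsq y
      show ψ.1 (σA d (sq x)) = _
      have h' := congrFun h x
      refine Eq.trans ?_ h'
      show ψ.1 (σA d (sq x)) = ψ.1 (sq _)
      refine congrArg ψ.1 (Subtype.ext ?_)
      show (d : G) * (x.1 * x.1) * (d : G)⁻¹ = (d : G) * x.1 * (d : G)⁻¹ * ((d : G) * x.1 * (d : G)⁻¹)
      group
    have hT : m ≤ Nat.card T + 1 := by
      rw [← hcardA, ← hcardIA, show Nat.card T + 1 = Nat.card (Option T) from Finite.card_option.symm]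
      refine Nat.card_le_card_of_injective (fun ψ =>
        if h' : ψ.1 ≠ (fun _ => 1) then some ⟨ψ, h', by
            have h : ¬ ∀ d, conjD P d (infl ψ).1 = (infl ψ).1 → d = 1 :=
              fun hh => hcon (infl ψ) ((hmemΦ _).2 hh) (hinflTriv ψ)
            push Not at h
            obtain ⟨d, h1, h2⟩ := h
            exact ⟨d, h2, hinflfix ψ d h1⟩⟩
          else none) ?_
      intro ψ ψ' h
      dsimp only at h
      by_cases h3 : ψ.1 ≠ (fun _ => 1) <;> by_cases h4 : ψ'.1 ≠ (fun _ => 1)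
      · rw [dif_pos h3, dif_pos h4] at h
        exact congrArg Subtype.val (Option.some.inj h)
      · rw [dif_pos h3, dif_neg h4] at h; exact absurd h (by simp)
      · rw [dif_neg h3, dif_pos h4] at h; exact absurd h (by simp)
      · exact Subtype.ext ((not_not.1 h3).trans (not_not.1 h4).symm)
    let B := 3 * m / (2 * P.q * (p - 1))
    have hpos : 0 < 2 * P.q * (p - 1) := Nat.mul_pos (by omega) (by omega)
    have hT2 : 2 * Nat.card T ≤ w' * Nat.card P.K * B := by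
      have h := two_mul_card_fixed_le habA P.hS.odd_card σA _ (hfpf A hAD hAQ) B
        fun d hd => (Nat.le_div_iff_mul_le hpos).2 (hBA d hd)
      rwa [hdiff, Nat.add_sub_cancel] at h
    have hB' : B * (2 * P.q * (p - 1)) ≤ 3 * m := Nat.div_mul_le_self _ _
    have hm4 : 16 ≤ m := le_trans (le_trans (by norm_num) (Nat.pow_le_pow_left hq4 2)) hmq
    have h6 : w' * Nat.card P.K * B * 2 ≤ 3 * m := by
      refine le_trans ?_ hB'
      calc w' * Nat.card P.K * B * 2 ≤ (p - 1) * P.q * B * 2 :=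
            Nat.mul_le_mul_right _ (Nat.mul_le_mul_right _ (Nat.mul_le_mul (by omega) (by omega)))
        _ = _ := by ring
    omega
  obtain ⟨φT, hφT, hφTE⟩ := hexT
  have hexN : ∃ φ ∈ Φ, ¬ TrivE P φ.1 := by
    by_contra hcon
    push Not at hcon
    have : Φ.card ≤ m := by
      rw [← Nat.card_eq_finsetCard]
      exact le_trans (Nat.card_le_card_of_injective
        (fun φ : Φ => (⟨φ.1, hcon φ.1 φ.2⟩ : {φ : Cfsg.IrrCharacter ↥Q // TrivE P φ.1}))
        fun x y h => Subtype.ext (congrArg (fun z : {φ : Cfsg.IrrCharacter ↥Q // TrivE P φ.1} => z.1) h))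
        hTriv
    omega
  obtain ⟨φN, hφN, hφNE⟩ := hexN
  have hconjE : ∀ (d : ↥(pairD G a t)) (φ : ↥Q → ℂ), TrivE P φ → TrivE P (conjD P d φ) := by
    intro d φ h x hx
    show φ _ = φ _
    exact (h _ (P.D_norm_E d.2 hx)).trans (h _ (P.D_norm_E d.2 (one_mem _))).symm
  have hfam : CharFamily P Φ (fun _ => 1) := by
    refine ⟨fun φ hφ => (hmemΦ φ).1 hφ, ?_, ?_, fun φ _ _ => by rw [hdegQ φ, Nat.cast_one],
      fun φ _ => ⟨φT, hφT, rfl, hφTE⟩, fun φ _ => ⟨φN, hφN, rfl, hφNE⟩,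
      fun φ _ => ⟨1, by rw [hdegQ φ]; norm_num, Or.inl rfl⟩⟩
    · intro φ hφ d ψ hψ
      refine ⟨(hmemΦ ψ).2 fun e he => ?_, rfl⟩
      have h1 : conjD P (d * e * d⁻¹) φ.1 = φ.1 := by
        rw [hψ] at he
        funext x
        have h2 := congrFun he ⟨(d : G)⁻¹ * x * d, by
          simpa using RankOne.D_norm_Q P.hS (inv_mem d.2) x.2⟩
        refine Eq.trans ?_ (h2.trans ?_)
        · show φ.1 _ = φ.1 _
          refine congrArg φ.1 (Subtype.ext ?_)
          show ((d : G) * e * (d : G)⁻¹) * x * ((d : G) * e * (d : G)⁻¹)⁻¹ =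
            (d : G) * ((e : G) * ((d : G)⁻¹ * x * d) * (e : G)⁻¹) * (d : G)⁻¹
          group
        · show φ.1 _ = φ.1 x
          refine congrArg φ.1 (Subtype.ext ?_)
          show (d : G) * ((d : G)⁻¹ * x * d) * (d : G)⁻¹ = x
          group
      exact conj_eq_one_iff.1 ((hmemΦ φ).1 hφ _ h1)
    · intro φ _
      by_cases h : TrivE P φ.1
      · exact ⟨φN, hφN, rfl, by rw [hdegQ φN, hdegQ φ], fun d e => hφNE (e ▸ hconjE d φ.1 h)⟩
      · refine ⟨φT, hφT, rfl, by rw [hdegQ φT, hdegQ φ], fun d e => h ?_⟩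
        intro x hx
        have h2 := hφTE ⟨(d : G)⁻¹ * x * d, by
          simpa using RankOne.D_norm_Q P.hS (inv_mem d.2) x.2⟩
          (by simpa using P.D_norm_E (inv_mem d.2) hx)
        rw [e] at h2
        refine Eq.trans ?_ (h2.trans ?_)
        · show φ.1 x = φ.1 _
          refine congrArg φ.1 (Subtype.ext ?_)
          show (x : G) = (d : G) * ((d : G)⁻¹ * x * d) * (d : G)⁻¹
          group
        · show φ.1 _ = φ.1 1
          refine congrArg φ.1 (Subtype.ext ?_)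
          show (d : G) * 1 * (d : G)⁻¹ = 1
          group
  have hsum : ∑ φ ∈ Φ, (φ.1 1).re ^ 2 = (Φ.card : ℝ) := by
    rw [Finset.sum_congr rfl fun φ _ => by rw [hdegQ φ, Complex.one_re, one_pow],
      Finset.sum_const, nsmul_eq_mul, mul_one]
  have hΦR : (Nat.card Q : ℝ) ≤ Φ.card + (Nat.card S + 1) := by exact_mod_cast hΦ
  have hSR : ((Nat.card S : ℝ) + 1) * P.q ≤ Nat.card Q * ((w' : ℝ) + 1) := by exact_mod_cast hS'
  have hnR : (P.q : ℝ) ^ 3 ≤ Nat.card Q := by exact_mod_cast hn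
  have hq4R : (4 : ℝ) ≤ P.q := by exact_mod_cast hq4
  rcases Nat.lt_or_ge p 3 with hp | hp
  · -- `q = 4`
    obtain rfl : p = 2 := by omega
    obtain rfl : w' = 0 := by obtain ⟨c, hc⟩ := hwodd; omega
    have hS0 : Nat.card S = 0 := by
      simp only [Nat.zero_mul, Nat.zero_add, Nat.sub_self] at hS2
      omega
    have hb := hbound Φ _ hfam (1 / 16) (by norm_num)
    rw [hsum, show (P.q : ℝ) = 4 by rw [hq]; norm_num] at hb
    rw [show (P.q : ℝ) = 4 by rw [hq]; norm_num] at hnR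
    rw [hS0, Nat.cast_zero] at hΦR
    linarith
  · have h5 : (w' : ℝ) + 6 ≤ P.q := by
      have : w' + 6 ≤ P.q := by
        rw [hq]
        have h : p + 5 ≤ 2 ^ p := by
          clear * - hp
          induction p, hp using Nat.le_induction with
          | base => norm_num
          | succ k hk ih => rw [pow_succ]; omega
        omega
      exact_mod_cast this
    have hb := hbound Φ _ hfam (1 / 4) (by norm_num)
    rw [hsum] at hb
    norm_num [-Nat.card_eq_fintype_card] at hb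
    have hA1 : ((P.q : ℝ) - (w' + 1)) * Nat.card Q ≤ (Φ.card : ℝ) * P.q := by nlinarith
    have hA2 : 5 * (Nat.card Q : ℝ) ≤ (Φ.card : ℝ) * P.q :=
      le_trans (mul_le_mul_of_nonneg_right (by linarith) (Nat.cast_nonneg _)) hA1
    have hA3 : 5 * (P.q : ℝ) * Nat.card Q ≤ (P.q : ℝ) ^ 2 * Φ.card := by nlinarith
    nlinarith [hnR, hq4R, sq_nonneg ((P.q : ℝ) - 2)]

end CfsgLib.SuzukiThm
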