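import Cfsg.Agent.SuzukiTheorem.Coherent

/-!
# The character bound

Coherent images of the family, evaluated on the products of two involutions.
-/

set_option autoImplicit false
set_option linter.unusedSectionVars false
set_option linter.style.haveILetI false

namespace CfsgLib.SuzukiThm

open Cfsg CfsgLib CfsgLib.Characters CfsgLib.Coherence
open scoped ComplexConjugate Classical

universe u v

variable {G : Type u} {Ω : Type v} [Group G] [MulAction G Ω] [Fintype G] {a : Ω} {t : G} {Q : Subgroup G}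

namespace Frame

variable (P : Frame a t Q)

/-- The conjugates of `s`. -/
noncomputable def classS : Finset G := Finset.univ.filter fun g => IsConj g P.s

/-- The non-trivial involutions of `Q`. -/
noncomputable def invE : Finset G := Finset.univ.filter fun g => g ∈ P.E ∧ g ≠ 1

theorem card_invE : P.invE.card + 1 = P.q := by
  have h : P.invE = (Finset.univ.filter fun g => g ∈ P.E).erase 1 := by
    ext g; simp [invE, and_comm]
  rw [h, Finset.card_erase_add_one (by simp [one_mem]), Frame.q, Nat.card_eq_fintype_card, Fintype.card_subtype]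

theorem invE_subset : P.invE ⊆ P.classS := by
  intro g hg
  obtain ⟨h1, h2⟩ := (Finset.mem_filter.1 hg).2
  obtain ⟨k, -, e⟩ := P.exists_conj_K P.s_mem_E P.s_ne_one h1 h2
  exact Finset.mem_filter.2 ⟨Finset.mem_univ _, (isConj_iff.2 ⟨k, e⟩).symm⟩

/-- The class of `s` has `(n + 1)(q - 1)` elements. -/
theorem card_classS : P.classS.card = (Nat.card ↥Q + 1) * Nat.card ↥P.K := by
  have h1 : P.classS.card = (Subgroup.centralizer ({P.s} : Set G)).index := by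
    rw [← card_conjugates_eq_index (G := G) P.s, Nat.card_eq_fintype_card, Fintype.card_subtype]
    rfl
  refine Nat.eq_of_mul_eq_mul_right (Nat.card_pos (α := ↥(Subgroup.centralizer ({P.s} : Set G)))) ?_
  rw [h1, mul_comm, Subgroup.card_mul_index, P.card_centralizer_s, RankOne.card_group P.hS,
    show Nat.card ↥(MulAction.stabilizer G a ⊓ MulAction.stabilizer G (t • a)) = Nat.card ↥(pairD G a t) from rfl,
    P.card_D_eq]
  ring

/-- A product of two conjugates of `s` in `Q ∖ 1` has both factors in `E`. -/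
theorem mem_E_of_mul_mem {u w : G} (hu : u ∈ P.classS) (hw : w ∈ P.classS) (h : u * w ∈ Q) (h1 : u * w ≠ 1) :
    u ∈ P.invE ∧ w ∈ P.invE ∧ u ≠ w := by
  have key : ∀ g ∈ P.classS, g * g = 1 ∧ g ≠ 1 := by
    intro g hg
    obtain ⟨c, hc⟩ := isConj_iff.1 (Finset.mem_filter.1 hg).2.symm
    subst hc
    refine ⟨?_, fun h => P.s_ne_one (by rw [show P.s = c⁻¹ * (c * P.s * c⁻¹) * c by group, h]; group)⟩
    rw [show c * P.s * c⁻¹ * (c * P.s * c⁻¹) = c * (P.s * P.s) * c⁻¹ by group, P.E_sq P.s_mem_E]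
    group
  obtain ⟨hu2, hu1⟩ := key u hu
  obtain ⟨hw2, hw1⟩ := key w hw
  have hya : ((u * w)⁻¹) • a = a := RankOne.Q_smul_a P.hS (inv_mem h)
  have hua : u • a = a := RankOne.fixed_eq_of_mem_Q P.hS h h1 (by
    rw [← mul_smul, show u * w * u = u * (u * w)⁻¹ by
      rw [mul_inv_rev, inv_eq_of_mul_eq_one_right hu2, inv_eq_of_mul_eq_one_right hw2, mul_assoc],
      mul_smul, hya])
  have huE : u ∈ P.E := (P.mem_E_iff u).2 ⟨hua, hu2⟩
  have hwE : w ∈ P.E := (P.mem_E_iff w).2 ⟨by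
    rw [MulAction.mem_stabilizer_iff, show w = u⁻¹ * (u * w) by group, mul_smul,
      RankOne.Q_smul_a P.hS h, inv_smul_eq_iff, hua], hw2⟩
  exact ⟨Finset.mem_filter.2 ⟨Finset.mem_univ _, huE, hu1⟩, Finset.mem_filter.2 ⟨Finset.mem_univ _, hwE, hw1⟩,
    fun e => h1 (by rw [← e, hu2])⟩

/-- Sum of a function induced from `G_a` over the products of two conjugates of `s`. -/
theorem sum_classS_indG {α : ↥(MulAction.stabilizer G a) → ℂ}
    (hcl : IsClassFunction ↥(MulAction.stabilizer G a) α)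
    (hsupp : ∀ x : ↥(MulAction.stabilizer G a), (x : G) ∉ Q → α x = 0) (h1 : α 1 = 0) :
    ∑ u ∈ P.classS, ∑ w ∈ P.classS, P.indG α (u * w) =
      ((Nat.card ↥Q + 1 : ℕ) : ℂ) * ((P.q : ℂ) - 1) * ((P.q : ℂ) - 2) * α ⟨P.s, P.hS.le P.s_mem_Q⟩ := by
  set C := P.classS
  have hconj : ∀ x : G, ∀ u, x⁻¹ * u * x ∈ C ↔ u ∈ C := fun x u => by
    have e : IsConj u (x⁻¹ * u * x) := isConj_iff.2 ⟨x⁻¹, by group⟩
    simp only [C, classS, Finset.mem_filter, Finset.mem_univ, true_and]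
    exact ⟨e.trans, e.symm.trans⟩
  have hx : ∀ x : G, ∑ u ∈ C, ∑ w ∈ C, extendByZero (MulAction.stabilizer G a) α (x⁻¹ * (u * w) * x) =
      ∑ u ∈ C, ∑ w ∈ C, extendByZero (MulAction.stabilizer G a) α (u * w) := by
    intro x
    refine Finset.sum_nbij' (fun u => x⁻¹ * u * x) (fun u => x * u * x⁻¹) (fun u hu => (hconj x u).2 hu)
      (fun u hu => by simpa using (hconj x⁻¹ u).2 hu) (fun u _ => by group) (fun u _ => by group) fun u _ => ?_
    refine Finset.sum_nbij' (fun w => x⁻¹ * w * x) (fun w => x * w * x⁻¹) (fun w hw => (hconj x w).2 hw)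
      (fun w hw => by simpa using (hconj x⁻¹ w).2 hw) (fun w _ => by group) (fun w _ => by group) fun w _ => ?_
    congr 1
    group
  have hval : ∀ u ∈ C, ∀ w ∈ C, extendByZero (MulAction.stabilizer G a) α (u * w) =
      if u ∈ P.invE ∧ w ∈ P.invE ∧ u ≠ w then α ⟨P.s, P.hS.le P.s_mem_Q⟩ else 0 := by
    intro u hu w hw
    split_ifs with h
    · obtain ⟨hu', hw', hne⟩ := h
      obtain ⟨huE, -⟩ := (Finset.mem_filter.1 hu').2
      obtain ⟨hwE, -⟩ := (Finset.mem_filter.1 hw').2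
      have hy1 : u * w ≠ 1 := fun e => hne (by rw [← mul_inv_eq_one, P.E_inv hwE, e])
      obtain ⟨k, hk, e⟩ := P.exists_conj_K P.s_mem_E P.s_ne_one (mul_mem huE hwE) hy1
      have hB : u * w ∈ (MulAction.stabilizer G a) := P.hS.le (P.E_le (mul_mem huE hwE))
      rw [CfsgLib.OddOrderChar.extendByZero_of_mem (MulAction.stabilizer G a) α hB,
        ← hcl ⟨P.s, P.hS.le P.s_mem_Q⟩ ⟨k, (Subgroup.mem_inf.1 (P.K_le hk)).1⟩]
      exact congrArg α (Subtype.ext e.symm)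
    · by_cases hB : u * w ∈ (MulAction.stabilizer G a)
      · rw [CfsgLib.OddOrderChar.extendByZero_of_mem (MulAction.stabilizer G a) α hB]
        by_cases hQ : u * w ∈ Q
        · by_cases hy : u * w = 1
          · rw [show (⟨u * w, hB⟩ : ↥(MulAction.stabilizer G a)) = 1 from Subtype.ext hy, h1]
          · exact absurd (P.mem_E_of_mul_mem hu hw hQ hy) h
        · exact hsupp _ hQ
      · exact CfsgLib.OddOrderChar.extendByZero_of_notMem (MulAction.stabilizer G a) α hB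
  have hinner : ∀ u ∈ C, ∑ w ∈ C, extendByZero (MulAction.stabilizer G a) α (u * w) =
      if u ∈ P.invE then ((P.q : ℂ) - 2) * α ⟨P.s, P.hS.le P.s_mem_Q⟩ else 0 := by
    intro u hu
    rw [Finset.sum_congr rfl fun w hw => hval u hu w hw]
    split_ifs with hu'
    · rw [Finset.sum_ite, Finset.sum_const_zero, add_zero, Finset.sum_const, nsmul_eq_mul]
      congr 1
      have e : C.filter (fun w => u ∈ P.invE ∧ w ∈ P.invE ∧ u ≠ w) = P.invE.erase u := by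
        ext w
        simp only [Finset.mem_filter, Finset.mem_erase]
        exact ⟨fun h => ⟨fun e => h.2.2.2 e.symm, h.2.2.1⟩,
          fun h => ⟨P.invE_subset h.2, hu', h.2, fun e => h.1 e.symm⟩⟩
      have h2 : ((P.invE.erase u).card + 1 + 1 : ℕ) = P.q := by
        rw [Finset.card_erase_add_one hu', P.card_invE]
      rw [e, ← h2]
      push_cast
      ring
    · exact Finset.sum_eq_zero fun w _ => if_neg fun h => hu' h.1
  show ∑ u ∈ C, ∑ w ∈ C, indFun (MulAction.stabilizer G a) α (u * w) = _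
  unfold indFun
  rw [Finset.sum_congr rfl fun u _ => (Finset.mul_sum _ _ _).symm, ← Finset.mul_sum,
    Finset.sum_congr rfl fun u _ => Finset.sum_comm, Finset.sum_comm,
    Finset.sum_congr rfl fun x _ => hx x, Finset.sum_const, Finset.card_univ, nsmul_eq_mul,
    Finset.sum_congr rfl hinner, Finset.sum_ite, Finset.sum_const_zero, add_zero, Finset.sum_const,
    nsmul_eq_mul, show C.filter (fun u => u ∈ P.invE) = P.invE by
      ext u; simp only [Finset.mem_filter, and_iff_right_iff_imp]; exact fun h => P.invE_subset h]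
  have hG : (Fintype.card G : ℂ) = (Nat.card ↥(MulAction.stabilizer G a) : ℂ) * ((Nat.card ↥Q + 1 : ℕ) : ℂ) := by
    rw [← Nat.cast_mul, ← P.index_stab, Subgroup.card_mul_index, Nat.card_eq_fintype_card]
  have hcardE : (P.invE.card : ℂ) = (P.q : ℂ) - 1 := by rw [← P.card_invE]; push_cast; ring
  have hB0 : (Nat.card ↥(MulAction.stabilizer G a) : ℂ) ≠ 0 := natCard_ne_zero (G := ↥(MulAction.stabilizer G a))
  rw [hG, hcardE]
  field_simp

theorem sum_classS_eq {X : G → ℂ} (hX : IsIrrCharacter G X ∨ IsIrrCharacter G (-X)) :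
    (∑ u ∈ P.classS, ∑ w ∈ P.classS, X (u * w)) * X 1 = ((P.classS.card : ℂ) * X P.s) ^ 2 := by
  have hC : ∀ g : G, g ∈ P.classS ↔ IsConj g P.s := fun g => by simp [classS]
  rcases hX with hX | hX
  · exact sum_class_mul hX P.s _ hC
  · have h := sum_class_mul hX P.s _ hC
    simp only [Pi.neg_apply, Finset.sum_neg_distrib] at h
    linear_combination h

variable {Φ : Finset (Cfsg.IrrCharacter ↥Q)} {base : Cfsg.IrrCharacter ↥Q → ℕ} (h : CharFamily P Φ base)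
include h

/-- The image of a member. -/
noncomputable def image (φ : Cfsg.IrrCharacter ↥Q) : G → ℂ :=
  (P.exists_ext h (base φ)).choose (P.indB φ.1)

theorem image_ext (b : ℕ) : IsExt (P.baseSet Φ base b) P.indG (P.exists_ext h b).choose :=
  (P.exists_ext h b).choose_spec

theorem indB_mem {φ : Cfsg.IrrCharacter ↥Q} (hφ : φ ∈ Φ) : P.indB φ.1 ∈ P.baseSet Φ base (base φ) :=
  Finset.mem_image.2 ⟨φ, Finset.mem_filter.2 ⟨hφ, rfl⟩, rfl⟩

theorem image_eq {φ : Cfsg.IrrCharacter ↥Q} {b : ℕ} (hb : base φ = b) :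
    P.image h φ = (P.exists_ext h b).choose (P.indB φ.1) := by
  subst hb; rfl

theorem image_signed {φ : Cfsg.IrrCharacter ↥Q} (hφ : φ ∈ Φ) :
    IsIrrCharacter G (P.image h φ) ∨ IsIrrCharacter G (-P.image h φ) :=
  (P.image_ext h _).signed (P.baseSet_irr h _) (P.indB_mem h hφ)

/-- The identity for a member trivial on `E` and one non-trivial on `E`. -/
theorem pair_identity {φ₀ φ₁ : Cfsg.IrrCharacter ↥Q} (h₀ : φ₀ ∈ Φ) (h₁ : φ₁ ∈ Φ)
    (hb : base φ₀ = base φ₁) (hE₁ : TrivE P φ₁.1) (hE₀ : ¬ TrivE P φ₀.1) :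
    ((Nat.card ↥Q + 1 : ℕ) : ℂ) * ((P.q : ℂ) - 1) *
        (2 * P.image h φ₀ P.s + (Nat.card ↥P.Cs : ℂ) * P.q * φ₀.1 1) = ((P.q : ℂ) - 2) * P.image h φ₀ 1 ∧
      ((Nat.card ↥Q + 1 : ℕ) : ℂ) * ((P.q : ℂ) - 1) *
        (2 * P.image h φ₁ P.s - (Nat.card ↥P.Cs : ℂ) * P.q * φ₁.1 1) = ((P.q : ℂ) - 2) * P.image h φ₁ 1 := by
  obtain ⟨e, he, he₀, hpos, hb0, -⟩ := P.deg_indB h h₀
  have hφ₁ : φ₁.1 1 = (base φ₀ : ℂ) := by rw [h.triv_deg φ₁ h₁ hE₁, hb]
  set b := base φ₀ with hbdef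
  set δ := Nat.card ↥(pairD G a t) with hδ
  set w : ℂ := (Nat.card ↥P.Cs : ℂ) with hw
  set θ₀ := P.indB φ₀.1 with hθ₀
  set θ₁ := P.indB φ₁.1 with hθ₁
  have hf := P.image_ext h b
  have hm₀ : θ₀ ∈ P.baseSet Φ base b := P.indB_mem h h₀
  have hm₁ : θ₁ ∈ P.baseSet Φ base b := by
    show P.indB φ₁.1 ∈ P.baseSet Φ base (base φ₀)
    rw [show base φ₀ = base φ₁ from hb]
    exact P.indB_mem h h₁
  have hX₁ : P.image h φ₁ = (P.exists_ext h b).choose θ₁ := P.image_eq h hb.symm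
  set X₀ := P.image h φ₀ with hX₀
  set X₁ := P.image h φ₁
  have hisom := P.isom_indG h (S := P.baseSet Φ base b) fun θ hθ => by
    obtain ⟨φ, hφ, -, e⟩ := P.baseSet_spec h hθ
    exact ⟨φ, hφ, e⟩
  have hd₀ : θ₀ 1 = (δ : ℂ) * e * b := by rw [he₀]; push_cast; rfl
  have hd₁ : θ₁ 1 = (δ : ℂ) * b := by rw [hθ₁, P.indB_one (isClassFunction_of_isIrr φ₁.2), hφ₁]
  have hdeg : θ₁ 1 * X₀ 1 = θ₀ 1 * X₁ 1 := by
    rw [hX₁]
    exact hf.one_mul (degSet_irr (P.baseSet_irr h b)) hisom hm₀ hm₁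
  have hag : θ₁ 1 • X₀ - θ₀ 1 • X₁ = P.indG (edge θ₀ θ₁) := by
    rw [hX₁]
    exact hf.agree θ₀ hm₀ θ₁ hm₁
  set α := edge θ₀ θ₁ with hα
  have hsupp : ∀ x : ↥(MulAction.stabilizer G a), (x : G) ∉ Q → α x = 0 := fun x hx => by
    haveI := P.normal_subgroupOf
    have hz : ∀ φ : ↥Q → ℂ, P.indB φ x = 0 := fun φ =>
      CfsgLib.OddOrderChar.indFun_normal_eq_zero _ _ fun h => hx (Subgroup.mem_subgroupOf.1 h)
    simp only [hα, edge, Pi.sub_apply, Pi.smul_apply, smul_eq_mul, hθ₀, hθ₁, hz, mul_zero, sub_zero]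
  have hα1 : α 1 = 0 := by simp only [hα, edge, Pi.sub_apply, Pi.smul_apply, smul_eq_mul]; ring
  have hcl : IsClassFunction ↥(MulAction.stabilizer G a) α := fun x y => by
    simp only [hα, edge, Pi.sub_apply, Pi.smul_apply, smul_eq_mul,
      isClassFunction_of_isIrr (P.baseSet_irr h b θ₀ hm₀) x y,
      isClassFunction_of_isIrr (P.baseSet_irr h b θ₁ hm₁) x y]
  obtain ⟨hTI, hN⟩ := P.isTI_Q
  have hs : P.indG α P.s = α ⟨P.s, P.hS.le P.s_mem_Q⟩ := ti_ind_apply hTI hN hcl hsupp hα1 ⟨P.s, _⟩ P.s_mem_Q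
  have hδw : (δ : ℂ) + w = w * P.q := by
    rw [hδ, P.card_D_eq, hw, ← P.card_K_add_one]
    push_cast
    ring
  have hαs : α ⟨P.s, P.hS.le P.s_mem_Q⟩ = -((δ : ℂ) * e * b ^ 2 * (w * P.q)) := by
    simp only [hα, edge, Pi.sub_apply, Pi.smul_apply, smul_eq_mul]
    rw [hd₀, hd₁, hθ₀, hθ₁, P.indB_s, P.indB_s, if_neg hE₀, if_pos hE₁, he, hφ₁, ← hδw]
    ring
  have hsum := P.sum_classS_indG hcl hsupp hα1
  simp only [← hag, Pi.sub_apply, Pi.smul_apply, smul_eq_mul, Finset.sum_sub_distrib, ← Finset.mul_sum] at hsum hs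
  rw [hd₀, hd₁] at hdeg hsum hs
  have hδ0 : (δ : ℂ) ≠ 0 := natCard_ne_zero (G := ↥(pairD G a t))
  have hb0' : (b : ℂ) ≠ 0 := Nat.cast_ne_zero.2 hb0.ne'
  have he0 : (e : ℂ) ≠ 0 := Nat.cast_ne_zero.2 hpos.ne'
  have hw0 : w ≠ 0 := by rw [hw]; exact natCard_ne_zero (G := ↥P.Cs)
  have hq := P.four_le_q
  have hq0 : (P.q : ℂ) ≠ 0 := Nat.cast_ne_zero.2 (by omega)
  have hdeg' : X₀ 1 = (e : ℂ) * X₁ 1 := mul_left_cancel₀ (mul_ne_zero hδ0 hb0') (by linear_combination hdeg)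
  have hI : (P.classS.card : ℂ) = ((Nat.card ↥Q + 1 : ℕ) : ℂ) * ((P.q : ℂ) - 1) := by
    rw [P.card_classS, ← P.card_K_add_one]
    push_cast
    ring
  have hN1 : ((Nat.card ↥Q + 1 : ℕ) : ℂ) ≠ 0 := Nat.cast_ne_zero.2 (Nat.succ_ne_zero _)
  have hq1 : (P.q : ℂ) - 1 ≠ 0 := sub_ne_zero.2 (by exact_mod_cast (show P.q ≠ 1 by omega))
  set N : ℂ := ((Nat.card ↥Q + 1 : ℕ) : ℂ)
  set A₀ := ∑ u ∈ P.classS, ∑ w ∈ P.classS, X₀ (u * w)
  set A₁ := ∑ u ∈ P.classS, ∑ w ∈ P.classS, X₁ (u * w)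
  have hA₀ : A₀ * X₀ 1 = (N * ((P.q : ℂ) - 1) * X₀ P.s) ^ 2 := by
    rw [← hI]; exact P.sum_classS_eq (P.image_signed h h₀)
  have hA₁ : A₁ * X₁ 1 = (N * ((P.q : ℂ) - 1) * X₁ P.s) ^ 2 := by
    rw [← hI]; exact P.sum_classS_eq (P.image_signed h h₁)
  rw [hαs] at hsum hs
  have hdiff : X₀ P.s - (e : ℂ) * X₁ P.s = -((e : ℂ) * b * (w * P.q)) :=
    mul_left_cancel₀ (mul_ne_zero hδ0 hb0') (by linear_combination hs)
  have hsum' : A₀ - (e : ℂ) * A₁ = -(N * ((P.q : ℂ) - 1) * ((P.q : ℂ) - 2) * ((e : ℂ) * b * (w * P.q))) :=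
    mul_left_cancel₀ (mul_ne_zero hδ0 hb0') (by linear_combination hsum)
  have hplus : N * ((P.q : ℂ) - 1) * (X₀ P.s + (e : ℂ) * X₁ P.s) = ((P.q : ℂ) - 2) * X₀ 1 := by
    refine mul_left_cancel₀ (mul_ne_zero (mul_ne_zero hN1 hq1)
      (mul_ne_zero (mul_ne_zero he0 hb0') (mul_ne_zero hw0 hq0))) ?_
    have h2 : A₀ * X₀ 1 - (e : ℂ) ^ 2 * (A₁ * X₁ 1) = (A₀ - (e : ℂ) * A₁) * X₀ 1 := by
      rw [hdeg']; ring
    rw [hA₀, hA₁, hsum'] at h2
    linear_combination (-1 : ℂ) * h2 + (N * ((P.q : ℂ) - 1)) ^ 2 * (X₀ P.s + (e : ℂ) * X₁ P.s) * hdiff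
  constructor
  · rw [he]
    linear_combination hplus + N * ((P.q : ℂ) - 1) * hdiff
  · rw [hφ₁]
    refine mul_left_cancel₀ he0 ?_
    linear_combination hplus - N * ((P.q : ℂ) - 1) * hdiff + ((P.q : ℂ) - 2) * hdeg'

/-- The value at `s` of the image of each member. -/
theorem image_identity {φ : Cfsg.IrrCharacter ↥Q} (hφ : φ ∈ Φ) :
    ∃ σ : ℂ, (σ = 1 ∨ σ = -1) ∧ ((Nat.card ↥Q + 1 : ℕ) : ℂ) * ((P.q : ℂ) - 1) *
      (2 * P.image h φ P.s + σ * ((Nat.card ↥P.Cs : ℂ) * P.q * φ.1 1)) = ((P.q : ℂ) - 2) * P.image h φ 1 := by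
  by_cases hE : TrivE P φ.1
  · obtain ⟨φ₀, h₀, hb, hE₀⟩ := h.hasF0 φ hφ
    refine ⟨-1, Or.inr rfl, ?_⟩
    rw [neg_one_mul, ← sub_eq_add_neg]
    exact (P.pair_identity h h₀ hφ hb hE hE₀).2
  · obtain ⟨φ₁, h₁, hb, hE₁⟩ := h.hasF1 φ hφ
    refine ⟨1, Or.inl rfl, ?_⟩
    rw [one_mul]
    exact (P.pair_identity h hφ h₁ hb.symm hE₁ hE).1

theorem conjD_mem {φ : Cfsg.IrrCharacter ↥Q} (hφ : φ ∈ Φ) {ψ : Cfsg.IrrCharacter ↥Q}
    (he : P.indB ψ.1 = P.indB φ.1) : ψ ∈ Φ ∧ base ψ = base φ := by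
  obtain ⟨d, hd⟩ := P.eq_conjD_of_indB_eq he
  exact h.closed φ hφ d ψ hd

/-- Different orbits have images which differ even up to sign. -/
theorem indB_eq_of_inner {φ ψ : Cfsg.IrrCharacter ↥Q} (hφ : φ ∈ Φ) (hψ : ψ ∈ Φ)
    (hne : classInner (P.image h φ) (P.image h ψ) ≠ 0) : P.indB φ.1 = P.indB ψ.1 := by
  by_contra hθ
  have hB := P.baseSet_irr h
  by_cases hbase : base φ = base ψ
  · refine hne ?_
    rw [P.image_eq h (rfl : base φ = base φ), P.image_eq h hbase.symm,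
      (P.image_ext h (base φ)).inner _ (P.indB_mem h hφ) _ (hbase ▸ P.indB_mem h hψ)]
    exact classInner_isIrr_ne (hB _ _ (P.indB_mem h hφ)) (hB _ _ (P.indB_mem h hψ)) hθ
  obtain ⟨φp, hφp, hbp, hdp, hnep⟩ := h.partner φ hφ
  obtain ⟨ψp, hψp, hbq, hdq, hneq⟩ := h.partner ψ hψ
  have hf := P.image_ext h (base φ)
  have hg := P.image_ext h (base ψ)
  have hm' : (P.indB φp.1) ∈ P.baseSet Φ base (base φ) := hbp ▸ P.indB_mem h hφp
  have hn' : (P.indB ψp.1) ∈ P.baseSet Φ base (base ψ) := hbq ▸ P.indB_mem h hψp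
  have hθθ' : (P.indB φ.1) ≠ (P.indB φp.1) := fun e => by
    obtain ⟨d, hd⟩ := P.eq_conjD_of_indB_eq e.symm
    exact hnep d hd
  have hηη' : (P.indB ψ.1) ≠ (P.indB ψp.1) := fun e => by
    obtain ⟨d, hd⟩ := P.eq_conjD_of_indB_eq e.symm
    exact hneq d hd
  set c := (P.indB φ.1) 1 with hc
  set c' := (P.indB ψ.1) 1 with hc'
  have hθ'1 : (P.indB φp.1) 1 = c := by
    show P.indB φp.1 1 = P.indB φ.1 1
    rw [P.indB_one (isClassFunction_of_isIrr φp.2), P.indB_one (isClassFunction_of_isIrr φ.2), hdp]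
  have hη'1 : (P.indB ψp.1) 1 = c' := by
    show P.indB ψp.1 1 = P.indB ψ.1 1
    rw [P.indB_one (isClassFunction_of_isIrr ψp.2), P.indB_one (isClassFunction_of_isIrr ψ.2), hdq]
  have hc0 : c ≠ 0 := irr_one_ne_zero (hB _ _ (P.indB_mem h hφ))
  have hc'0 : c' ≠ 0 := irr_one_ne_zero (hB _ _ (P.indB_mem h hψ))
  set f := (P.exists_ext h (base φ)).choose
  set g := (P.exists_ext h (base ψ)).choose
  have hXf : P.image h φ = f (P.indB φ.1) := rfl
  have hXg : P.image h ψ = g (P.indB ψ.1) := rfl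
  rw [hXf, hXg] at hne
  have hsf := hf.signed (hB _) (P.indB_mem h hφ)
  have hsg := hg.signed (hB _) (P.indB_mem h hψ)
  have hsf' := hf.signed (hB _) hm'
  have hsg' := hg.signed (hB _) hn'
  obtain ⟨s, hs, hgs⟩ := classInner_signed hsf hsg hne
  have hff : classInner (f (P.indB φ.1)) (f (P.indB φ.1)) = 1 := by
    rw [hf.inner _ (P.indB_mem h hφ) _ (P.indB_mem h hφ), classInner_isIrr_self (hB _ _ (P.indB_mem h hφ))]
  have hff' : classInner (f (P.indB φp.1)) (f (P.indB φp.1)) = 1 := by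
    rw [hf.inner _ hm' _ hm', classInner_isIrr_self (hB _ _ hm')]
  have hf0 : classInner (f (P.indB φp.1)) (f (P.indB φ.1)) = 0 := by
    rw [hf.inner _ hm' _ (P.indB_mem h hφ)]
    exact classInner_isIrr_ne (hB _ _ hm') (hB _ _ (P.indB_mem h hφ)) hθθ'.symm
  have hg0 : classInner (g (P.indB ψ.1)) (g (P.indB ψp.1)) = 0 := by
    rw [hg.inner _ (P.indB_mem h hψ) _ hn']
    exact classInner_isIrr_ne (hB _ _ (P.indB_mem h hψ)) (hB _ _ hn') hηη'
  -- the two differences are orthogonal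
  have hS : ∀ x ∈ P.baseSet Φ base (base φ) ∪ P.baseSet Φ base (base ψ),
      ∃ φ' ∈ Φ, x = P.indB φ'.1 := by
    intro x hx
    rcases Finset.mem_union.1 hx with hx | hx <;> obtain ⟨φ', hφ', -, e⟩ := P.baseSet_spec h hx <;>
      exact ⟨φ', hφ', e⟩
  have hdeg := degSet_irr (S := P.baseSet Φ base (base φ) ∪ P.baseSet Φ base (base ψ)) fun x hx => by
    rcases Finset.mem_union.1 hx with hx | hx <;> exact hB _ x hx
  have hin := (P.isom_indG h hS).inner _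
    (hdeg.edge_mem (Finset.mem_union_left _ (P.indB_mem h hφ)) (Finset.mem_union_left _ hm')) _
    (hdeg.edge_mem (Finset.mem_union_right _ (P.indB_mem h hψ)) (Finset.mem_union_right _ hn'))
  rw [← hf.agree (P.indB φ.1) (P.indB_mem h hφ) (P.indB φp.1) hm', ← hg.agree (P.indB ψ.1) (P.indB_mem h hψ) (P.indB ψp.1) hn'] at hin
  have horth : ∀ x ∈ P.baseSet Φ base (base φ), ∀ y ∈ P.baseSet Φ base (base ψ), classInner x y = 0 := by
    intro x hx y hy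
    refine classInner_isIrr_ne (hB _ _ hx) (hB _ _ hy) fun e => hbase ?_
    obtain ⟨α, hα, hαb, rfl⟩ := P.baseSet_spec h hx
    obtain ⟨β, hβ, hβb, rfl⟩ := P.baseSet_spec h hy
    rw [← hαb, ← hβb, (P.conjD_mem h hβ e).2]
  simp only [edge, hθ'1, hη'1, ci_sub_left, ci_sub_right, ci_smul_left, ci_smul_right, ← hc, ← hc'] at hin
  rw [horth (P.indB φ.1) (P.indB_mem h hφ) (P.indB ψ.1) (P.indB_mem h hψ), horth (P.indB φ.1) (P.indB_mem h hφ) (P.indB ψp.1) hn',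
    horth (P.indB φp.1) hm' (P.indB ψ.1) (P.indB_mem h hψ), horth (P.indB φp.1) hm' (P.indB ψp.1) hn'] at hin
  have hfg : classInner (f (P.indB φ.1)) (g (P.indB ψ.1)) = (s : ℂ) := by
    rw [hgs, ci_smul_right, hff, map_intCast, mul_one]
  have hf'g : classInner (f (P.indB φp.1)) (g (P.indB ψ.1)) = 0 := by rw [hgs, ci_smul_right, hf0, mul_zero]
  have hfg' : classInner (f (P.indB φ.1)) (g (P.indB ψp.1)) = 0 := by
    rcases hs with rfl | rfl
    · rw [show f (P.indB φ.1) = g (P.indB ψ.1) by rw [hgs]; simp]; exact hg0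
    · rw [show f (P.indB φ.1) = -g (P.indB ψ.1) by rw [hgs]; simp, ci_neg_left, hg0, neg_zero]
  rw [hfg, hf'g, hfg'] at hin
  have hconj : conj c' = c' := by
    obtain ⟨m, -, hm⟩ := exists_degree_pos (hB _ _ (P.indB_mem h hψ))
    show conj ((P.indB ψ.1) 1) = (P.indB ψ.1) 1
    rw [hm, Complex.conj_natCast]
  rw [hconj] at hin
  have hf'g' : classInner (f (P.indB φp.1)) (g (P.indB ψp.1)) = -(s : ℂ) :=
    mul_left_cancel₀ (mul_ne_zero hc0 hc'0) (by linear_combination hin)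
  have hs0 : (s : ℂ) ≠ 0 := by rcases hs with rfl | rfl <;> norm_num
  obtain ⟨ε, -, hgε⟩ := classInner_signed hsf' hsg' (by rw [hf'g']; exact neg_ne_zero.2 hs0)
  rw [hgε, ci_smul_right, hff', map_intCast, mul_one] at hf'g'
  have h1 := hf.one_mul (degSet_irr (hB _)) (P.isom_indG h fun x hx => hS x (Finset.mem_union_left _ hx))
    (P.indB_mem h hφ) hm'
  have h2 := hg.one_mul (degSet_irr (hB _)) (P.isom_indG h fun x hx => hS x (Finset.mem_union_right _ hx))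
    (P.indB_mem h hψ) hn'
  rw [hθ'1, ← hc] at h1
  rw [hη'1, ← hc'] at h2
  have h1' : f (P.indB φ.1) 1 = f (P.indB φp.1) 1 := mul_left_cancel₀ hc0 h1
  have h2' : g (P.indB ψ.1) 1 = g (P.indB ψp.1) 1 := mul_left_cancel₀ hc'0 h2
  rw [hgs, hgε, Pi.smul_apply, Pi.smul_apply, smul_eq_mul, smul_eq_mul, hf'g', ← h1'] at h2'
  have h3 : (2 * (s : ℂ)) * f (P.indB φ.1) 1 = 0 := by linear_combination h2'
  exact (mul_ne_zero (mul_ne_zero two_ne_zero hs0) (signed_one_ne_zero hsf)) h3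

/-- An irreducible character up to sign of each member, at most `|D|` times each. -/
theorem exists_pos : ∃ pos : Cfsg.IrrCharacter ↥Q → Cfsg.IrrCharacter G, ∀ F : Cfsg.IrrCharacter G → ℝ,
    (∀ χ, 0 ≤ F χ) → (∀ φ ∈ Φ, ∃ σ : ℂ, (σ = 1 ∨ σ = -1) ∧ P.image h φ = σ • (pos φ).1) ∧
      ∑ φ ∈ Φ, F (pos φ) ≤ Nat.card ↥(pairD G a t) * ∑ χ, F χ := by
  have hex : ∀ φ : Cfsg.IrrCharacter ↥Q, ∃ χ : Cfsg.IrrCharacter G, φ ∈ Φ →
      ∃ σ : ℂ, (σ = 1 ∨ σ = -1) ∧ P.image h φ = σ • χ.1 := by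
    intro φ
    by_cases hφ : φ ∈ Φ
    · rcases P.image_signed h hφ with hi | hi
      · exact ⟨⟨_, hi⟩, fun _ => ⟨1, Or.inl rfl, (one_smul _ _).symm⟩⟩
      · exact ⟨⟨_, hi⟩, fun _ => ⟨-1, Or.inr rfl, by simp⟩⟩
    · exact ⟨⟨_, isIrr_one⟩, fun hc => absurd hc hφ⟩
  choose pos hpos using hex
  refine ⟨pos, fun F hF => ⟨hpos, ?_⟩⟩
  rw [← Finset.sum_fiberwise Φ pos, Finset.mul_sum]
  refine Finset.sum_le_sum fun χ _ => ?_
  rw [Finset.sum_congr rfl (g := fun _ => F χ) (fun φ hφ => by rw [(Finset.mem_filter.1 hφ).2]),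
    Finset.sum_const, nsmul_eq_mul]
  refine mul_le_mul_of_nonneg_right ?_ (hF χ)
  rw [Nat.cast_le]
  rcases (Φ.filter fun φ => pos φ = χ).eq_empty_or_nonempty with hE | ⟨φ₀, hφ₀⟩
  · rw [hE]; exact Nat.zero_le _
  rw [Nat.card_eq_fintype_card, ← Finset.card_univ]
  refine (Finset.card_le_card (t := (Finset.univ : Finset ↥(pairD G a t)).image fun d =>
    (⟨conjD P d φ₀.1, ?_⟩ : Cfsg.IrrCharacter ↥Q)) ?_).trans Finset.card_image_le
  · exact CfsgLib.OddOrderChar.isIrrCharacter_comp_equiv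
      (conjAut Q (fun c hc x hx => RankOne.D_norm_Q P.hS hc hx) d) φ₀.2
  · intro φ hφ
    obtain ⟨hφΦ, hφχ⟩ := Finset.mem_filter.1 hφ
    obtain ⟨hφ₀Φ, hφ₀χ⟩ := Finset.mem_filter.1 hφ₀
    obtain ⟨σ, hσ, e⟩ := hpos φ hφΦ
    obtain ⟨σ₀, hσ₀, e₀⟩ := hpos φ₀ hφ₀Φ
    obtain ⟨d, hd⟩ := P.eq_conjD_of_indB_eq (P.indB_eq_of_inner h hφΦ hφ₀Φ (by
      rw [e, e₀, hφχ, hφ₀χ, ci_smul_left, ci_smul_right, classInner_isIrr_self χ.2]
      rcases hσ with rfl | rfl <;> rcases hσ₀ with rfl | rfl <;> norm_num))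
    exact Finset.mem_image.2 ⟨d, Finset.mem_univ _, Subtype.ext hd.symm⟩

/-- The real form of the identity. -/
theorem pos_identity {φ : Cfsg.IrrCharacter ↥Q} (hφ : φ ∈ Φ) {χ : Cfsg.IrrCharacter G} {σ : ℂ}
    (hσ : σ = 1 ∨ σ = -1) (e : P.image h φ = σ • χ.1) :
    ∃ (z : ℤ) (n : ℕ) (ε : ℝ), 0 < n ∧ (ε = 1 ∨ ε = -1) ∧ χ.1 P.s = z ∧ χ.1 1 = n ∧
      ((Nat.card ↥Q : ℝ) + 1) * ((P.q : ℝ) - 1) * (2 * z + ε * ((Nat.card ↥P.Cs : ℝ) * P.q * (φ.1 1).re)) =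
        ((P.q : ℝ) - 2) * n := by
  obtain ⟨τ, hτ, hid⟩ := P.image_identity h hφ
  obtain ⟨z, hz⟩ := exists_int_of_involution (isCharacter_of_isIrr χ.2) (P.E_sq P.s_mem_E)
  obtain ⟨n, hn0, hn⟩ := exists_degree_pos χ.2
  obtain ⟨m, -, hm⟩ := exists_degree_pos φ.2
  simp only [e, Pi.smul_apply, smul_eq_mul, hz, hn, hm] at hid
  push_cast at hid
  have key : ∀ ε : ℤ, σ * (ε : ℂ) = τ → ((Nat.card ↥Q : ℝ) + 1) * ((P.q : ℝ) - 1) *
      (2 * z + (ε : ℝ) * ((Nat.card ↥P.Cs : ℝ) * P.q * (φ.1 1).re)) = ((P.q : ℝ) - 2) * n := by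
    intro ε hε
    rw [hm, Complex.natCast_re]
    apply Complex.ofReal_injective
    push_cast
    have hσ0 : σ ≠ 0 := by rcases hσ with rfl | rfl <;> norm_num
    refine mul_left_cancel₀ hσ0 ?_
    rw [← hε] at hid
    linear_combination hid
  rcases hσ with rfl | rfl <;> rcases hτ with rfl | rfl
  · exact ⟨z, n, ((1 : ℤ) : ℝ), hn0, by simp, hz, hn, key 1 (by simp)⟩
  · exact ⟨z, n, ((-1 : ℤ) : ℝ), hn0, by simp, hz, hn, key (-1) (by simp)⟩
  · exact ⟨z, n, ((-1 : ℤ) : ℝ), hn0, by simp, hz, hn, key (-1) (by simp)⟩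
  · exact ⟨z, n, ((1 : ℤ) : ℝ), hn0, by simp, hz, hn, key 1 (by simp)⟩

omit h in
/-- The values at `s` of the irreducible characters. -/
theorem sum_sq_at_s : ∑ χ : Cfsg.IrrCharacter G, (χ.1 P.s).re ^ 2 =
    (Nat.card ↥Q : ℝ) * Nat.card ↥P.Cs := by
  have hsum := congrArg Complex.re (sum_irr_mul_conj_of_isConj (IsConj.refl P.s))
  rw [P.card_centralizer_s, Complex.re_sum, Complex.natCast_re, Nat.cast_mul] at hsum
  rw [← hsum]
  refine Finset.sum_congr rfl fun χ _ => ?_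
  obtain ⟨z, hz⟩ := exists_int_of_involution (isCharacter_of_isIrr χ.2) (P.E_sq P.s_mem_E)
  rw [hz, map_intCast, ← Int.cast_mul, Complex.intCast_re, Complex.intCast_re]
  push_cast
  ring

omit h in
theorem sum_sq_degree_G : ∑ χ : Cfsg.IrrCharacter G, (χ.1 1).re ^ 2 =
    (Nat.card ↥Q : ℝ) * (((P.q : ℝ) - 1) * Nat.card ↥P.Cs) * ((Nat.card ↥Q : ℝ) + 1) := by
  have hsum := congrArg Complex.re (sum_degree_sq (G := G))
  rw [Complex.re_sum, Complex.natCast_re, RankOne.card_group P.hS,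
    show Nat.card ↥(MulAction.stabilizer G a ⊓ MulAction.stabilizer G (t • a)) = Nat.card ↥(pairD G a t) from rfl,
    P.card_D_eq] at hsum
  rw [← P.card_K_add_one]
  push_cast at hsum ⊢
  rw [add_sub_cancel_right, ← hsum]
  refine Finset.sum_congr rfl fun χ _ => ?_
  obtain ⟨n, -, hn⟩ := exists_degree_pos χ.2
  rw [hn, Complex.natCast_re, pow_two (n : ℂ), ← Nat.cast_mul, Complex.natCast_re]
  push_cast
  ring

end Frame

section Bounds

variable {G' : Type u} [Group G'] [MulAction G' Ω] [Finite G'] {a' : Ω} {t' : G'} {Q' : Subgroup G'}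

/-- The mass of a family is small. -/
theorem regular_mass_bound (P : Frame a' t' Q') {Φ : Finset (Cfsg.IrrCharacter ↥Q')}
    {base : Cfsg.IrrCharacter ↥Q' → ℕ} (h : CharFamily P Φ base) {c : ℝ} (hc : 0 < c) :
    (P.q : ℝ) ^ 2 * ∑ φ ∈ Φ, (φ.1 1).re ^ 2 ≤
      (1 + c) * 4 * ((P.q : ℝ) - 1) * Nat.card Q' + (1 + 1 / c) * ((P.q : ℝ) - 2) ^ 2 := by
  haveI := Fintype.ofFinite G'
  obtain ⟨pos, hpos⟩ := P.exists_pos h
  set n : ℝ := (Nat.card Q' : ℝ) with hn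
  set w : ℝ := (Nat.card ↥P.Cs : ℝ) with hw
  set κ : ℝ := ((P.q : ℝ) - 2) / ((n + 1) * ((P.q : ℝ) - 1)) with hκ
  have hq : (4 : ℝ) ≤ P.q := by exact_mod_cast P.four_le_q
  have hn0 : 0 < n := by rw [hn]; exact_mod_cast Nat.card_pos
  have hw0 : 0 < w := by rw [hw]; exact_mod_cast Nat.card_pos
  have hQ1 : (0 : ℝ) < (P.q : ℝ) - 1 := by linarith
  set F : Cfsg.IrrCharacter G' → ℝ := fun χ =>
    (1 + c) * 4 * (χ.1 P.s).re ^ 2 + (1 + 1 / c) * κ ^ 2 * (χ.1 1).re ^ 2 with hFdef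
  have h1c : (0 : ℝ) ≤ 1 / c := by positivity
  obtain ⟨himg, hsum⟩ := hpos F fun χ => by positivity
  have hle : ∑ φ ∈ Φ, (w * P.q) ^ 2 * (φ.1 1).re ^ 2 ≤ ∑ φ ∈ Φ, F (pos φ) := by
    refine Finset.sum_le_sum fun φ hφ => ?_
    obtain ⟨σ, hσ, e⟩ := himg φ hφ
    obtain ⟨z, m, ε, -, hε, hz, hm, hid⟩ := P.pos_identity h hφ hσ e
    rw [← hn, ← hw] at hid
    simp only [hFdef, hz, hm, Complex.intCast_re, Complex.natCast_re]
    have hid' : ε * (w * P.q * (φ.1 1).re) = κ * m - 2 * z := by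
      rw [hκ]
      field_simp
      linear_combination hid
    have hsq : (w * P.q) ^ 2 * (φ.1 1).re ^ 2 = (κ * m - 2 * z) ^ 2 := by
      rw [← hid']
      rcases hε with rfl | rfl <;> ring
    rw [hsq]
    have key : 0 ≤ c * (2 * (z : ℝ) + κ * m / c) ^ 2 := by positivity
    have e2 : c * (2 * (z : ℝ) + κ * m / c) ^ 2 = 4 * c * z ^ 2 + 4 * (z : ℝ) * (κ * m) + (κ * m) ^ 2 / c := by
      field_simp
      ring
    rw [e2] at key
    have e3 : (1 + 1 / c) * κ ^ 2 * (m : ℝ) ^ 2 = (κ * m) ^ 2 + (κ * m) ^ 2 / c := by ring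
    rw [e3]
    nlinarith
  have htot := hle.trans hsum
  rw [hFdef, Finset.sum_add_distrib, ← Finset.mul_sum, ← Finset.mul_sum, ← Finset.mul_sum, P.sum_sq_at_s,
    P.sum_sq_degree_G, P.card_D_eq] at htot
  have hK : (Nat.card ↥P.K : ℝ) = (P.q : ℝ) - 1 := by rw [← P.card_K_add_one]; push_cast; ring
  rw [Nat.cast_mul, hK, ← hn, ← hw] at htot
  have hb : κ ^ 2 * (n * (((P.q : ℝ) - 1) * w) * (n + 1)) =
      ((P.q : ℝ) - 2) ^ 2 / ((P.q : ℝ) - 1) * w * (n / (n + 1)) := by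
    rw [hκ]
    field_simp
  have hfrac : n / (n + 1) ≤ 1 := by rw [div_le_one (by linarith)]; linarith
  have hqq : 0 ≤ ((P.q : ℝ) - 2) ^ 2 / ((P.q : ℝ) - 1) * w := by positivity
  have htot' : w ^ 2 * ((P.q : ℝ) ^ 2 * ∑ φ ∈ Φ, (φ.1 1).re ^ 2) ≤
      w ^ 2 * ((1 + c) * 4 * ((P.q : ℝ) - 1) * n + (1 + 1 / c) * ((P.q : ℝ) - 2) ^ 2) := by
    have h2 : ((P.q : ℝ) - 1) * w * ((1 + 1 / c) * (((P.q : ℝ) - 2) ^ 2 / ((P.q : ℝ) - 1) * w * (n / (n + 1)))) ≤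
        ((P.q : ℝ) - 1) * w * ((1 + 1 / c) * (((P.q : ℝ) - 2) ^ 2 / ((P.q : ℝ) - 1) * w * 1)) := by
      gcongr
    have h3 : ((P.q : ℝ) - 1) * w * ((1 + 1 / c) * (((P.q : ℝ) - 2) ^ 2 / ((P.q : ℝ) - 1) * w * 1)) =
        w ^ 2 * ((1 + 1 / c) * ((P.q : ℝ) - 2) ^ 2) := by
      field_simp
    rw [mul_assoc (1 + 1 / c) (κ ^ 2), hb, mul_add] at htot
    linarith
  exact le_of_mul_le_mul_left htot' (by positivity)

/-- A family of linear characters is small. -/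
theorem linear_count_bound (P : Frame a' t' Q') {Φ : Finset (Cfsg.IrrCharacter ↥Q')}
    {base : Cfsg.IrrCharacter ↥Q' → ℕ} (h : CharFamily P Φ base)
    (h1 : ∀ φ ∈ Φ, base φ = 1 ∧ φ.1 1 = 1) :
    (Nat.card Q' + 1) * Φ.card ≤ Nat.card ↥(pairD G' a' t') ^ 2 * Nat.card Q' := by
  haveI := Fintype.ofFinite G'
  obtain ⟨pos, hpos⟩ := P.exists_pos h
  obtain ⟨himg, hsum⟩ := hpos (fun χ => (χ.1 1).re ^ 2) fun χ => sq_nonneg _
  set n := Nat.card Q' with hn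
  have hlow : ∑ φ ∈ Φ, ((n : ℝ) + 1) ^ 2 ≤ ∑ φ ∈ Φ, ((pos φ).1 1).re ^ 2 := by
    refine Finset.sum_le_sum fun φ hφ => ?_
    obtain ⟨σ, hσ, e⟩ := himg φ hφ
    obtain ⟨z, m, ε, hm0, hε, hz, hm, hid⟩ := P.pos_identity h hφ hσ e
    rw [(h1 φ hφ).2, Complex.one_re, mul_one] at hid
    rw [hm, Complex.natCast_re]
    have hq : (4 : ℝ) ≤ P.q := by exact_mod_cast P.four_le_q
    obtain ⟨y, hy⟩ : ∃ y : ℤ, (y : ℝ) = 2 * z + ε * ((Nat.card ↥P.Cs : ℝ) * P.q) := by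
      rcases hε with rfl | rfl
      · exact ⟨2 * z + (Nat.card ↥P.Cs * P.q : ℕ), by push_cast; ring⟩
      · exact ⟨2 * z - (Nat.card ↥P.Cs * P.q : ℕ), by push_cast; ring⟩
    rw [← hy, ← hn] at hid
    have hm0' : (0 : ℝ) < m := by exact_mod_cast hm0
    have hy0 : 0 < (y : ℝ) := by
      by_contra hy0
      push Not at hy0
      have h2 : ((n : ℝ) + 1) * ((P.q : ℝ) - 1) * y ≤ 0 :=
        mul_nonpos_of_nonneg_of_nonpos (mul_nonneg (by positivity) (by linarith)) hy0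
      rw [hid] at h2
      nlinarith
    have hy1 : (1 : ℝ) ≤ y := by
      have : (0 : ℤ) < y := by exact_mod_cast hy0
      exact_mod_cast this
    have h3 : ((n : ℝ) + 1) * ((P.q : ℝ) - 1) * 1 ≤ ((n : ℝ) + 1) * ((P.q : ℝ) - 1) * y :=
      mul_le_mul_of_nonneg_left hy1 (mul_nonneg (by positivity) (by linarith))
    rw [hid] at h3
    have h4 : (n : ℝ) + 1 ≤ m := by nlinarith
    exact pow_le_pow_left₀ (by positivity) h4 2
  rw [Finset.sum_const, nsmul_eq_mul] at hlow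
  have htot := hlow.trans hsum
  rw [P.sum_sq_degree_G, ← hn] at htot
  have hδ : (Nat.card ↥(pairD G' a' t') : ℝ) = ((P.q : ℝ) - 1) * Nat.card ↥P.Cs := by
    rw [P.card_D_eq, ← P.card_K_add_one]
    push_cast
    ring
  rw [← hδ] at htot
  have hpos' : (0 : ℝ) < (n : ℝ) + 1 := by positivity
  have h5 : ((n : ℝ) + 1) * Φ.card ≤ (Nat.card ↥(pairD G' a' t') : ℝ) ^ 2 * n := by
    refine le_of_mul_le_mul_left ?_ hpos'
    linarith
  exact_mod_cast h5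

end Bounds

end CfsgLib.SuzukiThm
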