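import Cfsg.Agent.SuzukiTheorem.Parity

/-!
# `Q` is a 2-group: the inductive step, from the character bound and the odd part in the twisted shape
-/

set_option autoImplicit false
set_option linter.unusedSectionVars false
set_option linter.style.haveILetI false

namespace CfsgLib.SuzukiThm

open Cfsg CfsgLib CfsgLib.Characters
open scoped Classical

universe u v

variable {G : Type u} {Ω : Type v} [Group G] [MulAction G Ω] [Finite G] [FaithfulSMul G Ω]
  {a : Ω} {t : G} {Q : Subgroup G} {P : Frame a t Q}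

namespace Split

variable (S : Split P)

theorem hlin_comm (hcomm : ∀ x ∈ S.T, ∀ y ∈ S.T, x * y * x⁻¹ * y⁻¹ ∈ P.E) :
    ∀ π, S.TrivT π → π.1 1 = 1 := (S.card_trivT hcomm).2

theorem comm_E : ∀ x ∈ S.T, ∀ y ∈ S.T, x * y * x⁻¹ * y⁻¹ ∈ P.E := by
  rcases S.T_shape with h | h
  · intro x hx y hy
    rw [h x hx y hy, mul_inv_cancel_right, mul_inv_cancel]
    exact one_mem _
  · exact h.2.1

/-- The degrees of `T`: linear, or `T` has order `q²` or `q³` and `e² ≤ |T : E|`. -/
theorem deg_data (π : Cfsg.IrrCharacter ↥S.T) : π.1 1 = 1 ∨ ∃ e : ℕ, π.1 1 = e ∧ 2 ≤ e ∧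
    e ^ 2 ≤ (Finset.univ.filter fun π => S.TrivT π).card ∧
    ((Finset.univ.filter fun π => S.TrivT π).card = P.q ∧ Nat.card ↥S.T = P.q ^ 2 ∨
      (Finset.univ.filter fun π => S.TrivT π).card = P.q ^ 2) := by
  obtain ⟨e, he0, he, he'⟩ := degree_re_eq π
  rcases Nat.lt_or_ge e 2 with h | h
  · left
    obtain rfl : e = 1 := by omega
    rw [he, Nat.cast_one]
  rcases S.T_shape with hab | ⟨-, -, -, -, hcard⟩
  · left
    exact linear_of_trivial ⊥ (fun x y => by
      rw [Subgroup.mem_bot]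
      refine Subtype.ext ?_
      show (x : G) * y * (x : G)⁻¹ * (y : G)⁻¹ = 1
      rw [hab x x.2 y y.2, mul_inv_cancel_right, mul_inv_cancel]) π (fun z hz => by
      rw [Subgroup.mem_bot.1 hz])
  right
  obtain ⟨hN, -⟩ := S.card_trivT S.comm_E
  set N := (Finset.univ.filter fun π => S.TrivT π).card
  have hq := P.four_le_q
  refine ⟨e, he, h, ?_, ?_⟩
  · have h1 := sq_degree_mul_le (P.E.subgroupOf S.T) (fun z hz => Subgroup.mem_center_iff.2 fun y =>
      Subtype.ext (P.E_central hz (S.T_le y.2)).symm) π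
    rw [he', Nat.card_congr (Subgroup.subgroupOfEquivOfLe S.E_le_T).toEquiv] at h1
    have h2 : e ^ 2 * P.q ≤ N * P.q := by
      rw [hN]
      exact_mod_cast h1
    exact Nat.le_of_mul_le_mul_right h2 (by omega)
  · rcases hcard with h' | h'
    · left
      refine ⟨Nat.eq_of_mul_eq_mul_right (show 0 < P.q by omega) ?_, h'⟩
      rw [hN, h', pow_two]
    · right
      refine Nat.eq_of_mul_eq_mul_right (show 0 < P.q by omega) ?_
      rw [hN, h']; ring

theorem one_lt_trivT (hne : S.T ≠ P.E) : 1 < (Finset.univ.filter fun π => S.TrivT π).card := by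
  obtain ⟨hN, -⟩ := S.card_trivT S.comm_E
  by_contra h
  have h1 : Nat.card ↥S.T ≤ Nat.card ↥P.E := by
    rw [← hN]
    exact (Nat.mul_le_mul_right _ (not_lt.1 h)).trans (one_mul _).le
  exact hne (Subgroup.eq_of_le_of_card_ge S.E_le_T h1).symm

theorem four_le_trivT_of {N : ℕ} (hN : N = P.q ∨ N = P.q ^ 2) : 4 ≤ N := by
  have := P.four_le_q
  rcases hN with rfl | rfl
  · exact this
  · nlinarith

/-- The mass when every pair is regular. -/
theorem sum_fam_all (h : ∀ π, ∀ ψ : Cfsg.IrrCharacter ↥S.O, ψ ≠ irrOne → S.Reg π ψ) :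
    ∑ φ ∈ S.fam, (φ.1 1).re ^ 2 = (Nat.card ↥S.T : ℝ) * ((Nat.card ↥S.O : ℝ) - 1) := by
  rw [S.sum_fam, ← S.sum_O, Finset.mul_sum]
  refine Finset.sum_congr rfl fun ψ hψ => ?_
  rw [Finset.filter_true_of_mem (fun π _ => h π ψ (Finset.mem_filter.1 hψ).2), S.sum_irr_T, mul_comm]

/-- The mass in general. -/
theorem sum_fam_ge (hS : S.Stabs) :
    (Nat.card ↥S.T : ℝ) * ((P.q : ℝ) - 2) * ((Nat.card ↥S.O : ℝ) - 1) ≤
      (P.q : ℝ) * ∑ φ ∈ S.fam, (φ.1 1).re ^ 2 := by
  rw [S.sum_fam, ← S.sum_O, Finset.mul_sum, Finset.mul_sum]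
  refine Finset.sum_le_sum fun ψ hψ => ?_
  have h := S.reg_mass_univ hS (Finset.mem_filter.1 hψ).2
  nlinarith [sq_nonneg (ψ.1 1).re]

end Split

theorem sixteen_sq_lt : ∀ p, 7 ≤ p → 16 * p ^ 2 < 9 * 2 ^ p := by
  intro p hp
  induction p, hp using Nat.le_induction with
  | base => norm_num
  | succ p hp ih => rw [pow_succ 2]; nlinarith

theorem two_mul_le_two_pow : ∀ p, 2 * p ≤ 2 ^ p := by
  intro p
  induction p with
  | zero => simp
  | succ p ih => rw [pow_succ]; have := Nat.one_le_two_pow (n := p); omega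

/-- The degree condition when `N = q`. -/
theorem deg_numeric {e p s : ℕ} (hp : p.Prime) (hp5 : 5 ≤ p) (he : e ^ 2 ≤ 2 ^ p)
    (hs : 2 ^ p ≤ s + 2) : (2 * e + 1) * p < 2 * s := by
  rcases hp5.lt_or_eq with h | rfl
  · have h7 : 7 ≤ p := by
      have : p ≠ 6 := fun e => absurd (e ▸ hp) (by norm_num)
      omega
    by_contra hcon
    push Not at hcon
    have h1 := sixteen_sq_lt p h7
    have h2 := two_mul_le_two_pow p
    have h3 : 128 ≤ 2 ^ p := le_trans (by norm_num) (Nat.pow_le_pow_right (by norm_num : 0 < 2) h7)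
    have h4 : 3 * 2 ^ p ≤ 4 * p * e := by nlinarith
    nlinarith [Nat.mul_le_mul h4 h4]
  · have : e ≤ 5 := by nlinarith
    norm_num at hs ⊢
    omega

/-- The inductive step. -/
theorem two_group_step [Fintype ↥Q] (P : Frame a t Q) (hIH : IH.{u, v} (Nat.card G))
    (hbound : ∀ (Φ : Finset (Cfsg.IrrCharacter ↥Q)) (base : Cfsg.IrrCharacter ↥Q → ℕ), CharFamily P Φ base →
      ∀ c : ℝ, 0 < c → (P.q : ℝ) ^ 2 * ∑ φ ∈ Φ, (φ.1 1).re ^ 2 ≤
        (1 + c) * 4 * ((P.q : ℝ) - 1) * Nat.card Q + (1 + 1 / c) * ((P.q : ℝ) - 2) ^ 2)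
    (hlinb : ∀ (Φ : Finset (Cfsg.IrrCharacter ↥Q)) (base : Cfsg.IrrCharacter ↥Q → ℕ), CharFamily P Φ base →
      (∀ φ ∈ Φ, base φ = 1 ∧ φ.1 1 = 1) →
      (Nat.card Q + 1) * Φ.card ≤ Nat.card ↥(pairD G a t) ^ 2 * Nat.card Q)
    (hodd : ∀ (S : Split P) (w : G) (p : ℕ), Twist P w p →
      (∃ j, Nat.card ↥(Q ⊓ Subgroup.centralizer ({w} : Set G)) + 1 = p ^ j) ∧
        ∀ x ∈ S.O, ∀ y ∈ S.O, x * y = y * x)
    (hreg : ∀ (S : Split P) (w : G) (p : ℕ), Twist P w p → S.T = P.E →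
      ∃ ψ : Cfsg.IrrCharacter ↥S.O, ∀ d, ψ.1 ∘ ⇑(S.autO d) = ψ.1 → d = 1) :
    IsPGroup 2 Q := by
  by_contra hQ
  obtain ⟨S⟩ := exists_split P
  have hq := P.four_le_q
  have hqR : (4 : ℝ) ≤ P.q := by exact_mod_cast hq
  have hoq : P.q ≤ Nat.card ↥S.O := S.q_le_card_O (S.O_ne_bot hQ)
  have hoR : (P.q : ℝ) ≤ Nat.card ↥S.O := by exact_mod_cast hoq
  have hTq : P.q ≤ Nat.card ↥S.T := Subgroup.card_le_of_le S.E_le_T
  have hTR : (P.q : ℝ) ≤ Nat.card ↥S.T := by exact_mod_cast hTq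
  have hn : (Nat.card Q : ℝ) = (Nat.card ↥S.T : ℝ) * Nat.card ↥S.O := by exact_mod_cast S.card_eq
  have hlin := S.hlin_comm S.comm_E
  rcases P.shape_twist hIH with hI | ⟨w, p, W⟩
  · -- all non-trivial elements of `D` are fixed-point-free on `O`
    have htriv : ∀ ψ : Cfsg.IrrCharacter ↥S.O, ψ ≠ irrOne → ∀ d ∈ S.stabO ψ, d = 1 :=
      fun ψ hψ d hd => S.stab_trivial hI hψ hd
    have hall : ∀ π, ∀ ψ : Cfsg.IrrCharacter ↥S.O, ψ ≠ irrOne → S.Reg π ψ :=
      fun π ψ hψ d _ hd => htriv ψ hψ d hd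
    have hS : S.Stabs := fun ψ hψ d hd hd1 => absurd (htriv ψ hψ d hd) hd1
    have hfam : CharFamily P S.fam S.famBase := by
      refine S.charFamily_fam hS hlin (fun ψ hψ => ⟨irrOne, ψ, hψ, rfl, S.trivT_one, hall _ ψ hψ⟩)
        (fun π ψ hψ _ => ?_)
      rcases S.deg_data π with h | ⟨e, he, he2, hesq, hN⟩
      · exact Or.inl h
      refine Or.inr ⟨e, Finset.univ.filter fun π => S.TrivT π, he,
        fun π' hπ' => ⟨(Finset.mem_filter.1 hπ').2, hall π' ψ hψ⟩, ?_⟩
      rw [(Subgroup.eq_bot_iff_forall _).2 (htriv ψ hψ), Subgroup.card_bot, mul_one]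
      have h4 := Split.four_le_trivT_of (P := P) (N := (Finset.univ.filter fun π => S.TrivT π).card)
        (hN.imp And.left id)
      nlinarith
    have hm := S.sum_fam_all hall
    rcases (show P.q = 4 ∨ 8 ≤ P.q by
      obtain ⟨k, hk, hqk⟩ := P.exists_q_eq
      rcases hk.lt_or_eq with h | rfl
      · exact Or.inr (hqk ▸ le_trans (by norm_num) (Nat.pow_le_pow_right (by norm_num : 0 < 2) h))
      · exact Or.inl hqk) with h4 | h8
    · have hb := hbound _ _ hfam (1 / 16) (by norm_num)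
      rw [hm, hn, show (P.q : ℝ) = 4 by exact_mod_cast h4] at hb
      have hT4 : (4 : ℝ) ≤ Nat.card ↥S.T := by exact_mod_cast h4 ▸ hTq
      have hK : Nat.card ↥P.K = 3 := by have := P.card_K_add_one; omega
      obtain ⟨k, hk, hk1⟩ := P.exists_ne_one_K
      have hk3 : (⟨k, P.K_le hk⟩ : ↥(pairD G a t)) ^ 3 = 1 := Subtype.ext (by
        have e : k ^ Nat.card ↥P.K = 1 := congrArg Subtype.val (pow_card_eq_one' (G := ↥P.K) (x := ⟨k, hk⟩))
        rw [hK] at e
        exact e)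
      have hmod : Nat.card ↥S.O ≡ 1 [MOD 3] := by
        have h := card_modEq_fixed Nat.prime_three hk3 S.O (fun c hc x hx => S.O_conj hc hx)
        have e : Nat.card {x : ↥S.O // k * x * k⁻¹ = x} = 1 := Nat.card_eq_one_iff_unique.2
          ⟨⟨fun x y => Subtype.ext (Subtype.ext
            ((P.K_fpf hk hk1 (S.O_le x.1.2) (mul_inv_eq_iff_eq_mul.1 x.2)).trans
              (P.K_fpf hk hk1 (S.O_le y.1.2) (mul_inv_eq_iff_eq_mul.1 y.2)).symm))⟩,
            ⟨⟨1, by simp⟩⟩⟩
        rwa [e] at h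
      rw [Nat.ModEq] at hmod
      have hodd' := S.O_odd
      rw [Nat.odd_iff] at hodd'
      have ho13 : Nat.card ↥S.O = 7 ∨ 13 ≤ Nat.card ↥S.O := by omega
      rcases ho13 with ho7 | ho13
      · rw [ho7] at hb
        have hT10 : Nat.card ↥S.T ≤ 10 := by
          have : (Nat.card ↥S.T : ℝ) < 11 := by push_cast at hb; linarith
          exact Nat.lt_succ_iff.1 (by exact_mod_cast this)
        rcases S.T_shape with hab | ⟨-, -, -, -, hc⟩
        swap
        · rw [h4] at hc; omega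
        have hO1 : ∀ ψ : Cfsg.IrrCharacter ↥S.O, ψ.1 1 = 1 := fun ψ => by
          haveI : Fact (Nat.Prime 7) := ⟨by norm_num⟩
          haveI := isCyclic_of_prime_card (α := ↥S.O) ho7
          exact linear_of_trivial ⊥ (fun x y => by
            rw [Subgroup.mem_bot, (IsMulCommutative.is_comm (M := ↥S.O)).comm x y, mul_inv_cancel_right,
              mul_inv_cancel]) ψ (fun z hz => by rw [Subgroup.mem_bot.1 hz])
        have hT1 : ∀ π : Cfsg.IrrCharacter ↥S.T, π.1 1 = 1 := fun π =>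
          linear_of_trivial ⊥ (fun x y => by
            rw [Subgroup.mem_bot]
            refine Subtype.ext ?_
            show (x : G) * y * (x : G)⁻¹ * (y : G)⁻¹ = 1
            rw [hab x x.2 y y.2, mul_inv_cancel_right, mul_inv_cancel]) π (fun z hz => by
            rw [Subgroup.mem_bot.1 hz])
        have hdeg : ∀ φ ∈ S.fam, S.famBase φ = 1 ∧ φ.1 1 = 1 := by
          intro φ hφ
          obtain ⟨π, ψ, -, -, rfl⟩ := S.exists_of_mem_fam hφ
          refine ⟨?_, by rw [S.pair_degree, hT1, hO1, one_mul]⟩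
          have := S.famBase_eq π ψ
          rw [hO1] at this
          exact_mod_cast this
        have hc := hlinb _ _ hfam hdeg
        have hcard : S.fam.card = Nat.card ↥S.T * 6 := by
          have e : (S.fam.card : ℝ) = ∑ φ ∈ S.fam, (φ.1 1).re ^ 2 := by
            rw [Finset.sum_congr rfl (g := fun _ => (1 : ℝ)) (fun φ hφ => by
              rw [(hdeg φ hφ).2]; norm_num), Finset.sum_const, nsmul_one]
          rw [hm, ho7] at e
          norm_num at e
          exact_mod_cast e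
        obtain ⟨y, hy, hy1⟩ := S.O.bot_or_exists_ne_one.resolve_left (S.O_ne_bot hQ)
        have hD : Nat.card ↥(pairD G a t) ≤ 6 := by
          let f : ↥(pairD G a t) → {z : ↥S.O // z ≠ 1} := fun d =>
            ⟨⟨d * y * (d : G)⁻¹, S.O_conj d.2 hy⟩, fun h => hy1 (by
              have h' : (d : G) * y * (d : G)⁻¹ = 1 := congrArg Subtype.val h
              rw [show y = (d : G)⁻¹ * ((d : G) * y * (d : G)⁻¹) * d by group, h']; group)⟩
          have hf : Function.Injective f := fun c d h => by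
            have h' : (c : G) * y * (c : G)⁻¹ = d * y * (d : G)⁻¹ := congrArg (fun z => z.1.1) h
            refine (inv_mul_eq_one (G := ↥(pairD G a t))).1 ?_ |>.symm
            by_contra hne
            refine hy1 (hI _ (d⁻¹ * c).2 (fun e => hne (Subtype.ext e)) y (S.O_le hy)
              ((S.mem_O_iff.1 hy).2) ?_)
            show ((d : G)⁻¹ * c) * y = y * ((d : G)⁻¹ * c)
            calc ((d : G)⁻¹ * c) * y = (d : G)⁻¹ * ((c : G) * y * (c : G)⁻¹) * c := by group
              _ = _ := by rw [h']; group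
          refine (Nat.card_le_card_of_injective f hf).trans ?_
          haveI := Fintype.ofFinite ↥S.O
          rw [Nat.card_eq_fintype_card, Fintype.card_subtype_compl, Fintype.card_subtype_eq,
            ← Nat.card_eq_fintype_card, ho7]
        have h3D : 3 ∣ Nat.card ↥(pairD G a t) := hK ▸ Subgroup.card_dvd_of_le P.K_le
        have hDodd : Odd (Nat.card ↥(pairD G a t)) := P.hS.odd_card
        have hD3 : Nat.card ↥(pairD G a t) = 3 := by
          rw [Nat.odd_iff] at hDodd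
          obtain ⟨i, hi⟩ := h3D
          have : 0 < Nat.card ↥(pairD G a t) := Nat.card_pos
          omega
        rw [hcard, hD3] at hc
        nlinarith [Nat.card_pos (α := ↥Q), h4 ▸ hTq]
      · have : (13 : ℝ) ≤ Nat.card ↥S.O := by exact_mod_cast ho13
        nlinarith [mul_le_mul_of_nonneg_left this (show (0 : ℝ) ≤ Nat.card ↥S.T by positivity)]
    · have hb := hbound _ _ hfam (1 / 4) (by norm_num)
      rw [hm, hn] at hb
      have h8R : (8 : ℝ) ≤ P.q := by exact_mod_cast h8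
      have key : (P.q : ℝ) * ((P.q : ℝ) - 1) * ((P.q : ℝ) - 5) ≤
          (Nat.card ↥S.O : ℝ) * ((P.q : ℝ) ^ 2 - 5 * P.q + 5) - (P.q : ℝ) ^ 2 := by
        have h1 : (0 : ℝ) ≤ (P.q : ℝ) ^ 2 - 5 * P.q + 5 := by nlinarith
        nlinarith [mul_le_mul_of_nonneg_right hoR h1]
      have key0 : 0 ≤ (P.q : ℝ) * ((P.q : ℝ) - 1) * ((P.q : ℝ) - 5) := by
        have : (0 : ℝ) ≤ (P.q : ℝ) * ((P.q : ℝ) - 1) := by nlinarith
        exact mul_nonneg this (by linarith)
      have key2 := mul_le_mul hTR key key0 (by positivity)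
      nlinarith
  · -- twisted shape
    obtain ⟨⟨j, hj⟩, hOab⟩ := hodd S w p W
    obtain ⟨hS, hstab⟩ := W.stabs hIH S
    have hp3 : 3 ≤ p := by
      have := W.prime.two_le
      have := W.odd
      rw [Nat.odd_iff] at this
      omega
    have h8 : 8 ≤ P.q := W.hq ▸ le_trans (by norm_num) (Nat.pow_le_pow_right (by norm_num : 0 < 2) hp3)
    have h2p : 2 * p ≤ P.q := W.hq ▸ two_mul_le_two_pow p
    have hO1 : ∀ ψ : Cfsg.IrrCharacter ↥S.O, ψ.1 1 = 1 := fun ψ =>
      linear_of_trivial ⊥ (fun x y => by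
        rw [Subgroup.mem_bot]
        refine Subtype.ext ?_
        show (x : G) * y * (x : G)⁻¹ * (y : G)⁻¹ = 1
        rw [hOab x x.2 y y.2, mul_inv_cancel_right, mul_inv_cancel]) ψ (fun z hz => by
        rw [Subgroup.mem_bot.1 hz])
    have hF1 : ∀ ψ : Cfsg.IrrCharacter ↥S.O, ψ ≠ irrOne → ∃ π ψ', ψ' ≠ irrOne ∧ ψ'.1 1 = ψ.1 1 ∧
        S.TrivT π ∧ S.Reg π ψ' := by
      intro ψ hψ
      by_cases hTE : S.T = P.E
      · obtain ⟨ψ', hψ'⟩ := hreg S w p W hTE
        refine ⟨irrOne, ψ', fun e => ?_, by rw [hO1, hO1], S.trivT_one, fun d _ hd =>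
          hψ' d (congrArg Subtype.val hd)⟩
        obtain ⟨k, hk, hk1⟩ := P.exists_ne_one_K
        exact hk1 (congrArg Subtype.val (hψ' ⟨k, P.K_le hk⟩ (by rw [e]; rfl)))
      · obtain ⟨π₀, hπ₀, hne⟩ := Finset.exists_mem_ne (S.one_lt_trivT hTE) irrOne
        obtain ⟨c, hc⟩ := S.exists_reg hS hψ hne
        exact ⟨_, ψ, hψ, rfl, S.trivT_conj (Finset.mem_filter.1 hπ₀).2 c, hc⟩
    have hfam : CharFamily P S.fam S.famBase := by
      refine S.charFamily_fam hS hlin hF1 (fun π ψ hψ _ => ?_)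
      rcases S.deg_data π with h | ⟨e, he, he2, hesq, hN⟩
      · exact Or.inl h
      refine Or.inr ⟨e, Finset.univ.filter fun π => S.TrivT π ∧ S.Reg π ψ, he,
        fun π' hπ' => (Finset.mem_filter.1 hπ').2, ?_⟩
      set N := (Finset.univ.filter fun π => S.TrivT π).card with hNdef
      set s := (Finset.univ.filter fun π => S.TrivT π ∧ S.Reg π ψ).card with hsdef
      have hqN : P.q ≤ N := by rcases hN with ⟨h, -⟩ | h <;> rw [h]; nlinarith
      have hc : N * P.q ≤ P.q * s + 2 * N := by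
        have h := S.reg_count hS hψ hlin hqN
        have h' : (N : ℝ) * P.q ≤ P.q * s + 2 * N := by linarith
        exact_mod_cast h'
      refine lt_of_le_of_lt (Nat.mul_le_mul_left _ (hstab ψ hψ)) ?_
      rcases hN with ⟨hN, hT2⟩ | hN
      · rw [hN] at hc hesq
        have hs : P.q ≤ s + 2 := by
          refine Nat.le_of_mul_le_mul_left (?_ : P.q * P.q ≤ P.q * (s + 2)) (by omega)
          linarith
        rcases (show p = 3 ∨ 5 ≤ p by
          have := W.odd
          rw [Nat.odd_iff] at this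
          omega) with rfl | hp5
        · exact (S.not_three W ⟨j, hj⟩ hT2).elim
        · exact deg_numeric W.prime hp5 (W.hq ▸ hesq) (W.hq ▸ hs)
      · rw [hN] at hc hesq
        have hs : P.q * P.q ≤ s + 2 * P.q := by
          refine Nat.le_of_mul_le_mul_left (?_ : P.q * (P.q * P.q) ≤ P.q * (s + 2 * P.q)) (by omega)
          nlinarith
        have heq : e ≤ P.q := Nat.pow_le_pow_iff_left (by norm_num : 2 ≠ 0) |>.1 hesq
        nlinarith [Nat.mul_le_mul (show 2 * e + 1 ≤ 2 * P.q + 1 by omega) h2p]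
    have hb := hbound _ _ hfam (1 / 4) (by norm_num)
    have hm := S.sum_fam_ge hS
    rw [hn] at hb
    have h8R : (8 : ℝ) ≤ P.q := by exact_mod_cast h8
    have key : (P.q : ℝ) * ((P.q : ℝ) - 1) * ((P.q : ℝ) - 7) ≤
        (Nat.card ↥S.O : ℝ) * ((P.q : ℝ) ^ 2 - 7 * P.q + 5) - (P.q : ℝ) * ((P.q : ℝ) - 2) := by
      have h1 : (0 : ℝ) ≤ (P.q : ℝ) ^ 2 - 7 * P.q + 5 := by nlinarith
      nlinarith [mul_le_mul_of_nonneg_right hoR h1]
    have key0 : 0 ≤ (P.q : ℝ) * ((P.q : ℝ) - 1) * ((P.q : ℝ) - 7) := by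
      have : (0 : ℝ) ≤ (P.q : ℝ) * ((P.q : ℝ) - 1) := by nlinarith
      exact mul_nonneg this (by linarith)
    have key2 := mul_le_mul hTR key key0 (by positivity)
    have hm' := mul_le_mul_of_nonneg_left hm (show (0 : ℝ) ≤ P.q by linarith)
    nlinarith

end CfsgLib.SuzukiThm
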