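import Cfsg.Agent.SuzukiTheorem.TwistOdd
import Cfsg.Agent.SuzukiTheorem.Step
import Cfsg.Agent.SuzukiTheorem.CharacterBound

/-!
# `Q` is a 2-group
-/

set_option autoImplicit false
set_option linter.unusedSectionVars false

namespace CfsgLib.SuzukiThm

open CfsgLib

universe u v

theorem ih_all : ∀ n : ℕ, IH.{u, v} n := by
  intro n
  induction n using Nat.strong_induction_on with
  | _ n ih =>
    intro G _ _ Ω _ _ a t Q hlt hS h2
    obtain ⟨P⟩ := exists_frame hS h2
    have hIH : IH.{u, v} (Nat.card G) := ih _ hlt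
    by_contra hQ
    haveI := Fintype.ofFinite ↥Q
    refine hQ (two_group_step P hIH (fun Φ base h c hc => regular_mass_bound P h hc)
      (fun Φ base h h1 => linear_count_bound P h h1) (fun S w p W => ?_)
      (fun S w p W hT => Twist.exists_regular P hIH hQ S W hT))
    obtain ⟨-, h3, -, h5, -⟩ := Twist.odd_part P hIH hQ S W
    exact ⟨h3, h5⟩

/-- **Theorem O**: the regular normal subgroup `Q` of the stabiliser is a 2-group. -/
theorem two_group_Q {G : Type u} {Ω : Type v} [Group G] [Finite G] [MulAction G Ω] [FaithfulSMul G Ω]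
    {a : Ω} {t : G} {Q : Subgroup G} (hS : Cfsg.IsRankOneSetup G Ω a t Q)
    (h2 : ∃ x y : G, x ≠ 1 ∧ y ≠ 1 ∧ x ≠ y ∧ x * x = 1 ∧ y * y = 1 ∧ x * y = y * x) : IsPGroup 2 Q :=
  ih_all (Nat.card G + 1) G Ω a t Q (Nat.lt_succ_self _) hS h2

end CfsgLib.SuzukiThm
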