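import Cfsg.Agent.SuzukiTheorem.Main
import Cfsg.Agent.SuzukiTheorem.AbelianCase
import Cfsg.Agent.SuzukiTheorem.TheoremO

/-!
# Suzuki's classification of the split groups of rank one in characteristic 2
-/

set_option autoImplicit false
set_option linter.unusedSectionVars false
set_option linter.style.haveILetI false

namespace CfsgLib.SuzukiThm

open CfsgLib

universe u v

theorem rank_one_classification {G : Type u} {Ω : Type v} [Group G] [Finite G] [MulAction G Ω]
    [FaithfulSMul G Ω] {a : Ω} {t : G} {Q : Subgroup G} (hS : Cfsg.IsRankOneSetup G Ω a t Q)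
    (h2 : ∃ x y : G, x ≠ 1 ∧ y ≠ 1 ∧ x ≠ y ∧ x * x = 1 ∧ y * y = 1 ∧ x * y = y * x) :
    ∃ L : Subgroup G, L.Normal ∧ Odd L.index ∧
      ((∃ (F : Type) (_ : Field F) (_ : Fintype F), (∃ n : ℕ, 2 ≤ n ∧ Fintype.card F = 2 ^ n) ∧
          Nonempty (L ≃* Matrix.ProjectiveSpecialLinearGroup (Fin 2) F)) ∨
        Cfsg.Lie.IsoSuzuki L ∨
        (∃ (F : Type) (_ : Field F) (_ : Fintype F) (n : ℕ), 2 ≤ n ∧ Fintype.card F = (2 ^ n) ^ 2 ∧
          Nonempty (L ≃* Cfsg.PSU 3 F (2 ^ n)))) := by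
  obtain ⟨P⟩ := exists_frame hS h2
  haveI := Fintype.ofFinite ↥Q
  have hQ2 := two_group_Q hS h2
  exact classification_of_two_group P hQ2 fun hab =>
    card_eq_q_of_abelian' P hQ2 hab (fun hr => line_dvd P hr)
      fun Φ base h c hc => regular_mass_bound P h hc

end CfsgLib.SuzukiThm
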