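import Cfsg.Agent.SuzukiTheorem.LineGroup

/-!
# Suzuki's theorem, the case `r = s`: `|Q| = q` gives `PSL₂(q)`, `|Q| = q³` gives row coordinates
-/

set_option autoImplicit false
set_option linter.unusedSectionVars false
set_option linter.style.haveILetI false

namespace CfsgLib.SuzukiThm

open CfsgLib MatrixGroups

universe u v

variable {G : Type u} {Ω : Type v} [Group G] [MulAction G Ω] [Finite G] {a : Ω} {t : G} {Q : Subgroup G}

/-- In characteristic two `SL₂` has trivial centre. -/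
theorem center_SL2_eq_bot (F : Type) [Field F] [CharP F 2] : Subgroup.center SL(2, F) = ⊥ := by
  refine (Subgroup.eq_bot_iff_forall _).2 fun A hA => ?_
  obtain ⟨r, hr, hA'⟩ := Matrix.SpecialLinearGroup.mem_center_iff.1 hA
  rw [Fintype.card_fin, sq] at hr
  have hr1 : r = 1 := by
    rcases mul_self_eq_one_iff.1 hr with h | h
    · exact h
    · rw [h, CharTwo.neg_eq]
  apply Subtype.ext
  rw [← hA', hr1, map_one]
  rfl

theorem psl_case [FaithfulSMul G Ω] (P : Frame a t Q) (hr : P.r = P.s) (hn : Nat.card Q = P.q) :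
    ∃ L : Subgroup G, L.Normal ∧ Odd L.index ∧
      ∃ (F : Type) (_ : Field F) (_ : Fintype F), (∃ n : ℕ, 2 ≤ n ∧ Fintype.card F = 2 ^ n) ∧
        Nonempty (L ≃* Matrix.ProjectiveSpecialLinearGroup (Fin 2) F) := by
  obtain ⟨F, _, _, _, hF, ⟨D⟩⟩ := exists_lineData P hr
  have hQE : P.E = Q := Subgroup.eq_of_le_of_card_ge P.E_le hn.le
  set L := (D.phi hr).range with hL
  have hι : ∀ x, D.ι x ∈ L := fun x => ⟨LineData.uMat x, D.phi_uMat hr x⟩
  have hκ : ∀ c, D.κ c ∈ L := fun c => ⟨LineData.dMat c, D.phi_dMat hr c⟩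
  have hK : ∀ k ∈ P.K, k ∈ L := fun k hk => by
    obtain ⟨c, rfl⟩ : k ∈ D.κ.range := by rwa [D.range_κ]
    exact hκ c
  have hQ : Q ≤ L := fun x hx => by
    obtain ⟨y, rfl⟩ := D.exists_ι (x := x) (by rwa [hQE])
    exact hι y
  have ht : t ∈ L := ⟨LineData.wMat, D.phi_wMat hr⟩
  have hD : ∀ d ∈ pairD G a t, ∀ x ∈ L, d * x * d⁻¹ ∈ L := by
    intro d hd
    let C : Subgroup G := L.comap (MulAut.conj d).toMonoidHom
    have hC : ∀ x : G, x ∈ C ↔ d * x * d⁻¹ ∈ L := fun x => Iff.rfl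
    have hCι : ∀ x, D.ι x ∈ C := fun x =>
      (hC _).2 (hQ (RankOne.D_norm_Q P.hS hd (D.ι_mem_Q x)))
    have hCk : ∀ x, D.k x ∈ C := fun x => (hC _).2 (hK _ (P.K_normal d hd _ (D.k_mem x)))
    have hCt : t ∈ C := (hC _).2 (by
      obtain ⟨v, hv, k, hk, htv, rfl⟩ := P.exists_K_mul hd
      rw [show v * k * t * (v * k)⁻¹ = v * (k * k) * v⁻¹ * (v * (k⁻¹ * t * k⁻¹) * v⁻¹) by group,
        show k⁻¹ * t * k⁻¹ = t by
          rw [← P.t_conj_K hk, show t * k * t * t = t * k * (t * t) by group, P.tt, mul_one,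
            P.t_conj_K hk, mul_inv_cancel_right],
        ← htv, mul_inv_cancel_right]
      exact mul_mem (hK _ (P.K_normal v hv _ (mul_mem hk hk))) ht)
    rintro x ⟨M, rfl⟩
    refine (hC _).1 ?_
    rw [LineData.phi_apply]
    rcases eq_or_ne (M 1 0) 0 with h | h
    · rw [h, LineData.phi4_zero]; exact mul_mem (hCι _) (hCk _)
    · rw [D.phi4_ne h]; exact mul_mem (mul_mem (mul_mem (hCι _) (hCk _)) hCt) (hCι _)
  obtain ⟨hN, hodd⟩ := P.normal_odd_index hQ ht hD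
  obtain ⟨p, hp, hq⟩ := P.exists_q_eq
  exact ⟨L, hN, hodd, F, inferInstance, inferInstance, ⟨p, hp, hF.trans hq⟩,
    ⟨(MonoidHom.ofInjective (D.phi_injective hr)).symm.trans
      (QuotientGroup.quotientBot.symm.trans
        (QuotientGroup.quotientMulEquivOfEq (center_SL2_eq_bot F).symm))⟩⟩

theorem exists_rowData [FaithfulSMul G Ω] (P : Frame a t Q) (hr : P.r = P.s) {F : Type} [Field F]
    [Fintype F] [CharP F 2] (L : LineData P F) (hn : Nat.card Q = Fintype.card F ^ 3) :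
    Nonempty (RowData L) := by
  classical
  haveI := RankOne.finite_points P.hS
  have hq : Fintype.card F = P.q := by rw [← Nat.card_eq_fintype_card, L.card_eq]
  have hcard : Nat.card SL(2, F) = Nat.card {z : Ω // ¬ L.OnLine z} := by
    rw [L.card_SL, L.card_outer, hn, hq, Nat.mul_sub, mul_one]
    ring_nf
  obtain ⟨c0⟩ : Nonempty {z : Ω // ¬ L.OnLine z} := by
    rw [← Finite.card_pos_iff, ← hcard]
    exact Nat.card_pos
  have hinj : Function.Injective fun M : SL(2, F) =>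
      (⟨L.phi hr M • c0.1, L.not_onLine_smul hr c0.2 M⟩ : {z : Ω // ¬ L.OnLine z}) := fun M N h => by
    refine (inv_mul_eq_one.1 (L.free hr c0.2 (?_ : L.phi hr (N⁻¹ * M) • c0.1 = c0.1))).symm
    rw [map_mul, map_inv, mul_smul, show L.phi hr M • c0.1 = L.phi hr N • c0.1 from
      congrArg Subtype.val h, inv_smul_smul]
  let β : SL(2, F) ≃ {x : Q // (x : G) ∉ P.E} := (Equiv.ofBijective _
    ((Nat.bijective_iff_injective_and_card _).2 ⟨hinj, hcard⟩)).trans L.outerEquiv.symm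
  have hβ : ∀ M, ((β M).1 : G) • t • a = L.phi hr M • c0.1 := fun M =>
    congrArg Subtype.val (L.outerEquiv.apply_symm_apply _)
  -- a member of `Q ∖ E` is the image of `M` iff it moves `t • a` to `M • c0`
  have hβ' : ∀ (x : {x : Q // (x : G) ∉ P.E}) M, (x.1 : G) • t • a = L.phi hr M • c0.1 →
      β.symm x = M := fun x M h => by
    rw [Equiv.symm_apply_eq]
    exact Subtype.ext (Subtype.ext
      (RankOne.Q_smul_inj P.hS x.1.2 (β M).1.2 (h.trans (hβ M).symm)))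
  have hβs : ∀ (x : G) (hx : x ∈ Q) (hxE : x ∉ P.E),
      x • t • a = L.phi hr (β.symm ⟨⟨x, hx⟩, hxE⟩) • c0.1 := fun x hx hxE => by
    rw [← hβ, Equiv.apply_symm_apply]
  let row : G → Fin 2 → F × F := fun x i =>
    if h : x ∈ Q ∧ x ∉ P.E then
      ((β.symm ⟨⟨x, h.1⟩, h.2⟩) i 0, (β.symm ⟨⟨x, h.1⟩, h.2⟩) i 1) else 0
  have hrow : ∀ (x : G) (hx : x ∈ Q) (hxE : x ∉ P.E) i,
      row x i = ((β.symm ⟨⟨x, hx⟩, hxE⟩) i 0, (β.symm ⟨⟨x, hx⟩, hxE⟩) i 1) := fun x hx hxE i =>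
    dif_pos ⟨hx, hxE⟩
  have hg : ∀ x ∈ Q, x ∉ P.E → x ≠ 1 ∧ P.g x • t • a = L.phi hr LineData.wMat • x • t • a ∧
      P.g x ∉ P.E := fun x hx hxE => by
    have hx1 : x ≠ 1 := fun h => hxE (h ▸ one_mem _)
    have e : P.g x • t • a = L.phi hr LineData.wMat • x • t • a := by
      rw [L.phi_wMat, P.t_smul hx hx1]
    refine ⟨hx1, e, fun h => ?_⟩
    obtain ⟨y, hy⟩ := L.exists_ι h
    refine L.not_onLine_smul hr (L.not_onLine_of_Q hx hxE) LineData.wMat ?_
    rw [← e, ← hy]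
    exact Or.inr ⟨y, rfl⟩
  refine ⟨{
    T := fun x => row x 0
    R := fun x => row x 1
    det := fun x hx hxE => ?_
    bij := fun v w h => ?_
    mul_ι := fun x hx hxE ν => ?_
    conj_κ := fun x hx hxE c => ?_
    g_mem := fun x hx hxE => (hg x hx hxE).2.2
    rows_g := fun x hx hxE => ?_ }⟩
  · simp only [hrow x hx hxE]
    exact LineData.det_entries _
  · set M := LineData.mat v.1 v.2 w.1 w.2 h
    refine ⟨(β M).1, ⟨⟨(β M).1.2, (β M).2⟩, ?_, ?_⟩, fun x hx => ?_⟩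
    · rw [hrow _ (β M).1.2 (β M).2, show (⟨⟨(β M).1, (β M).1.2⟩, (β M).2⟩ : {x : Q // (x : G) ∉ P.E})
        = β M from rfl, Equiv.symm_apply_apply]
      rfl
    · rw [hrow _ (β M).1.2 (β M).2, show (⟨⟨(β M).1, (β M).1.2⟩, (β M).2⟩ : {x : Q // (x : G) ∉ P.E})
        = β M from rfl, Equiv.symm_apply_apply]
      rfl
    · obtain ⟨⟨hxQ, hxE⟩, hT, hR⟩ := hx
      rw [hrow x hxQ hxE] at hT hR
      have hM : β.symm ⟨⟨x, hxQ⟩, hxE⟩ = M := by
        apply Matrix.SpecialLinearGroup.ext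
        intro i j
        fin_cases i <;> fin_cases j
        · exact congrArg Prod.fst hT
        · exact congrArg Prod.snd hT
        · exact congrArg Prod.fst hR
        · exact congrArg Prod.snd hR
      rw [← hM, Equiv.apply_symm_apply]
  · have hxE' : L.ι ν * x ∉ P.E := fun h => hxE (by
      simpa using mul_mem (inv_mem (L.ι_mem ν)) h)
    have hx' : L.ι ν * x ∈ Q := mul_mem (L.ι_mem_Q ν) hx
    have e := hβ' ⟨⟨_, hx'⟩, hxE'⟩ (LineData.uMat ν * β.symm ⟨⟨x, hx⟩, hxE⟩) (by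
      simp only [map_mul, mul_smul]
      rw [← hβs x hx hxE, L.phi_uMat])
    simp only [hrow _ hx' hxE', hrow x hx hxE, e, Matrix.SpecialLinearGroup.coe_mul]
    constructor <;>
      simp [LineData.uMat, LineData.mat, Matrix.mul_apply, Fin.sum_univ_two]
  · have hcD : L.κ c ∈ pairD G a t := P.K_le (L.range_κ ▸ ⟨c, rfl⟩)
    have hxE' : L.κ c * x * (L.κ c)⁻¹ ∉ P.E := fun h => hxE (by
      have := P.D_norm_E (inv_mem hcD) h
      rwa [show (L.κ c)⁻¹ * (L.κ c * x * (L.κ c)⁻¹) * (L.κ c)⁻¹⁻¹ = x by group] at this)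
    have hx' : L.κ c * x * (L.κ c)⁻¹ ∈ Q := RankOne.D_norm_Q P.hS hcD hx
    have e := hβ' ⟨⟨_, hx'⟩, hxE'⟩ (LineData.dMat c * β.symm ⟨⟨x, hx⟩, hxE⟩) (by
      simp only [map_mul, mul_smul]
      rw [← hβs x hx hxE, L.phi_dMat,
        show (L.κ c)⁻¹ • t • a = t • a from (Subgroup.mem_inf.1 (inv_mem hcD)).2])
    simp only [hrow _ hx' hxE', hrow x hx hxE, e, Matrix.SpecialLinearGroup.coe_mul]
    constructor <;>
      simp [LineData.dMat, LineData.mat, Matrix.mul_apply, Fin.sum_univ_two]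
  · obtain ⟨-, eg, hgE⟩ := hg x hx hxE
    have e := hβ' ⟨⟨_, P.g_mem x⟩, hgE⟩ (LineData.wMat * β.symm ⟨⟨x, hx⟩, hxE⟩) (by
      rw [map_mul, mul_smul, ← hβs x hx hxE]; exact eg)
    simp only [hrow _ (P.g_mem x) hgE, hrow x hx hxE, e, Matrix.SpecialLinearGroup.coe_mul]
    constructor <;>
      simp [LineData.wMat, LineData.mat, Matrix.mul_apply, Fin.sum_univ_two]

end CfsgLib.SuzukiThm
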