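import Cfsg.Agent.SuzukiTheorem.Galois
import Mathlib

/-!
# The inductive step for `Q` being a 2-group and the resulting shape of `D`

Assume the theorem "`Q` is a 2-group" for all smaller groups.

* `eq_top_of_odd_index`, `two_group_centralizer`, `fpf_on_odd`;
* `shape`: either no element of `D ∖ 1` fixes an element of odd order of `Q ∖ 1`, or some
  `v ∈ C_D(t)` of odd prime order `p` does, `q = 2 ^ p`, `v k v⁻¹ = k ^ 2` on `K` and
  `|D| = p |C_D(K)|`.
-/

set_option autoImplicit false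
set_option linter.unusedSectionVars false
set_option linter.style.haveILetI false

namespace CfsgLib.SuzukiThm

open CfsgLib

universe u v

/-- "`Q` is a 2-group" in every set-up of order less than `n`. -/
def IH (n : ℕ) : Prop :=
  ∀ (G' : Type u) [Group G'] [Finite G'] (Ω' : Type v) [MulAction G' Ω'] [FaithfulSMul G' Ω']
    (a' : Ω') (t' : G') (Q' : Subgroup G'), Nat.card G' < n → Cfsg.IsRankOneSetup G' Ω' a' t' Q' →
    (∃ x y : G', x ≠ 1 ∧ y ≠ 1 ∧ x ≠ y ∧ x * x = 1 ∧ y * y = 1 ∧ x * y = y * x) → IsPGroup 2 Q'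

variable {G : Type u} {Ω : Type v} [Group G] [MulAction G Ω] [Finite G] [FaithfulSMul G Ω]
  {a : Ω} {t : G} {Q : Subgroup G}

/-- The elements of `D` centralising `K`. -/
def Frame.M (P : Frame a t Q) : Subgroup G := pairD G a t ⊓ Subgroup.centralizer (P.K : Set G)

/-- The fixed points of an element. -/
def fixSet (v : G) : Type v := {c : Ω // v • c = c}

namespace Frame

variable (P : Frame a t Q)

include P

theorem mem_M_iff {d : G} : d ∈ P.M ↔ d ∈ pairD G a t ∧ ∀ k ∈ P.K, d * k = k * d := by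
  rw [Frame.M, Subgroup.mem_inf, Subgroup.mem_centralizer_iff]
  exact and_congr_right fun _ => forall₂_congr fun k _ => eq_comm

theorem K_le_M : P.K ≤ P.M := fun k hk =>
  P.mem_M_iff.2 ⟨P.K_le hk, fun _ hl => P.K_comm hk hl⟩

theorem M_le : P.M ≤ pairD G a t := fun _ hd => (P.mem_M_iff.1 hd).1

theorem M_conj {d x : G} (hd : d ∈ pairD G a t) (hx : x ∈ P.M) : d * x * d⁻¹ ∈ P.M := by
  refine P.mem_M_iff.2 ⟨mul_mem (mul_mem hd (P.M_le hx)) (inv_mem hd), fun k hk => ?_⟩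
  have h := (P.mem_M_iff.1 hx).2 _ (P.K_normal d⁻¹ (inv_mem hd) k hk)
  calc d * x * d⁻¹ * k = d * (x * (d⁻¹ * k * d⁻¹⁻¹)) * d⁻¹ := by group
    _ = d * (d⁻¹ * k * d⁻¹⁻¹ * x) * d⁻¹ := by rw [h]
    _ = _ := by group

theorem exists_ne_one_K : ∃ k ∈ P.K, k ≠ 1 := by
  by_contra h
  push Not at h
  have h1 : Nat.card P.K = 1 := Nat.card_eq_one_iff_unique.2
    ⟨⟨fun x y => Subtype.ext ((h _ x.2).trans (h _ y.2).symm)⟩, ⟨1⟩⟩
  have := P.card_K_add_one
  have := P.four_le_q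
  omega

/-- A proper normal subgroup of odd index has a set-up with the same `Q`. -/
theorem eq_top_of_odd_index (hIH : IH.{u, v} (Nat.card G)) (hQ : ¬ IsPGroup 2 Q) {N : Subgroup G}
    (hN : N.Normal) (hodd : Odd N.index) : N = ⊤ := by
  classical
  by_contra hne
  have hcop : ∀ x : G, x * x = 1 → x ∈ N := by
    intro x hx
    obtain ⟨j, hj⟩ := hodd
    have h1 := Subgroup.pow_index_mem N x
    rwa [hj, pow_succ, pow_mul, pow_two, hx, one_pow, one_mul] at h1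
  have hsqrt : ∀ x ∈ pairD G a t, x * x ∈ N → x ∈ N := by
    intro x hx h
    obtain ⟨j, hj₀⟩ := P.hS.odd_card
    have hj : Nat.card ↥(pairD G a t) = 2 * j + 1 := hj₀
    have h1 : x ^ Nat.card ↥(pairD G a t) = 1 :=
      congrArg Subtype.val (pow_card_eq_one' (G := ↥(pairD G a t)) (x := ⟨x, hx⟩))
    rw [show x = (x * x) ^ (j + 1) by
      rw [← pow_two, ← pow_mul, show 2 * (j + 1) = Nat.card ↥(pairD G a t) + 1 by omega, pow_succ, h1,
        one_mul]]
    exact pow_mem h _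
  have htN : t ∈ N := hcop t P.tt
  have hK : P.K ≤ N := by
    intro k hk
    refine hsqrt k (P.K_le hk) ?_
    have e : k * k = k * t * k⁻¹ * t := by
      calc k * k = k * (t * k⁻¹ * t) := by rw [P.t_conj_K (inv_mem hk), inv_inv]
        _ = _ := by group
    rw [e]
    exact mul_mem (hN.conj_mem t htN k) htN
  have hQN : Q ≤ N := by
    obtain ⟨k, hk, hk1⟩ := P.exists_ne_one_K
    let φ : ↥Q → ↥Q := fun y => ⟨(y : G)⁻¹ * (k * y * k⁻¹),
      mul_mem (inv_mem y.2) (RankOne.D_norm_Q P.hS (P.K_le hk) y.2)⟩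
    have hinj : Function.Injective φ := by
      intro x y h
      have h' : (x : G)⁻¹ * (k * x * k⁻¹) = (y : G)⁻¹ * (k * y * k⁻¹) := congrArg Subtype.val h
      refine Subtype.ext (mul_inv_eq_one.1 (P.K_fpf hk hk1 (mul_mem x.2 (inv_mem y.2)) ?_))
      calc k * ((x : G) * (y : G)⁻¹) = x * ((x : G)⁻¹ * (k * x * k⁻¹)) * (k * y * k⁻¹)⁻¹ * k := by group
        _ = x * ((y : G)⁻¹ * (k * y * k⁻¹)) * (k * y * k⁻¹)⁻¹ * k := by rw [h']
        _ = _ := by group
    intro x hx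
    obtain ⟨y, hy⟩ := Finite.surjective_of_injective hinj ⟨x, hx⟩
    have hy' : (y : G)⁻¹ * (k * y * k⁻¹) = x := congrArg Subtype.val hy
    rw [← hy', show (y : G)⁻¹ * (k * y * k⁻¹) = (y : G)⁻¹ * k * (y : G)⁻¹⁻¹ * k⁻¹ by group]
    exact mul_mem (hN.conj_mem k (hK hk) _) (inv_mem (hK hk))
  obtain ⟨b, hb⟩ : ∃ b, b = t • a := ⟨_, rfl⟩
  have hlt : Nat.card N < Nat.card G :=
    lt_of_le_of_ne (Subgroup.card_le_card_group N) fun h => hne (Subgroup.eq_top_of_card_eq N h)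
  haveI : FaithfulSMul N Ω := ⟨fun {x y} h => Subtype.ext (eq_of_smul_eq_smul fun c : Ω => h c)⟩
  let t' : N := ⟨t, htN⟩
  let Q' : Subgroup N := Q.subgroupOf N
  have hstab : ∀ g : N, g ∈ MulAction.stabilizer N a ↔ (g : G) ∈ MulAction.stabilizer G a :=
    fun g => Iff.rfl
  have hS' : Cfsg.IsRankOneSetup N Ω a t' Q' := by
    refine ⟨?_, Subtype.ext P.tt, fun h => P.hS.ne_one (congrArg Subtype.val h),
      fun h => P.hS.not_mem h, fun x hx => P.hS.le hx,
      fun h hh x hx => P.hS.conj_mem (h : G) hh x hx, ?_, ?_, ?_, ?_⟩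
    · rw [MulAction.is_two_pretransitive_iff]
      have key : ∀ c d : Ω, c ≠ d → ∃ g : N, g • c = a ∧ g • d = t • a := by
        intro c d hcd
        have toA : ∃ g : N, g • c = a := by
          by_cases hc : c = a
          · exact ⟨1, by rw [one_smul, hc]⟩
          · obtain ⟨x, hx, hxc⟩ := RankOne.exists_Q_smul P.hS hc
            refine ⟨⟨t, htN⟩ * ⟨x, hQN hx⟩⁻¹, ?_⟩
            show (t * x⁻¹) • c = a
            rw [mul_smul, ← hxc, inv_smul_smul, RankOne.t_ta P.hS]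
        obtain ⟨g, hg⟩ := toA
        have hne' : g • d ≠ a := fun h => hcd ((smul_left_cancel_iff g).1 (hg.trans h.symm))
        obtain ⟨x, hx, hxd⟩ := RankOne.exists_Q_smul P.hS hne'
        refine ⟨⟨x, hQN hx⟩⁻¹ * g, ?_, ?_⟩
        · rw [mul_smul, hg, inv_smul_eq_iff]
          exact (RankOne.Q_smul_a P.hS hx).symm
        · rw [mul_smul, inv_smul_eq_iff]
          exact hxd.symm
      intro c d e f hcd hef
      obtain ⟨g, hg1, hg2⟩ := key c d hcd
      obtain ⟨g', hg1', hg2'⟩ := key e f hef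
      exact ⟨g'⁻¹ * g, by rw [mul_smul, hg1, ← hg1', inv_smul_smul],
        by rw [mul_smul, hg2, ← hg2', inv_smul_smul]⟩
    · rw [eq_bot_iff]
      intro x hx
      have hx' : (x : G) ∈ Q ⊓ MulAction.stabilizer G (t • a) :=
        Subgroup.mem_inf.2 ⟨(Subgroup.mem_inf.1 hx).1, (Subgroup.mem_inf.1 hx).2⟩
      rw [P.hS.inf_eq_bot, Subgroup.mem_bot] at hx'
      exact Subgroup.mem_bot.2 (Subtype.ext hx')
    · refine le_antisymm (sup_le (fun x hx => P.hS.le hx) inf_le_left) fun g hg => ?_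
      obtain ⟨x, hx, d, hd, e⟩ := RankOne.exists_mem_mul P.hS ((hstab g).1 hg)
      have hdN : d ∈ N := by
        rw [show d = x⁻¹ * g by rw [e, inv_mul_cancel_left]]
        exact mul_mem (inv_mem (hQN hx)) g.2
      rw [show g = ⟨x, hQN hx⟩ * ⟨d, hdN⟩ from Subtype.ext e]
      exact Subgroup.mul_mem_sup (show (⟨x, hQN hx⟩ : N) ∈ Q' from hx)
        (Subgroup.mem_inf.2 ⟨(Subgroup.mem_inf.1 hd).1, (Subgroup.mem_inf.1 hd).2⟩)
    · rw [Nat.card_congr (Subgroup.subgroupOfEquivOfLe hQN).toEquiv]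
      exact P.hS.even_card
    · refine P.hS.odd_card.of_dvd_nat ?_
      refine (dvd_of_eq (Subgroup.card_map_of_injective (K := MulAction.stabilizer N a ⊓
        MulAction.stabilizer N (t' • a)) N.subtype_injective).symm).trans (Subgroup.card_dvd_of_le ?_)
      rintro _ ⟨g, hg, rfl⟩
      exact Subgroup.mem_inf.2 ⟨(Subgroup.mem_inf.1 hg).1, (Subgroup.mem_inf.1 hg).2⟩
  have h2' : ∃ x y : N, x ≠ 1 ∧ y ≠ 1 ∧ x ≠ y ∧ x * x = 1 ∧ y * y = 1 ∧ x * y = y * x := by
    obtain ⟨x, y, hx1, hy1, hxy, hx2, hy2, hc⟩ := P.h2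
    exact ⟨⟨x, hcop x hx2⟩, ⟨y, hcop y hy2⟩, fun h => hx1 (congrArg Subtype.val h),
      fun h => hy1 (congrArg Subtype.val h), fun h => hxy (congrArg Subtype.val h),
      Subtype.ext hx2, Subtype.ext hy2, Subtype.ext hc⟩
  have h := hIH N Ω a t' Q' hlt hS' h2'
  exact hQ (h.of_equiv (Subgroup.subgroupOfEquivOfLe hQN))

/-- `C_Q(v)` is a 2-group when `C(v)` has two commuting involutions at `a`. -/
theorem two_group_centralizer (hIH : IH.{u, v} (Nat.card G)) {v e : G} (hv : v ∈ pairD G a t)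
    (hv1 : v ≠ 1) (hvt : t * v = v * t) (he : e ∈ P.E) (he1 : e ≠ 1) (hes : e ≠ P.s)
    (hve : v * e = e * v) : IsPGroup 2 ↥(Q ⊓ Subgroup.centralizer ({v} : Set G)) := by
  classical
  set C := Subgroup.centralizer ({v} : Set G) with hC
  have hmemC : ∀ {g : G}, g * v = v * g → g ∈ C := fun {g} h => Subgroup.mem_centralizer_singleton_iff.2 h
  have hCg : ∀ g : C, (g : G) * v = v * g := fun g => Subgroup.mem_centralizer_singleton_iff.1 g.2
  let F := fixSet (Ω := Ω) v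
  letI act : MulAction C F :=
    { smul := fun g c => ⟨(g : G) • c.1, by rw [← mul_smul, ← hCg g, mul_smul, c.2]⟩
      one_smul := fun c => Subtype.ext (one_smul G c.1)
      mul_smul := fun g h c => Subtype.ext (mul_smul (g : G) h c.1) }
  haveI : Finite Ω := RankOne.finite_points P.hS
  haveI : Finite F := inferInstanceAs (Finite {c : Ω // v • c = c})
  set N := (MulAction.toPermHom C F).ker with hN
  haveI : N.Normal := MonoidHom.normal_ker _
  letI : MulAction (C ⧸ N) F :=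
    MulAction.compHom F (QuotientGroup.kerLift (MulAction.toPermHom C F))
  haveI : FaithfulSMul (C ⧸ N) F :=
    ⟨fun {x y} h => QuotientGroup.kerLift_injective _ (Equiv.ext fun c => h c)⟩
  have hsm : ∀ (g : C) (c : F), (g : C ⧸ N) • c = g • c := fun g c => rfl
  have hva : v • a = a := (Subgroup.mem_inf.1 hv).1
  have hvb : v • t • a = t • a := (Subgroup.mem_inf.1 hv).2
  have hvs : v * P.s = P.s * v := by
    have h : v ∈ pairD G a t ⊓ Subgroup.centralizer {t} :=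
      Subgroup.mem_inf.2 ⟨hv, Subgroup.mem_centralizer_singleton_iff.2 hvt.symm⟩
    rw [RankOne.centralizer_eq_of_structure P.hS P.hs.1 P.hr P.est, Subgroup.mem_inf (p := pairD G a t),
      Subgroup.mem_centralizer_singleton_iff] at h
    exact h.2
  let A : F := ⟨a, hva⟩
  let T : C := ⟨t, hmemC hvt⟩
  have hTA : (T • A : F).1 = t • a := rfl
  have hX : ({v} : Set G) ⊆ (pairD G a t : Set G) := Set.singleton_subset_iff.2 hv
  have heQ : e ∈ Q := P.E_le he
  have h3 : ∃ b c d : Ω, b ≠ c ∧ b ≠ d ∧ c ≠ d ∧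
      ∀ x ∈ ({v} : Set G), x • b = b ∧ x • c = c ∧ x • d = d := by
    refine ⟨a, t • a, e • t • a, (RankOne.ta_ne P.hS).symm, fun h => ?_, fun h => he1
      (RankOne.eq_one_of_smul_ta P.hS heQ h.symm), ?_⟩
    · exact RankOne.ta_ne P.hS ((smul_left_cancel_iff e).1 (h.symm.trans (RankOne.Q_smul_a P.hS heQ).symm))
    · intro x hx
      rw [Set.mem_singleton_iff] at hx
      subst hx
      exact ⟨hva, hvb, by rw [← mul_smul, hve, mul_smul, hvb]⟩
  let φ := QuotientGroup.mk' N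
  let Q₀ : Subgroup C := Q.subgroupOf C
  let Q' : Subgroup (C ⧸ N) := Q₀.map φ
  have hfixA : ∀ g : C, φ g • A = A ↔ (g : G) • a = a := fun g =>
    ⟨fun h => congrArg Subtype.val h, fun h => Subtype.ext h⟩
  have hfixB : ∀ g : C, φ g • (φ T • A) = φ T • A ↔ (g : G) • t • a = t • a := fun g =>
    ⟨fun h => congrArg Subtype.val h, fun h => Subtype.ext h⟩
  have hinj : ∀ g : C, (g : G) ∈ Q → φ g = 1 → g = 1 := fun g hg h =>
    Subtype.ext (RankOne.eq_one_of_smul_ta P.hS hg (by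
      have h' := congrArg (fun z : C ⧸ N => z • (φ T • A)) h
      simp only [one_smul] at h'
      exact (hfixB g).1 h'))
  have hS' : Cfsg.IsRankOneSetup (C ⧸ N) F A (φ T) Q' := by
    refine ⟨?_, ?_, ?_, ?_, ?_, ?_, ?_, ?_, ?_, ?_⟩
    · rw [MulAction.is_two_pretransitive_iff]
      intro c d c' d' hcd hcd'
      obtain ⟨g, hg, hg1, hg2⟩ := RankOne.centralizer_two_transitive P.hS hX h3
        (b₁ := c.1) (b₂ := d.1) (c₁ := c'.1) (c₂ := d'.1)
        (fun x hx => by rw [Set.mem_singleton_iff] at hx; subst hx; exact ⟨c.2, d.2, c'.2, d'.2⟩)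
        (fun h => hcd (Subtype.ext h)) (fun h => hcd' (Subtype.ext h))
      exact ⟨φ ⟨g, hg⟩, Subtype.ext hg1, Subtype.ext hg2⟩
    · rw [← map_mul, show T * T = 1 from Subtype.ext P.tt, map_one]
    · intro h
      have h' := congrArg (fun z : C ⧸ N => z • A) h
      simp only [one_smul] at h'
      exact P.hS.not_mem ((hfixA T).1 h')
    · exact fun h => P.hS.not_mem ((hfixA T).1 h)
    · rintro _ ⟨g, hg, rfl⟩
      exact (hfixA g).2 (P.hS.le hg)
    · rintro h hh _ ⟨g, hg, rfl⟩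
      obtain ⟨h, rfl⟩ := QuotientGroup.mk'_surjective N h
      exact ⟨h * g * h⁻¹, P.hS.conj_mem _ ((hfixA h).1 hh) _ hg, by rw [map_mul, map_mul, map_inv]⟩
    · rw [eq_bot_iff]
      rintro _ ⟨⟨g, hg, rfl⟩, hgb⟩
      rw [Subgroup.mem_bot, show g = 1 from Subtype.ext
        (RankOne.eq_one_of_smul_ta P.hS hg ((hfixB g).1 hgb)), map_one]
    · refine le_antisymm (sup_le ?_ inf_le_left) ?_
      · rintro _ ⟨g, hg, rfl⟩
        exact (hfixA g).2 (P.hS.le hg)
      · intro z hz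
        obtain ⟨g, rfl⟩ := QuotientGroup.mk'_surjective N z
        have hga : (g : G) • a = a := (hfixA g).1 hz
        obtain ⟨x, hx, hxc, hxb⟩ := RankOne.Q_centralizes P.hS hX
          (b := (g : G) • t • a)
          (fun h => RankOne.ta_ne P.hS ((smul_left_cancel_iff (g : G)).1 (h.trans hga.symm)))
          (RankOne.smul_fixed P.hS g.2 fun y hy => by rw [Set.mem_singleton_iff] at hy; rw [hy]; exact hvb)
        rw [show g = ⟨x, hxc⟩ * (⟨x, hxc⟩⁻¹ * g) by rw [mul_inv_cancel_left], map_mul]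
        refine Subgroup.mul_mem_sup ⟨⟨x, hxc⟩, hx, rfl⟩ (Subgroup.mem_inf.2 ⟨?_, ?_⟩)
        · refine (hfixA _).2 ?_
          show (x⁻¹ * (g : G)) • a = a
          rw [mul_smul, hga, inv_smul_eq_iff, RankOne.Q_smul_a P.hS hx]
        · refine (hfixB _).2 ?_
          show (x⁻¹ * (g : G)) • t • a = t • a
          rw [mul_smul, inv_smul_eq_iff]
          exact hxb.symm
    · have hmem : φ ⟨P.s, hmemC hvs.symm⟩ ∈ Q' := ⟨_, P.s_mem_Q, rfl⟩
      have hord : orderOf (φ ⟨P.s, hmemC hvs.symm⟩) = 2 := orderOf_eq_prime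
        (by rw [pow_two, ← map_mul, show (⟨P.s, hmemC hvs.symm⟩ : C) * ⟨P.s, hmemC hvs.symm⟩ = 1 from
          Subtype.ext P.hs.2.2, map_one])
        (fun h => P.s_ne_one (congrArg Subtype.val (hinj _ P.s_mem_Q h)))
      rw [even_iff_two_dvd, ← hord]
      exact Subgroup.orderOf_dvd_natCard _ hmem
    · let D₀ : Subgroup C := (pairD G a t).subgroupOf C
      have hle : MulAction.stabilizer (C ⧸ N) A ⊓ MulAction.stabilizer (C ⧸ N) (φ T • A) ≤ D₀.map φ := by
        intro z hz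
        obtain ⟨g, rfl⟩ := QuotientGroup.mk'_surjective N z
        exact ⟨g, Subgroup.mem_inf.2 ⟨(hfixA g).1 (Subgroup.mem_inf.1 hz).1,
          (hfixB g).1 (Subgroup.mem_inf.1 hz).2⟩, rfl⟩
      refine P.hS.odd_card.of_dvd_nat ((Subgroup.card_dvd_of_le hle).trans
        ((Subgroup.card_map_dvd D₀ φ).trans ?_))
      rw [← Subgroup.card_map_of_injective C.subtype_injective]
      exact Subgroup.card_dvd_of_le (Subgroup.map_le_iff_le_comap.2 le_rfl)
  have h2' : ∃ x y : C ⧸ N, x ≠ 1 ∧ y ≠ 1 ∧ x ≠ y ∧ x * x = 1 ∧ y * y = 1 ∧ x * y = y * x := by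
    refine ⟨φ ⟨P.s, hmemC hvs.symm⟩, φ ⟨e, hmemC hve.symm⟩,
      fun h => P.s_ne_one (congrArg Subtype.val (hinj _ P.s_mem_Q h)),
      fun h => he1 (congrArg Subtype.val (hinj _ heQ h)), fun h => hes ?_, ?_, ?_, ?_⟩
    · have h' := hinj (⟨e, hmemC hve.symm⟩⁻¹ * ⟨P.s, hmemC hvs.symm⟩)
        (mul_mem (inv_mem heQ) P.s_mem_Q) (by rw [map_mul, map_inv, h, inv_mul_cancel])
      exact inv_mul_eq_one.1 (congrArg Subtype.val h')
    · rw [← map_mul, ← map_one φ]; exact congrArg φ (Subtype.ext P.hs.2.2)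
    · rw [← map_mul, ← map_one φ]; exact congrArg φ (Subtype.ext (P.E_sq he))
    · rw [← map_mul, ← map_mul]; exact congrArg φ (Subtype.ext (P.E_comm P.s_mem_E he))
  have hlt : Nat.card (C ⧸ N) < Nat.card G := by
    refine lt_of_le_of_lt (Nat.card_le_card_of_surjective _ (QuotientGroup.mk'_surjective N))
      (lt_of_le_of_ne (Subgroup.card_le_card_group C) fun h => hv1 ?_)
    have htop := Subgroup.eq_top_of_card_eq C h
    refine eq_of_smul_eq_smul fun c : Ω => ?_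
    rw [one_smul]
    by_cases hc : c = a
    · rw [hc, hva]
    · obtain ⟨x, hx, rfl⟩ := RankOne.exists_Q_smul P.hS hc
      have hxC : x ∈ C := htop ▸ Subgroup.mem_top x
      rw [← mul_smul, ← Subgroup.mem_centralizer_singleton_iff.1 hxC, mul_smul, hvb]
  have hQ' := hIH (C ⧸ N) F A (φ T) Q' hlt hS' h2'
  refine hQ'.of_injective
    ((φ.comp (Subgroup.inclusion (inf_le_right : Q ⊓ C ≤ C))).codRestrict Q'
      fun g => ⟨⟨g, (Subgroup.mem_inf.1 g.2).2⟩, (Subgroup.mem_inf.1 g.2).1, rfl⟩) ?_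
  refine (injective_iff_map_eq_one _).2 fun g hg => Subtype.ext ?_
  have h := hinj ⟨g, (Subgroup.mem_inf.1 g.2).2⟩ (Subgroup.mem_inf.1 g.2).1 (congrArg Subtype.val hg)
  exact congrArg (fun z : C => (z : G)) h

/-- An element of `D` fixing a non-trivial element of `Q` is conjugate in `D` into `C_D(t)`. -/
theorem exists_conj_into_V {d x : G} (hd : d ∈ pairD G a t) (hx : x ∈ Q) (hx1 : x ≠ 1)
    (hdx : d * x = x * d) :
    ∃ l ∈ pairD G a t, t * (l * d * l⁻¹) = l * d * l⁻¹ * t := by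
  have hX : ({d} : Set G) ⊆ (pairD G a t : Set G) := Set.singleton_subset_iff.2 hd
  obtain ⟨l, hl, h⟩ := RankOne.exists_conj_centralizer_t P.hS hX
    ⟨a, t • a, x • t • a, (RankOne.ta_ne P.hS).symm,
      fun h => RankOne.ta_ne P.hS ((smul_left_cancel_iff x).1 (h.symm.trans (RankOne.Q_smul_a P.hS hx).symm)),
      fun h => hx1 (RankOne.eq_one_of_smul_ta P.hS hx h.symm), by
        intro z hz
        rw [Set.mem_singleton_iff] at hz
        subst hz
        exact ⟨(Subgroup.mem_inf.1 hd).1, (Subgroup.mem_inf.1 hd).2,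
          by rw [← mul_smul, hdx, mul_smul, (Subgroup.mem_inf.1 hd).2]⟩⟩
  exact ⟨l, hl, (h d rfl).symm⟩

/-- An element of `D` commuting with a non-trivial element of `K` fixes no element of odd order of `Q`. -/
theorem fpf_on_odd (hIH : IH.{u, v} (Nat.card G)) {d k x : G} (hd : d ∈ pairD G a t) (hd1 : d ≠ 1)
    (hk : k ∈ P.K) (hk1 : k ≠ 1) (hdk : d * k = k * d) (hx : x ∈ Q) (hodd : Odd (orderOf x))
    (hdx : d * x = x * d) : x = 1 := by
  by_contra hx1
  obtain ⟨l, hl, hlt⟩ := P.exists_conj_into_V hd hx hx1 hdx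
  obtain ⟨v, hv⟩ : ∃ v, v = l * d * l⁻¹ := ⟨_, rfl⟩
  obtain ⟨y, hy⟩ : ∃ y, y = l * x * l⁻¹ := ⟨_, rfl⟩
  obtain ⟨m, hm⟩ : ∃ m, m = l * k * l⁻¹ := ⟨_, rfl⟩
  rw [← hv] at hlt
  have hvD : v ∈ pairD G a t := hv ▸ mul_mem (mul_mem hl hd) (inv_mem hl)
  have hmK : m ∈ P.K := hm ▸ P.K_normal l hl k hk
  have hm1 : m ≠ 1 := fun h => hk1 (by rw [show k = l⁻¹ * m * l by rw [hm]; group, h]; group)
  have hv1 : v ≠ 1 := fun h => hd1 (by rw [show d = l⁻¹ * v * l by rw [hv]; group, h]; group)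
  have hvm : v * m = m * v := by
    rw [hv, hm]
    calc l * d * l⁻¹ * (l * k * l⁻¹) = l * (d * k) * l⁻¹ := by group
      _ = l * (k * d) * l⁻¹ := by rw [hdk]
      _ = _ := by group
  have hvy : y * v = v * y := by
    rw [hv, hy]
    calc l * x * l⁻¹ * (l * d * l⁻¹) = l * (x * d) * l⁻¹ := by group
      _ = l * (d * x) * l⁻¹ := by rw [hdx]
      _ = _ := by group
  have hvs : v * P.s = P.s * v := by
    have h : v ∈ pairD G a t ⊓ Subgroup.centralizer {t} :=
      Subgroup.mem_inf.2 ⟨hvD, Subgroup.mem_centralizer_singleton_iff.2 hlt.symm⟩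
    rw [RankOne.centralizer_eq_of_structure P.hS P.hs.1 P.hr P.est, Subgroup.mem_inf (p := pairD G a t),
      Subgroup.mem_centralizer_singleton_iff] at h
    exact h.2
  have hgrp := P.two_group_centralizer hIH hvD hv1 hlt (e := m * P.s * m⁻¹)
    (P.D_norm_E (P.K_le hmK) P.s_mem_E)
    (fun h => P.s_ne_one (by rw [show P.s = m⁻¹ * (m * P.s * m⁻¹) * m by group, h]; group))
    (fun h => hm1 (P.conj_K_injective hmK (one_mem _) P.s_mem_Q P.s_ne_one (by rw [h]; group)))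
    (by calc v * (m * P.s * m⁻¹) = (v * m) * P.s * m⁻¹ := by group
          _ = m * (v * P.s) * m⁻¹ := by rw [hvm]; group
          _ = m * P.s * (v * m⁻¹) := by rw [hvs]; group
          _ = m * P.s * (m⁻¹ * v) := by rw [show v * m⁻¹ = m⁻¹ * v from (Commute.inv_right hvm).eq]
          _ = _ := by group)
  obtain ⟨j, hj⟩ := IsPGroup.iff_orderOf.1 hgrp
    ⟨y, Subgroup.mem_inf.2 ⟨hy ▸ RankOne.D_norm_Q P.hS hl hx,
      Subgroup.mem_centralizer_singleton_iff.2 hvy⟩⟩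
  rw [Subgroup.orderOf_mk, hy, show l * x * l⁻¹ = MulAut.conj l x from rfl,
    MulEquiv.orderOf_eq] at hj
  have hj0 : j = 0 := by
    by_contra h
    rw [hj] at hodd
    exact absurd hodd (by rw [Nat.not_odd_iff_even]; exact (Nat.even_pow.2 ⟨even_two, h⟩))
  rw [hj0, pow_zero, orderOf_eq_one_iff] at hj
  exact hx1 hj

/-- The two possibilities for `D` acting on the elements of odd order of `Q`. -/
theorem shape (hIH : IH.{u, v} (Nat.card G)) :
    (∀ d ∈ pairD G a t, d ≠ 1 → ∀ x ∈ Q, Odd (orderOf x) → d * x = x * d → x = 1) ∨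
    ∃ (v : G) (p : ℕ), p.Prime ∧ Odd p ∧ P.q = 2 ^ p ∧ v ∈ pairD G a t ∧ t * v = v * t ∧
      orderOf v = p ∧ (∀ k ∈ P.K, v * k * v⁻¹ = k ^ 2) ∧ (∀ k ∈ P.K, v * k = k * v → k = 1) ∧
      Nat.card ↥(pairD G a t) = p * Nat.card P.M ∧
      ∃ x ∈ Q, Odd (orderOf x) ∧ x ≠ 1 ∧ v * x = x * v := by
  by_cases hcase : ∀ d ∈ pairD G a t, d ≠ 1 → ∀ x ∈ Q, Odd (orderOf x) → d * x = x * d → x = 1
  · exact Or.inl hcase
  refine Or.inr ?_
  push Not at hcase
  obtain ⟨d, hd, hd1, x, hx, hxo, hdx, hx1⟩ := hcase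
  obtain ⟨l, hl, hlt⟩ := P.exists_conj_into_V hd hx hx1 hdx
  obtain ⟨v₀, hv₀⟩ : ∃ v₀, v₀ = l * d * l⁻¹ := ⟨_, rfl⟩
  obtain ⟨y, hy⟩ : ∃ y, y = l * x * l⁻¹ := ⟨_, rfl⟩
  rw [← hv₀] at hlt
  have hvD : v₀ ∈ pairD G a t := hv₀ ▸ mul_mem (mul_mem hl hd) (inv_mem hl)
  have hv1 : v₀ ≠ 1 := fun h => hd1 (by rw [show d = l⁻¹ * v₀ * l by rw [hv₀]; group, h]; group)
  have hyQ : y ∈ Q := hy ▸ RankOne.D_norm_Q P.hS hl hx
  have hyo : Odd (orderOf y) := by
    rwa [hy, show l * x * l⁻¹ = MulAut.conj l x from rfl,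
      MulEquiv.orderOf_eq]
  have hy1 : y ≠ 1 := fun h => hx1 (by rw [show x = l⁻¹ * y * l by rw [hy]; group, h]; group)
  have hvy : Commute v₀ y := by
    show v₀ * y = y * v₀
    rw [hv₀, hy]
    calc l * d * l⁻¹ * (l * x * l⁻¹) = l * (d * x) * l⁻¹ := by group
      _ = l * (x * d) * l⁻¹ := by rw [hdx]
      _ = _ := by group
  -- powers of `v₀` are trivial or fixed-point-free on `K`
  have hpow : ∀ j : ℕ, v₀ ^ j ≠ 1 → ∀ k ∈ P.K, v₀ ^ j * k = k * v₀ ^ j → k = 1 := by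
    intro j hj k hk hjk
    by_contra hk1
    exact hy1 (P.fpf_on_odd hIH (pow_mem hvD j) hj hk hk1 hjk hyQ hyo (hvy.pow_left j).eq)
  obtain ⟨i, hi⟩ := P.exists_conj_pow hvD
  obtain ⟨p, hp2, hq⟩ := P.exists_q_eq
  obtain ⟨hip, hpodd⟩ := P.coprime_of_fpf hvD hq hp2 hi (by simpa using hpow 1 (by simpa using hv1))
  haveI := P.K_cyclic
  obtain ⟨⟨k₀, hk₀⟩, hgen⟩ := IsCyclic.exists_generator (α := P.K)
  have hord : orderOf k₀ = 2 ^ p - 1 := by
    have := P.card_K_add_one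
    rw [← Subgroup.orderOf_mk k₀ hk₀, orderOf_eq_card_of_forall_mem_zpowers hgen]
    omega
  have hKpow : ∀ m : ℕ, ∀ k ∈ P.K, k ^ (2 ^ (p * m)) = k := by
    intro m k hk
    have h1 : k ^ (2 ^ p - 1) = 1 := by
      have := P.card_K_add_one
      rw [show 2 ^ p - 1 = Nat.card P.K by omega]
      exact congrArg Subtype.val (pow_card_eq_one' (G := ↥P.K) (x := ⟨k, hk⟩))
    induction m with
    | zero => simp
    | succ m ih =>
      rw [Nat.mul_succ, pow_add, pow_mul, ih]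
      calc k ^ 2 ^ p = k ^ (2 ^ p - 1) * k := by
            rw [← pow_succ]; congr 1; have := Nat.one_le_two_pow (n := p); omega
        _ = k := by rw [h1, one_mul]
  have hiter : ∀ (w : G) (i : ℕ), (∀ k ∈ P.K, w * k * w⁻¹ = k ^ (2 ^ i)) →
      ∀ m : ℕ, ∀ k ∈ P.K, w ^ m * k * (w ^ m)⁻¹ = k ^ (2 ^ (i * m)) := by
    intro w i hi m
    induction m with
    | zero => intro k _; simp
    | succ m ih =>
      intro k hk
      rw [show w ^ (m + 1) * k * (w ^ (m + 1))⁻¹ = w ^ m * (w * k * w⁻¹) * (w ^ m)⁻¹ by group, hi k hk,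
        ih _ (pow_mem hk _), ← pow_mul, ← pow_add, show i + i * m = i * (m + 1) by ring]
  have hp' : p.Prime := by
    by_contra hnp
    obtain ⟨l', hl', hl'p⟩ := Nat.exists_prime_and_dvd (show p ≠ 1 by omega)
    have hne : v₀ ^ l' ≠ 1 := by
      intro h
      have h1 := hiter v₀ i hi l' k₀ hk₀
      rw [h, one_mul, inv_one, mul_one] at h1
      have h2 : 2 ^ p - 1 ∣ 2 ^ (i * l') - 1 := by
        rw [← hord]
        refine orderOf_dvd_of_pow_eq_one (mul_right_cancel (b := k₀) ?_)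
        rw [← pow_succ, show 2 ^ (i * l') - 1 + 1 = 2 ^ (i * l') by
          have := Nat.one_le_two_pow (n := i * l'); omega, ← h1, one_mul]
      have h3 : p ∣ i * l' := by
        have hg := Nat.gcd_eq_left h2
        rw [Nat.pow_sub_one_gcd_pow_sub_one] at hg
        have h4 : 2 ^ (p.gcd (i * l')) = 2 ^ p := by
          have := Nat.one_le_two_pow (n := p.gcd (i * l'))
          have := Nat.one_le_two_pow (n := p)
          omega
        exact Nat.gcd_eq_left_iff_dvd.1 (Nat.pow_right_injective (le_refl 2) h4)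
      have h5 : p ∣ l' := (Nat.Coprime.symm hip).dvd_of_dvd_mul_left h3
      exact hnp (Nat.dvd_antisymm hl'p h5 ▸ hl')
    obtain ⟨hcop', -⟩ := P.coprime_of_fpf (pow_mem hvD l') hq hp2 (hiter v₀ i hi l') (hpow l' hne)
    exact hl'.one_lt.ne' (Nat.eq_one_of_dvd_coprimes hcop' (dvd_mul_left l' i) hl'p)
  have hvp : v₀ ^ p = 1 := by
    by_contra h
    obtain ⟨k, hk, hk1⟩ := P.exists_ne_one_K
    have h1 := hiter v₀ i hi p k hk
    rw [mul_comm i p, hKpow i k hk] at h1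
    exact hk1 (hpow p h k hk (mul_inv_eq_iff_eq_mul.1 h1))
  haveI : Fact p.Prime := ⟨hp'⟩
  have hvord : orderOf v₀ = p := orderOf_eq_prime hvp hv1
  -- normalise the exponent
  obtain ⟨j, -, hj⟩ := Nat.exists_mul_mod_eq_one_of_coprime hip (by omega)
  obtain ⟨w, hw⟩ : ∃ w, w = v₀ ^ j := ⟨_, rfl⟩
  have hjp : ¬ p ∣ j := fun h => by
    obtain ⟨c, rfl⟩ := h
    rw [show i * (p * c) = p * (i * c) by ring, Nat.mul_mod_right] at hj
    exact zero_ne_one hj
  have hw2 : ∀ k ∈ P.K, w * k * w⁻¹ = k ^ 2 := by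
    intro k hk
    rw [hw, hiter v₀ i hi j k hk, ← Nat.div_add_mod (i * j) p, hj, pow_add, pow_mul,
      hKpow _ k hk, pow_one]
  have hw1 : w ≠ 1 := fun h => hjp (hvord ▸ orderOf_dvd_of_pow_eq_one (hw ▸ h))
  have hwK : ∀ k ∈ P.K, w * k = k * w → k = 1 := hw ▸ hpow j (hw ▸ hw1)
  have hwD : w ∈ pairD G a t := hw ▸ pow_mem hvD j
  have hwM : ∀ m : ℕ, w ^ m ∈ P.M → p ∣ m := by
    intro m hm
    by_contra hnm
    have hne : w ^ m ≠ 1 := fun h => by
      rw [hw, ← pow_mul] at h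
      rcases (Nat.Prime.dvd_mul hp').1 (hvord ▸ orderOf_dvd_of_pow_eq_one h) with h' | h'
      · exact hjp h'
      · exact hnm h'
    obtain ⟨k, hk, hk1⟩ := P.exists_ne_one_K
    exact hk1 (hpow (j * m) (by rwa [hw, ← pow_mul] at hne) k hk
      (by rw [pow_mul, ← hw]; exact (P.mem_M_iff.1 hm).2 k hk))
  have hdec : ∀ d ∈ pairD G a t, ∃ m < p, d * (w ^ m)⁻¹ ∈ P.M := by
    intro d hd
    obtain ⟨i', hi'⟩ := P.exists_conj_pow hd
    refine ⟨i' % p, Nat.mod_lt _ hp'.pos, P.mem_M_iff.2 ⟨mul_mem hd (inv_mem (pow_mem hwD _)), fun k hk => ?_⟩⟩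
    have h1 : ∀ k' ∈ P.K, d * k' * d⁻¹ = w ^ (i' % p) * k' * (w ^ (i' % p))⁻¹ := by
      intro k' hk'
      rw [hi' k' hk', hiter w 1 (by simpa using hw2) _ k' hk', one_mul]
      conv_lhs => rw [← Nat.div_add_mod i' p, pow_add, pow_mul, hKpow _ k' hk']
    have h2 : d * ((w ^ (i' % p))⁻¹ * k * w ^ (i' % p)) * d⁻¹ = k := by
      rw [h1 _ (by simpa using P.K_normal _ (inv_mem (pow_mem hwD (i' % p))) k hk)]
      group
    calc d * (w ^ (i' % p))⁻¹ * k
        = (d * ((w ^ (i' % p))⁻¹ * k * w ^ (i' % p)) * d⁻¹) * (d * (w ^ (i' % p))⁻¹) := by group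
      _ = _ := by rw [h2]
  have hcard : Nat.card ↥(pairD G a t) = p * Nat.card P.M := by
    have e : Fin p × P.M ≃ ↥(pairD G a t) := by
      refine Equiv.ofBijective (fun mx => ⟨(mx.2 : G) * w ^ (mx.1 : ℕ),
        mul_mem (P.M_le mx.2.2) (pow_mem hwD _)⟩) ⟨?_, ?_⟩
      · rintro ⟨m₁, x₁⟩ ⟨m₂, x₂⟩ h
        have h' : (x₁ : G) * w ^ (m₁ : ℕ) = x₂ * w ^ (m₂ : ℕ) := congrArg Subtype.val h
        have key : ∀ (m₁ m₂ : ℕ) (x₁ x₂ : P.M), m₁ ≤ m₂ → m₂ < p →
            (x₁ : G) * w ^ m₁ = x₂ * w ^ m₂ → m₁ = m₂ := by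
          intro m₁ m₂ x₁ x₂ hle hlt h
          have hmem : w ^ (m₂ - m₁) ∈ P.M := by
            rw [show w ^ (m₂ - m₁) = (x₂ : G)⁻¹ * (x₁ : G) by
              rw [pow_sub w hle]
              calc w ^ m₂ * (w ^ m₁)⁻¹ = (x₂ : G)⁻¹ * ((x₂ : G) * w ^ m₂) * (w ^ m₁)⁻¹ := by group
                _ = (x₂ : G)⁻¹ * ((x₁ : G) * w ^ m₁) * (w ^ m₁)⁻¹ := by rw [h]
                _ = _ := by group]
            exact mul_mem (inv_mem x₂.2) x₁.2
          have := Nat.eq_zero_of_dvd_of_lt (hwM _ hmem) (by omega)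
          omega
        have hm : (m₁ : ℕ) = m₂ := by
          rcases le_total (m₁ : ℕ) m₂ with h'' | h''
          · exact key _ _ x₁ x₂ h'' m₂.2 h'
          · exact (key _ _ x₂ x₁ h'' m₁.2 h'.symm).symm
        obtain rfl := Fin.ext hm
        exact Prod.ext rfl (Subtype.ext (mul_right_cancel h'))
      · rintro ⟨d, hd⟩
        obtain ⟨m, hm, hdm⟩ := hdec d hd
        exact ⟨(⟨m, hm⟩, ⟨_, hdm⟩), Subtype.ext (inv_mul_cancel_right d _)⟩
    rw [← Nat.card_congr e, Nat.card_prod, Nat.card_fin]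
  refine ⟨w, p, hp', hpodd, hq, hwD, ?_, ?_, hw2, hwK, hcard, y, hyQ, hyo, hy1, ?_⟩
  · rw [hw]; exact ((show Commute t v₀ from hlt).pow_right j).eq
  · exact orderOf_eq_prime (by rw [hw, ← pow_mul, mul_comm, pow_mul, hvp, one_pow]) hw1
  · rw [hw]; exact (hvy.pow_left j).eq

end Frame

end CfsgLib.SuzukiThm
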