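import Cfsg.Agent.SuzukiTheorem.Split
import Cfsg.Agent.SuzukiTheorem.Stab
import Cfsg.Prelude.Def_Characters

/-!
# Interface for the character counting in Suzuki's theorem

`conjD`, `TrivE` and `CharFamily` are the hypotheses of the character bound; `conjAut` is the action of
`D` on a `D`-invariant subgroup; `Twist` records the second shape of `D`.
-/

set_option autoImplicit false
set_option linter.unusedSectionVars false

namespace CfsgLib.SuzukiThm

open CfsgLib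

universe u v

variable {G : Type u} {Ω : Type v} [Group G] [MulAction G Ω] [Finite G] {a : Ω} {t : G} {Q : Subgroup G}

/-- The conjugate of a function on `Q` by an element of `D`. -/
def conjD (P : Frame a t Q) (d : ↥(pairD G a t)) (φ : ↥Q → ℂ) : ↥Q → ℂ :=
  fun x => φ ⟨(d : G) * x * (d : G)⁻¹, RankOne.D_norm_Q P.hS d.2 x.2⟩

/-- The function is trivial on the involutions of `Q`. -/
def TrivE (P : Frame a t Q) (φ : ↥Q → ℂ) : Prop := ∀ x : ↥Q, (x : G) ∈ P.E → φ x = φ 1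

/-- A family of characters of `Q` with trivial stabilisers in `D`, sorted by `base`, to which coherence
applies. -/
structure CharFamily (P : Frame a t Q) (Φ : Finset (Cfsg.IrrCharacter ↥Q))
    (base : Cfsg.IrrCharacter ↥Q → ℕ) : Prop where
  regular : ∀ φ ∈ Φ, ∀ d, conjD P d φ.1 = φ.1 → d = 1
  closed : ∀ φ ∈ Φ, ∀ d, ∀ ψ : Cfsg.IrrCharacter ↥Q, ψ.1 = conjD P d φ.1 → ψ ∈ Φ ∧ base ψ = base φ
  partner : ∀ φ ∈ Φ, ∃ ψ ∈ Φ, base ψ = base φ ∧ ψ.1 1 = φ.1 1 ∧ ∀ d, ψ.1 ≠ conjD P d φ.1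
  triv_deg : ∀ φ ∈ Φ, TrivE P φ.1 → φ.1 1 = (base φ : ℂ)
  hasF1 : ∀ φ ∈ Φ, ∃ ψ ∈ Φ, base ψ = base φ ∧ TrivE P ψ.1
  hasF0 : ∀ φ ∈ Φ, ∃ ψ ∈ Φ, base ψ = base φ ∧ ¬ TrivE P ψ.1
  deg : ∀ φ ∈ Φ, ∃ e : ℕ, φ.1 1 = (e : ℂ) * (base φ : ℂ) ∧ (e = 1 ∨
    (2 * e + 1) * Nat.card ↥(pairD G a t) <
      Nat.card {ψ : Cfsg.IrrCharacter ↥Q // ψ ∈ Φ ∧ base ψ = base φ ∧ TrivE P ψ.1})

/-- Conjugation by `D` on a `D`-invariant subgroup. -/
noncomputable def conjAut (A : Subgroup G) (hA : ∀ d ∈ pairD G a t, ∀ x ∈ A, d * x * d⁻¹ ∈ A) :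
    ↥(pairD G a t) →* MulAut ↥A where
  toFun d :=
    { toFun := fun x => ⟨d * x * (d : G)⁻¹, hA d d.2 x x.2⟩
      invFun := fun x => ⟨(d : G)⁻¹ * x * d, by simpa using hA (d : G)⁻¹ (inv_mem d.2) x x.2⟩
      left_inv := fun x => Subtype.ext (by group)
      right_inv := fun x => Subtype.ext (by group)
      map_mul' := fun x y => Subtype.ext (by
        show (d : G) * (x * y) * (d : G)⁻¹ = (d * x * (d : G)⁻¹) * (d * y * (d : G)⁻¹)
        group) }
  map_one' := MulEquiv.ext fun x => Subtype.ext (by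
    show (1 : G) * x * (1 : G)⁻¹ = x
    group)
  map_mul' c d := MulEquiv.ext fun x => Subtype.ext (by
    show ((c : G) * d) * x * ((c : G) * d)⁻¹ = c * (d * x * (d : G)⁻¹) * (c : G)⁻¹
    group)

@[simp] theorem conjAut_apply (A : Subgroup G) (hA : ∀ d ∈ pairD G a t, ∀ x ∈ A, d * x * d⁻¹ ∈ A)
    (d : ↥(pairD G a t)) (x : ↥A) : ((conjAut A hA d x : ↥A) : G) = d * x * (d : G)⁻¹ := rfl

/-- The action of `D` on the 2-part of `Q`. -/
noncomputable def Split.autT {P : Frame a t Q} (S : Split P) : ↥(pairD G a t) →* MulAut ↥S.T :=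
  conjAut S.T fun _ hd _ hx => S.T_conj hd hx

/-- The action of `D` on the odd part of `Q`. -/
noncomputable def Split.autO {P : Frame a t Q} (S : Split P) : ↥(pairD G a t) →* MulAut ↥S.O :=
  conjAut S.O fun _ hd _ hx => S.O_conj hd hx

/-- The second shape of `D`: `q = 2 ^ p` and an element `v` of order `p` of `C_D(t)` squares `K` and fixes
a non-trivial element of odd order of `Q`. -/
structure Twist (P : Frame a t Q) (v : G) (p : ℕ) : Prop where
  prime : p.Prime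
  odd : Odd p
  hq : P.q = 2 ^ p
  mem : v ∈ pairD G a t
  comm_t : t * v = v * t
  order : orderOf v = p
  conj : ∀ k ∈ P.K, v * k * v⁻¹ = k ^ 2
  fpf : ∀ k ∈ P.K, v * k = k * v → k = 1
  card_D : Nat.card ↥(pairD G a t) = p * Nat.card P.M
  fixes : ∃ x ∈ Q, Odd (orderOf x) ∧ x ≠ 1 ∧ v * x = x * v

/-- `shape`, in terms of `Twist`. -/
theorem Frame.shape_twist [FaithfulSMul G Ω] (P : Frame a t Q) (hIH : IH.{u, v} (Nat.card G)) :
    (∀ d ∈ pairD G a t, d ≠ 1 → ∀ x ∈ Q, Odd (orderOf x) → d * x = x * d → x = 1) ∨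
      ∃ v p, Twist P v p := by
  rcases P.shape hIH with h | ⟨v, p, h1, h2, h3, h4, h5, h6, h7, h8, h9, h10⟩
  · exact Or.inl h
  · exact Or.inr ⟨v, p, h1, h2, h3, h4, h5, h6, h7, h8, h9, h10⟩

end CfsgLib.SuzukiThm
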