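import Mathlib

/-!
Ovals in the plane over a finite field of characteristic two that are invariant under a
transvection centred at each of their points.

If `Ω ⊆ F² ∖ 0` meets every line through the origin in exactly one point and for every `R ∈ Ω` some
nontrivial transvection with centre `R` leaves `Ω` invariant,
then `Ω = {v | Q v = 1}` for an anisotropic quadratic form `Q`.
-/

set_option autoImplicit false
set_option linter.unusedSectionVars false
set_option linter.unusedVariables false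
set_option linter.unusedSimpArgs false
set_option linter.style.haveILetI false

namespace CfsgLib.SuzukiCircles

open Matrix

variable {F : Type*} [Field F]

/-- The determinant of two vectors of the plane. -/
def det2 (u v : Fin 2 → F) : F := u 0 * v 1 - u 1 * v 0

theorem det2_mulVec (A : Matrix (Fin 2) (Fin 2) F) (u v : Fin 2 → F) :
    det2 (A *ᵥ u) (A *ᵥ v) = A.det * det2 u v := by
  simp [det2, Matrix.det_fin_two, Matrix.mulVec, dotProduct, Fin.sum_univ_two]
  ring

theorem det2_self (u : Fin 2 → F) : det2 u u = 0 := by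
  simp [det2]; ring

theorem det2_smul (c : F) (u v : Fin 2 → F) : det2 u (c • v) = c * det2 u v := by
  simp [det2]; ring

theorem exists_smul_of_det2_eq_zero {u v : Fin 2 → F} (hu : u ≠ 0) (h : det2 u v = 0) :
    ∃ c : F, v = c • u := by
  rw [det2, sub_eq_zero] at h
  by_cases h0 : u 0 = 0
  · have h1 : u 1 ≠ 0 := fun h1 => hu (funext fun i => by fin_cases i <;> assumption)
    refine ⟨v 1 / u 1, funext fun i => ?_⟩
    fin_cases i
    · rw [h0, zero_mul] at h
      have : v 0 = 0 := (mul_eq_zero.1 h.symm).resolve_left h1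
      simp [h0, this]
    · simp [div_mul_cancel₀ _ h1]
  · refine ⟨v 0 / u 0, funext fun i => ?_⟩
    fin_cases i
    · simp [div_mul_cancel₀ _ h0]
    · simp
      field_simp
      linear_combination h

/-- The transvection `v ↦ v + c · det(R, v) · R`. -/
def transv (c : F) (R : Fin 2 → F) : Matrix.SpecialLinearGroup (Fin 2) F :=
  ⟨!![1 - c * R 0 * R 1, c * R 0 * R 0; -(c * R 1 * R 1), 1 + c * R 0 * R 1], by
    rw [Matrix.det_fin_two_of]; ring⟩

theorem transv_mulVec (c : F) (R v : Fin 2 → F) :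
    (↑(transv c R) : Matrix (Fin 2) (Fin 2) F) *ᵥ v = v + (c * det2 R v) • R := by
  funext i
  fin_cases i <;> simp [transv, det2, Matrix.mulVec, dotProduct, Fin.sum_univ_two] <;> ring

theorem sl_mulVec_eq_zero {g : Matrix.SpecialLinearGroup (Fin 2) F} {v : Fin 2 → F}
    (h : (↑g : Matrix (Fin 2) (Fin 2) F) *ᵥ v = 0) : v = 0 := by
  have h2 : (↑(g⁻¹ * g) : Matrix (Fin 2) (Fin 2) F) *ᵥ v = 0 := by
    rw [Matrix.SpecialLinearGroup.coe_mul, ← Matrix.mulVec_mulVec, h, Matrix.mulVec_zero]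
  simpa using h2

theorem ext_of_mulVec {g k : Matrix.SpecialLinearGroup (Fin 2) F}
    (h : ∀ v, (↑g : Matrix (Fin 2) (Fin 2) F) *ᵥ v = (↑k : Matrix (Fin 2) (Fin 2) F) *ᵥ v) :
    g = k := Subtype.ext (Matrix.mulVec_injective (funext h))

section Main

variable [Fintype F] [CharP F 2]

theorem mid_ne_zero {a b c : F}
    (h : ∀ v : Fin 2 → F, v ≠ 0 → a * v 0 * v 0 + b * v 0 * v 1 + c * v 1 * v 1 ≠ 0) : b ≠ 0 := by
  intro hb
  obtain ⟨s, hs⟩ := isSquare_of_charTwo' a
  obtain ⟨r, hr⟩ := isSquare_of_charTwo' c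
  by_cases hs0 : s = 0
  · exact h ![1, 0] (by simp) (by simp [hs, hs0])
  · refine h ![r, s] (fun h1 => hs0 (by simpa using congrFun h1 1)) ?_
    simp only [hs, hr, hb, Matrix.cons_val_zero, Matrix.cons_val_one, zero_mul, add_zero]
    rw [show s * s * r * r + r * r * s * s = (r * s) * (r * s) + (r * s) * (r * s) by ring,
      CharTwo.add_self_eq_zero]

set_option maxHeartbeats 1000000 in
/-- The main lemma. -/
theorem exists_form (Ω : Set (Fin 2 → F)) (h0 : (0 : Fin 2 → F) ∉ Ω)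
    (hray : ∀ v : Fin 2 → F, v ≠ 0 → ∃ c : F, c • v ∈ Ω)
    (huniq : ∀ v ∈ Ω, ∀ c : F, c • v ∈ Ω → c = 1)
    (hτ : ∀ R ∈ Ω, ∃ c : F, c ≠ 0 ∧ ∀ v ∈ Ω, v + (c * det2 R v) • R ∈ Ω) :
    ∃ a b c : F, b ≠ 0 ∧
      (∀ v : Fin 2 → F, v ≠ 0 → a * v 0 * v 0 + b * v 0 * v 1 + c * v 1 * v 1 ≠ 0) ∧
      (∀ v : Fin 2 → F, v ∈ Ω ↔ a * v 0 * v 0 + b * v 0 * v 1 + c * v 1 * v 1 = 1) := by
  classical
  choose c hc hcΩ using hτ
  -- the stabiliser
  let X : Subgroup (Matrix.SpecialLinearGroup (Fin 2) F) :=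
    { carrier := {g | Set.MapsTo (fun v => (↑g : Matrix (Fin 2) (Fin 2) F) *ᵥ v) Ω Ω}
      one_mem' := fun v hv => by simpa using hv
      mul_mem' := fun {g k} hg hk v hv => by
        have := hg (hk hv)
        show (↑(g * k) : Matrix (Fin 2) (Fin 2) F) *ᵥ v ∈ Ω
        rw [Matrix.SpecialLinearGroup.coe_mul, ← Matrix.mulVec_mulVec]
        exact this
      inv_mem' := fun {g} hg v hv => by
        have hinj : Function.Injective (fun v => (↑g : Matrix (Fin 2) (Fin 2) F) *ᵥ v) := by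
          intro u w huw
          have : (↑g : Matrix (Fin 2) (Fin 2) F) *ᵥ (u - w) = 0 := by
            rw [Matrix.mulVec_sub, sub_eq_zero]; exact huw
          exact sub_eq_zero.1 (sl_mulVec_eq_zero this)
        obtain ⟨u, hu, rfl⟩ := ((Set.toFinite Ω).injOn_iff_bijOn_of_mapsTo hg).1 hinj.injOn |>.surjOn hv
        show (↑g⁻¹ : Matrix (Fin 2) (Fin 2) F) *ᵥ ((↑g : Matrix (Fin 2) (Fin 2) F) *ᵥ u) ∈ Ω
        rw [Matrix.mulVec_mulVec, ← Matrix.SpecialLinearGroup.coe_mul, inv_mul_cancel,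
          Matrix.SpecialLinearGroup.coe_one, Matrix.one_mulVec]
        exact hu }
  let O := {v : Fin 2 → F // v ∈ Ω}
  let _ : SMul ↥X O := ⟨fun g v => ⟨(↑g.1 : Matrix (Fin 2) (Fin 2) F) *ᵥ v.1, g.2 v.2⟩⟩
  have hsmul : ∀ (g : ↥X) (v : O), (g • v).1 = (↑g.1 : Matrix (Fin 2) (Fin 2) F) *ᵥ v.1 :=
    fun _ _ => rfl
  let _ : MulAction ↥X O :=
    { one_smul := fun v => Subtype.ext (by simp [hsmul])
      mul_smul := fun g k v => Subtype.ext (by
        rw [hsmul, hsmul, hsmul, Subgroup.coe_mul, Matrix.SpecialLinearGroup.coe_mul,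
          ← Matrix.mulVec_mulVec]) }
  let τ : O → ↥X := fun R => ⟨transv (c R.1 R.2) R.1, fun v hv => by
    show _ ∈ Ω
    simp only [transv_mulVec]
    exact hcΩ R.1 R.2 v hv⟩
  have hτv : ∀ (R : O) (v : Fin 2 → F),
      (↑(τ R).1 : Matrix (Fin 2) (Fin 2) F) *ᵥ v = v + (c R.1 R.2 * det2 R.1 v) • R.1 :=
    fun R v => transv_mulVec _ _ _
  have hne : ∀ R : O, R.1 ≠ 0 := fun R h => h0 (h ▸ R.2)
  have hfix : ∀ R P : O, τ R • P = P ↔ P = R := by
    intro R P
    constructor
    · intro h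
      have h' := congrArg Subtype.val h
      rw [hsmul, hτv, add_eq_left, smul_eq_zero, mul_eq_zero] at h'
      rcases h' with (h' | h') | h'
      · exact absurd h' (hc _ _)
      · obtain ⟨e, he⟩ := exists_smul_of_det2_eq_zero (hne R) h'
        have : e = 1 := huniq R.1 R.2 e (he ▸ P.2)
        exact Subtype.ext (by rw [he, this, one_smul])
      · exact absurd h' (hne R)
    · rintro rfl
      exact Subtype.ext (by rw [hsmul, hτv, det2_self, mul_zero, zero_smul, add_zero])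
  have hττ : ∀ R : O, τ R * τ R = 1 := by
    intro R
    refine Subtype.ext (ext_of_mulVec fun v => ?_)
    rw [Subgroup.coe_mul, Matrix.SpecialLinearGroup.coe_mul, ← Matrix.mulVec_mulVec, hτv, hτv,
      Subgroup.coe_one, Matrix.SpecialLinearGroup.coe_one, Matrix.one_mulVec]
    have : det2 R.1 (v + (c R.1 R.2 * det2 R.1 v) • R.1) = det2 R.1 v := by
      simp [det2]; ring
    rw [this, add_assoc, ← add_smul, CharTwo.add_self_eq_zero, zero_smul, add_zero]
  -- the point stabilisers consist of transvections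
  have hstab : ∀ (R : O) (g : ↥X), g • R = R → ∃ γ : F, ∀ v : Fin 2 → F,
      (↑g.1 : Matrix (Fin 2) (Fin 2) F) *ᵥ v = v + (γ * det2 R.1 v) • R.1 := by
    intro R g hg
    have hgR : (↑g.1 : Matrix (Fin 2) (Fin 2) F) *ᵥ R.1 = R.1 := congrArg Subtype.val hg
    set A : Matrix (Fin 2) (Fin 2) F := ↑g.1
    have hdet : A.det = 1 := g.1.2
    have key : ∀ v, det2 R.1 (A *ᵥ v - v) = 0 := by
      intro v
      have h1 := det2_mulVec A R.1 v
      rw [hgR, hdet, one_mul] at h1
      simp only [det2, Pi.sub_apply] at h1 ⊢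
      linear_combination h1
    choose e he using fun v => exists_smul_of_det2_eq_zero (hne R) (key v)
    obtain ⟨w, hw⟩ : ∃ w, det2 R.1 w ≠ 0 := by
      by_contra h
      push Not at h
      refine hne R (funext fun i => ?_)
      fin_cases i
      · simpa [det2] using h (Pi.single 1 1)
      · simpa [det2] using h (Pi.single 0 1)
    refine ⟨e w / det2 R.1 w, fun v => ?_⟩
    have hker : det2 R.1 (v - (det2 R.1 v / det2 R.1 w) • w) = 0 := by
      have : det2 R.1 (v - (det2 R.1 v / det2 R.1 w) • w) =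
          det2 R.1 v - (det2 R.1 v / det2 R.1 w) * det2 R.1 w := by
        simp [det2]; ring
      rw [this, div_mul_cancel₀ _ hw, sub_self]
    obtain ⟨d, hd⟩ := exists_smul_of_det2_eq_zero (hne R) hker
    have hv : v = d • R.1 + (det2 R.1 v / det2 R.1 w) • w := by rw [← hd]; abel
    have hAw : A *ᵥ w = w + e w • R.1 := by rw [← he w]; abel
    conv_lhs => rw [hv, Matrix.mulVec_add, Matrix.mulVec_smul, Matrix.mulVec_smul, hgR, hAw]
    conv_rhs => arg 1; rw [hv]
    simp only [smul_add, smul_smul]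
    rw [add_assoc, show det2 R.1 v / det2 R.1 w * e w = e w / det2 R.1 w * det2 R.1 v by ring]
  have hne1 : ∀ R : O, τ R ≠ 1 := by
    intro R h
    obtain ⟨P, hP⟩ : ∃ P : O, P ≠ R := by
      obtain ⟨w, hw⟩ : ∃ w, det2 R.1 w ≠ 0 := by
        by_contra h'
        push Not at h'
        refine hne R (funext fun i => ?_)
        fin_cases i
        · simpa [det2] using h' (Pi.single 1 1)
        · simpa [det2] using h' (Pi.single 0 1)
      obtain ⟨d, hd⟩ := hray w (fun h1 => hw (by simp [h1, det2]))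
      refine ⟨⟨_, hd⟩, fun h1 => ?_⟩
      have h2 : d • w = R.1 := congrArg Subtype.val h1
      have : det2 R.1 (d • w) = 0 := by rw [h2, det2_self]
      rw [det2_smul] at this
      rcases mul_eq_zero.1 this with h3 | h3
      · exact hne R (by rw [← h2, h3, zero_smul])
      · exact hw h3
    exact hP ((hfix R P).1 (by rw [h, one_smul]))
  -- every orbit is odd, hence there is only one
  have hpar : ∀ (R : O) (S : Finset O), (∀ g : ↥X, ∀ P ∈ S, g • P ∈ S) →
      (R ∈ S → Odd S.card) ∧ (R ∉ S → Even S.card) := by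
    intro R S hS
    have hinv : ∀ P : O, τ R • τ R • P = P := fun P => by rw [← mul_smul, hττ, one_smul]
    have h1 : ∀ S' : Finset O, (∀ P ∈ S', τ R • P ∈ S') → R ∉ S' → Even S'.card := by
      intro S' h2 h3
      have h4 : ((S'.card : ℕ) : ZMod 2) = 0 := by
        rw [← mul_one (S'.card : ZMod 2), ← nsmul_eq_mul, ← Finset.sum_const]
        exact Finset.sum_involution (fun P _ => τ R • P) (fun P _ => by decide)
          (fun P hP _ h5 => h3 ((hfix R P).1 h5 ▸ hP)) h2 (fun P _ => hinv P)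
      exact (ZMod.natCast_eq_zero_iff_even).1 h4
    refine ⟨fun hR => ?_, h1 S (hS _)⟩
    have h2 : Even (S.erase R).card := by
      refine h1 _ (fun P hP => ?_) (Finset.notMem_erase _ _)
      obtain ⟨hPR, hPS⟩ := Finset.mem_erase.1 hP
      refine Finset.mem_erase.2 ⟨fun h3 => hPR ?_, hS _ _ hPS⟩
      rw [← hinv P, h3]; exact (hfix R R).2 rfl
    rw [← Finset.card_erase_add_one hR]
    exact h2.add_one
  obtain ⟨R0v, hR0v⟩ : ∃ v, v ∈ Ω := by
    obtain ⟨d, hd⟩ := hray (Pi.single 0 1) (by simp)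
    exact ⟨_, hd⟩
  let R0 : O := ⟨R0v, hR0v⟩
  have htrans : ∀ P : O, ∃ g : ↥X, g • R0 = P := by
    intro P
    by_contra h
    push Not at h
    let S : Finset O := Finset.univ.filter fun Q => Q ∈ MulAction.orbit ↥X R0
    have hS : ∀ g : ↥X, ∀ Q ∈ S, g • Q ∈ S := by
      intro g Q hQ
      simp only [S, Finset.mem_filter, Finset.mem_univ, true_and] at hQ ⊢
      obtain ⟨k, rfl⟩ := hQ
      exact ⟨g * k, mul_smul _ _ _⟩
    have hP : P ∉ S := by
      simp only [S, Finset.mem_filter, Finset.mem_univ, true_and]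
      rintro ⟨k, hk⟩
      exact h k hk
    have hR : R0 ∈ S := by simp [S, MulAction.mem_orbit_self]
    exact Nat.not_even_iff_odd.2 ((hpar R0 S hS).1 hR) ((hpar P S hS).2 hP)
  have hOodd : Odd (Nat.card O) := by
    rw [Nat.card_eq_fintype_card, ← Finset.card_univ]
    exact (hpar R0 Finset.univ fun _ _ _ => Finset.mem_univ _).1 (Finset.mem_univ _)
  -- the stabiliser is an abelian Sylow 2-subgroup with trivial automiser
  haveI : Fact (Nat.Prime 2) := ⟨Nat.prime_two⟩
  set S := MulAction.stabilizer ↥X R0 with hS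
  have hindex : S.index = Nat.card O := by
    rw [hS, MulAction.index_stabilizer, Set.eq_univ_of_forall (s := MulAction.orbit ↥X R0) htrans,
      Set.ncard_univ]
  have hp : IsPGroup 2 S := fun g => ⟨1, by
    refine Subtype.ext (Subtype.ext (ext_of_mulVec fun v => ?_))
    obtain ⟨γ, hγ⟩ := hstab R0 g.1 g.2
    rw [pow_one, pow_two, Subgroup.coe_mul, Subgroup.coe_mul, Matrix.SpecialLinearGroup.coe_mul,
      ← Matrix.mulVec_mulVec, hγ, hγ, Subgroup.coe_one, Subgroup.coe_one,
      Matrix.SpecialLinearGroup.coe_one, Matrix.one_mulVec]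
    have : det2 R0.1 (v + (γ * det2 R0.1 v) • R0.1) = det2 R0.1 v := by
      simp [det2]; ring
    rw [this, add_assoc, ← add_smul, CharTwo.add_self_eq_zero, zero_smul, add_zero]⟩
  let P2 : Sylow 2 ↥X := hp.toSylow (by
    rw [hindex]; exact fun h => (Nat.not_even_iff_odd.2 hOodd) (even_iff_two_dvd.2 h))
  have hP2 : (P2 : Subgroup ↥X) = S := rfl
  have hcomm2 : ∀ g ∈ S, ∀ k ∈ S, g * k = k * g := by
    intro g hg k hk
    obtain ⟨γ, hγ⟩ := hstab R0 g hg
    obtain ⟨δ, hδ⟩ := hstab R0 k hk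
    refine Subtype.ext (ext_of_mulVec fun v => ?_)
    rw [Subgroup.coe_mul, Subgroup.coe_mul, Matrix.SpecialLinearGroup.coe_mul,
      Matrix.SpecialLinearGroup.coe_mul, ← Matrix.mulVec_mulVec, ← Matrix.mulVec_mulVec,
      hδ, hγ, hγ v, hδ]
    funext i
    simp [det2]
    ring
  have hnz : Subgroup.normalizer ((P2 : Subgroup ↥X) : Set ↥X) ≤
      Subgroup.centralizer ((P2 : Subgroup ↥X) : Set ↥X) := by
    rw [hP2]
    intro g hg
    rw [Subgroup.mem_centralizer_iff]
    intro k hk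
    refine hcomm2 k hk g ?_
    have h1 : g⁻¹ * τ R0 * g ∈ S := by
      have := (Subgroup.mem_normalizer_iff.1 (inv_mem hg) (τ R0)).1 ((hfix R0 R0).2 rfl)
      rwa [inv_inv] at this
    have h2 : τ R0 • g • R0 = g • R0 := by
      have h3 : (g⁻¹ * τ R0 * g) • R0 = R0 := h1
      rw [mul_smul, mul_smul, inv_smul_eq_iff] at h3
      exact h3
    exact (hfix R0 _).1 h2
  set N := (MonoidHom.transferSylow P2 hnz).ker with hN
  have hNnormal : N.Normal := by rw [hN]; infer_instance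
  have hNcard : Nat.card N = Nat.card O := by
    rw [← hindex, ← hP2]
    exact ((MonoidHom.ker_transferSylow_isComplement' P2 hnz).index_eq_card).symm
  have hfree : ∀ n ∈ N, ∀ R : O, n • R = R → n = 1 := by
    intro n hn R h
    obtain ⟨g, hg⟩ := htrans R
    have hm : g⁻¹ * n * g ∈ S := by
      show (g⁻¹ * n * g) • R0 = R0
      rw [mul_smul, mul_smul, hg, h, ← hg, inv_smul_smul]
    have hm' : g⁻¹ * n * g ∈ N := by simpa using hNnormal.conj_mem n hn g⁻¹
    have hd := Subgroup.disjoint_def.1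
      (MonoidHom.ker_transferSylow_isComplement' P2 hnz).disjoint hm' hm
    rw [mul_assoc, inv_mul_eq_one] at hd
    exact (mul_eq_right.1 hd.symm)
  have hNinv : ∀ n ∈ N, τ R0 * n * τ R0 ∈ N := by
    intro n hn
    have h := hNnormal.conj_mem n hn (τ R0)
    rwa [show (τ R0)⁻¹ = τ R0 from inv_eq_of_mul_eq_one_right (hττ R0)] at h
  let φ : ↥N →* ↥N :=
    { toFun := fun n => ⟨τ R0 * n.1 * τ R0, hNinv _ n.2⟩
      map_one' := Subtype.ext (by simp [hττ])
      map_mul' := fun m n => Subtype.ext (by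
        show τ R0 * (m.1 * n.1) * τ R0 = τ R0 * m.1 * τ R0 * (τ R0 * n.1 * τ R0)
        rw [show τ R0 * m.1 * τ R0 * (τ R0 * n.1 * τ R0) =
          τ R0 * m.1 * (τ R0 * τ R0) * n.1 * τ R0 by group, hττ]
        group) }
  have hφ : MonoidHom.FixedPointFree φ := by
    intro n hn
    have h1 : τ R0 * n.1 * τ R0 = n.1 := congrArg Subtype.val hn
    have h2 : τ R0 • n.1 • R0 = n.1 • R0 := by
      conv_rhs => rw [← h1, mul_smul, mul_smul, (hfix R0 R0).2 rfl]
    exact Subtype.ext (hfree _ n.2 R0 ((hfix R0 _).1 h2))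
  have hcomm : ∀ m n : ↥N, Commute m n := hφ.commute_all_of_involutive fun n => Subtype.ext (by
    show τ R0 * (τ R0 * n.1 * τ R0) * τ R0 = n.1
    rw [show τ R0 * (τ R0 * n.1 * τ R0) * τ R0 = (τ R0 * τ R0) * n.1 * (τ R0 * τ R0) by group,
      hττ, one_mul, mul_one])
  have hreg : ∀ P : O, ∃ n ∈ N, n • R0 = P := by
    intro P
    have hinj : Function.Injective fun n : ↥N => n.1 • R0 := by
      intro m n h
      have h1 : (n.1⁻¹ * m.1) • R0 = R0 := by
        rw [mul_smul, show m.1 • R0 = n.1 • R0 from h, inv_smul_smul]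
      exact Subtype.ext (inv_mul_eq_one.1 (hfree _ (mul_mem (inv_mem n.2) m.2) R0 h1)).symm
    obtain ⟨n, hn⟩ := (Nat.bijective_iff_injective_and_card _).2 ⟨hinj, hNcard⟩ |>.2 P
    exact ⟨n.1, n.2, hn⟩
  obtain ⟨h, hh, hh1⟩ : ∃ h ∈ N, h ≠ (1 : ↥X) := by
    obtain ⟨P, hP⟩ : ∃ P : O, τ R0 • P ≠ P := by
      by_contra hall
      push Not at hall
      refine hne1 R0 (Subtype.ext (ext_of_mulVec fun v => ?_))
      by_cases hv : v = 0
      · simp [hv]
      obtain ⟨d, hd⟩ := hray v hv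
      have h1 := congrArg Subtype.val (hall ⟨_, hd⟩)
      rw [hsmul, Matrix.mulVec_smul] at h1
      have hd0 : d ≠ 0 := fun h2 => h0 (by simpa [h2] using hd)
      simpa using (smul_right_injective _ hd0) h1
    obtain ⟨n, hn, hnP⟩ := hreg P
    refine ⟨n, hn, fun h1 => hP ?_⟩
    rw [← hnP, h1, one_smul]; exact (hfix R0 R0).2 rfl
  -- the form
  set H : Matrix (Fin 2) (Fin 2) F := ↑h.1 with hH
  have haniso : ∀ v, v ≠ 0 → det2 v (H *ᵥ v) ≠ 0 := by
    intro v hv hdet
    obtain ⟨d, hd⟩ := hray v hv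
    obtain ⟨e, he⟩ := exists_smul_of_det2_eq_zero hv hdet
    have h1 : H *ᵥ (d • v) = e • (d • v) := by rw [Matrix.mulVec_smul, he, smul_comm]
    have h2 : e • (d • v) ∈ Ω := h1 ▸ h.2 hd
    have h3 : h • (⟨_, hd⟩ : O) = ⟨_, hd⟩ :=
      Subtype.ext (by rw [hsmul, ← hH, h1, huniq _ hd e h2, one_smul])
    exact hh1 (hfree _ hh _ h3)
  set k := det2 R0.1 (H *ᵥ R0.1) with hk
  have hk0 : k ≠ 0 := haniso _ (hne R0)
  have hconst : ∀ v ∈ Ω, det2 v (H *ᵥ v) = k := by
    intro v hv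
    obtain ⟨n, hn, hnv⟩ := hreg ⟨v, hv⟩
    have hv' : (↑n.1 : Matrix (Fin 2) (Fin 2) F) *ᵥ R0.1 = v := congrArg Subtype.val hnv
    have hc' : h * n = n * h := congrArg Subtype.val (hcomm ⟨h, hh⟩ ⟨n, hn⟩)
    have hc'' : H * (↑n.1 : Matrix (Fin 2) (Fin 2) F) = (↑n.1 : Matrix (Fin 2) (Fin 2) F) * H := by
      have := congrArg (fun g : ↥X => (↑g.1 : Matrix (Fin 2) (Fin 2) F)) hc'
      rw [hH]
      simpa using this
    rw [← hv', Matrix.mulVec_mulVec, hc'', ← Matrix.mulVec_mulVec, det2_mulVec, n.1.2, one_mul]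
  have hQ : ∀ v : Fin 2 → F, H 1 0 / k * v 0 * v 0 + (H 1 1 - H 0 0) / k * v 0 * v 1 +
      -H 0 1 / k * v 1 * v 1 = det2 v (H *ᵥ v) / k := by
    intro v
    simp [det2, Matrix.mulVec, dotProduct, Fin.sum_univ_two]
    field_simp
    ring
  refine ⟨H 1 0 / k, (H 1 1 - H 0 0) / k, -H 0 1 / k, ?_, ?_, ?_⟩
  · exact mid_ne_zero fun v hv => by rw [hQ]; exact div_ne_zero (haniso v hv) hk0
  · intro v hv
    rw [hQ]; exact div_ne_zero (haniso v hv) hk0
  · intro v
    rw [hQ, div_eq_one_iff_eq hk0]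
    refine ⟨hconst v, fun hv => ?_⟩
    have hv0 : v ≠ 0 := fun h1 => hk0 (by rw [← hv, h1]; simp [det2])
    obtain ⟨d, hd⟩ := hray v hv0
    have h1 := hconst _ hd
    rw [show det2 (d • v) (H *ᵥ (d • v)) = d * d * det2 v (H *ᵥ v) by
      simp [det2, Matrix.mulVec_smul]; ring, hv] at h1
    have h2 : d * d = 1 := mul_right_cancel₀ hk0 (by rw [h1, one_mul])
    have h3 : d = 1 := CharTwo.sq_injective (R := F) (by simpa [sq] using h2)
    simpa [h3] using hd

end Main

end CfsgLib.SuzukiCircles
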