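import Cfsg.Agent.Characters.Integrality
import Cfsg.Agent.Characters.Generalized

/-!
# Products of two elements of a class; values at involutions
-/

set_option autoImplicit false
set_option linter.unusedSectionVars false
set_option linter.style.haveILetI false

namespace CfsgLib.SuzukiThm

open Cfsg CfsgLib.Characters
open scoped ComplexConjugate

universe u

variable {G : Type u} [Group G] [Fintype G]

/-- The sum of an irreducible character over the products of two elements of a class. -/
theorem sum_class_mul {χ : G → ℂ} (hχ : Cfsg.IsIrrCharacter G χ) (s : G) (C : Finset G)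
    (hC : ∀ g : G, g ∈ C ↔ IsConj g s) :
    (∑ u ∈ C, ∑ v ∈ C, χ (u * v)) * χ 1 = ((C.card : ℂ) * χ s) ^ 2 := by
  classical
  obtain ⟨n, ρ, hρ, rfl⟩ := hχ
  haveI := hρ
  have hconj : ∀ g h : G, h * g * h⁻¹ ∈ C ↔ g ∈ C := fun g h => by
    rw [hC, hC]
    have e : IsConj g (h * g * h⁻¹) := isConj_iff.2 ⟨h, rfl⟩
    exact ⟨e.trans, e.symm.trans⟩
  have hcomm : ∀ (h : G) (x : Fin n → ℂ), (∑ g ∈ C, ρ g) (ρ h x) = ρ h ((∑ g ∈ C, ρ g) x) := by
    intro h x
    simp only [LinearMap.sum_apply, map_sum, ← Module.End.mul_apply, ← map_mul]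
    refine Finset.sum_bij (fun g _ => h⁻¹ * g * h) ?_ ?_ ?_ ?_
    · intro g hg
      simpa using (hconj g h⁻¹).2 hg
    · intro g _ g' _ hgg
      simpa using hgg
    · intro g hg
      exact ⟨h * g * h⁻¹, (hconj g h).2 hg, by group⟩
    · intro g _
      congr 2
      group
  obtain ⟨c, hc⟩ := schur_scalar ρ _ hcomm
  have h1 : (C.card : ℂ) * ρ.character s = c * ρ.character 1 := by
    have ht := congrArg (LinearMap.trace ℂ (Fin n → ℂ)) hc
    rw [trace_smul_id, map_sum] at ht
    rw [Representation.char_one, ← ht]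
    change _ = ∑ g ∈ C, ρ.character g
    rw [Finset.sum_congr rfl (g := fun _ => ρ.character s) (fun g hg =>
      classFunction_isConj (isClassFunction_of_isCharacter (isCharacter_character ρ)) ((hC g).1 hg)),
      Finset.sum_const, nsmul_eq_mul]
  have h2 : ∑ u ∈ C, ∑ v ∈ C, ρ.character (u * v) = c ^ 2 * ρ.character 1 := by
    have ht := congrArg (fun e => LinearMap.trace ℂ (Fin n → ℂ) (e * e)) hc
    simp only [Finset.sum_mul, Finset.mul_sum, ← map_mul, map_sum] at ht
    rw [show (c • LinearMap.id : (Fin n → ℂ) →ₗ[ℂ] (Fin n → ℂ)) * (c • LinearMap.id) =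
      (c ^ 2) • LinearMap.id from LinearMap.ext fun x => by simp [smul_smul, pow_two],
      trace_smul_id] at ht
    rw [Representation.char_one, ← ht, Finset.sum_comm]
    rfl
  rw [h2, h1]
  ring

/-- A character takes integral values at involutions. -/
theorem exists_int_of_involution {χ : G → ℂ} (hχ : Cfsg.IsCharacter G χ) {s : G} (hs : s * s = 1) : ∃ z : ℤ, χ s = z := by
  classical
  obtain ⟨n, ρ, rfl⟩ := hχ
  have hproj : LinearMap.IsProj (LinearMap.range ((2 : ℂ)⁻¹ • (1 + ρ s))) ((2 : ℂ)⁻¹ • (1 + ρ s)) := by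
    refine ⟨fun x => LinearMap.mem_range_self _ x, ?_⟩
    rintro _ ⟨x, rfl⟩
    have h2 : ρ s (ρ s x) = x := by rw [← Module.End.mul_apply, ← map_mul, hs, map_one]; rfl
    simp only [LinearMap.smul_apply, LinearMap.add_apply, Module.End.one_apply, map_smul, map_add, h2]
    module
  refine ⟨2 * Module.finrank ℂ (LinearMap.range ((2 : ℂ)⁻¹ • (1 + ρ s))) - n, ?_⟩
  have ht := hproj.trace
  rw [map_smul, map_add, LinearMap.trace_one, Module.finrank_fin_fun] at ht
  change (2 : ℂ)⁻¹ • ((n : ℂ) + ρ.character s) = _ at ht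
  rw [smul_eq_mul] at ht
  push_cast
  linear_combination 2 * ht

end CfsgLib.SuzukiThm
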