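import Cfsg.Agent.SuzukiTheorem.InducedQ
import Cfsg.Agent.Coherence.Irr

/-!
# The coherent images of a family and their values at an involution
-/

set_option autoImplicit false
set_option linter.unusedSectionVars false
set_option linter.style.haveILetI false

namespace CfsgLib.SuzukiThm

open Cfsg CfsgLib CfsgLib.Characters CfsgLib.Coherence
open scoped ComplexConjugate Classical

universe u v

variable {G : Type u} {Ω : Type v} [Group G] [MulAction G Ω] [Fintype G] {a : Ω} {t : G} {Q : Subgroup G}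

namespace Frame

variable (P : Frame a t Q)

/-- Induction from `G_a` to `G` as a linear map. -/
noncomputable def indG (_P : Frame a t Q) :
    (↥(MulAction.stabilizer G a) → ℂ) →ₗ[ℂ] (G → ℂ) where
  toFun α := indFun (MulAction.stabilizer G a) α
  map_add' α β := Characters.indFun_add _ α β
  map_smul' c α := Characters.indFun_smul _ c α

/-- The induced members of one base. -/
noncomputable def baseSet (Φ : Finset (Cfsg.IrrCharacter ↥Q)) (base : Cfsg.IrrCharacter ↥Q → ℕ) (b : ℕ) :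
    Finset (↥(MulAction.stabilizer G a) → ℂ) :=
  (Φ.filter fun φ => base φ = b).image fun φ => P.indB φ.1

variable {Φ : Finset (Cfsg.IrrCharacter ↥Q)} {base : Cfsg.IrrCharacter ↥Q → ℕ} (h : CharFamily P Φ base)
include h

theorem baseSet_spec {b : ℕ} {θ : ↥(MulAction.stabilizer G a) → ℂ} (hθ : θ ∈ P.baseSet Φ base b) :
    ∃ φ ∈ Φ, base φ = b ∧ θ = P.indB φ.1 := by
  obtain ⟨φ, hφ, rfl⟩ := Finset.mem_image.1 hθ
  exact ⟨φ, (Finset.mem_filter.1 hφ).1, (Finset.mem_filter.1 hφ).2, rfl⟩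

theorem baseSet_irr (b : ℕ) : ∀ θ ∈ P.baseSet Φ base b, IsIrrCharacter ↥(MulAction.stabilizer G a) θ :=
  fun θ hθ => by
    obtain ⟨φ, hφ, -, rfl⟩ := P.baseSet_spec h hθ
    exact P.indB_irr (h.regular φ hφ)

theorem isom_indG {S : Finset (↥(MulAction.stabilizer G a) → ℂ)}
    (hS : ∀ θ ∈ S, ∃ φ ∈ Φ, θ = P.indB φ.1) : Isom (↑S : Set (↥(MulAction.stabilizer G a) → ℂ)) P.indG := by
  obtain ⟨hTI, hN⟩ := P.isTI_Q
  obtain ⟨⟨-, -, hin, hgen⟩, hone⟩ := ti_isometry hTI hN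
  have hsub : (↑S : Set (↥(MulAction.stabilizer G a) → ℂ)) ⊆
      inducedIrrAbove (Q.subgroupOf (MulAction.stabilizer G a)) ⊥ := fun θ hθ => by
    obtain ⟨φ, hφ, rfl⟩ := hS θ hθ
    exact P.indB_mem_above (h.regular φ hφ)
  exact ⟨fun α hα => hgen α (zspanOn_mono hsub _ hα),
    fun α hα β hβ => hin α (zspanOn_mono hsub _ hα) β (zspanOn_mono hsub _ hβ),
    fun α hα => hone α (zspanOn_mono hsub _ hα)⟩

theorem deg_indB {φ : Cfsg.IrrCharacter ↥Q} (hφ : φ ∈ Φ) :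
    ∃ e : ℕ, φ.1 1 = (e : ℂ) * base φ ∧ P.indB φ.1 1 = ((Nat.card ↥(pairD G a t) * e * base φ : ℕ) : ℂ) ∧
      0 < e ∧ 0 < base φ ∧ (e = 1 ∨ (2 * e + 1) * Nat.card ↥(pairD G a t) <
        Nat.card {ψ : Cfsg.IrrCharacter ↥Q // ψ ∈ Φ ∧ base ψ = base φ ∧ TrivE P ψ.1}) := by
  obtain ⟨e, he, he'⟩ := h.deg φ hφ
  obtain ⟨m, hm0, hm⟩ := exists_degree_pos φ.2
  have hem : e * base φ = m := by exact_mod_cast he.symm.trans hm
  refine ⟨e, he, ?_, ?_, ?_, he'⟩
  · rw [P.indB_one (isClassFunction_of_isIrr φ.2), he]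
    push_cast
    ring
  · exact Nat.pos_of_ne_zero fun h0 => by rw [h0, zero_mul] at hem; omega
  · exact Nat.pos_of_ne_zero fun h0 => by rw [h0, mul_zero] at hem; omega

/-- The characters of one base are coherent. -/
theorem exists_ext (b : ℕ) : ∃ f, IsExt (P.baseSet Φ base b) P.indG f := by
  rcases (P.baseSet Φ base b).eq_empty_or_nonempty with hS | ⟨θ₀, hθ₀⟩
  · rw [hS]
    exact ⟨fun _ => 0, fun χ hχ => absurd hχ (Finset.notMem_empty χ),
      fun χ hχ => absurd hχ (Finset.notMem_empty χ), fun χ hχ => absurd hχ (Finset.notMem_empty χ)⟩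
  obtain ⟨φ₀, hφ₀, hb₀, -⟩ := P.baseSet_spec h hθ₀
  obtain ⟨φ₁, hφ₁, hb₁, hE₁⟩ := h.hasF1 φ₀ hφ₀
  set S := P.baseSet Φ base b with hS
  set δ := Nat.card ↥(pairD G a t) with hδ
  set U := S.filter fun θ => θ 1 = ((δ * b : ℕ) : ℂ) with hU
  have hb : base φ₁ = b := hb₁.trans hb₀
  have hdeg1 : ∀ ψ ∈ Φ, base ψ = b → TrivE P ψ.1 → P.indB ψ.1 ∈ U := by
    intro ψ hψ hψb hψE
    refine Finset.mem_filter.2 ⟨Finset.mem_image.2 ⟨ψ, Finset.mem_filter.2 ⟨hψ, hψb⟩, rfl⟩, ?_⟩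
    rw [P.indB_one (isClassFunction_of_isIrr ψ.2), h.triv_deg ψ hψ hψE, hψb]
    push_cast
    rfl
  have hψU : P.indB φ₁.1 ∈ U := hdeg1 φ₁ hφ₁ hb hE₁
  have hisom := P.isom_indG h (S := S) fun θ hθ => by
    obtain ⟨φ, hφ, -, e⟩ := P.baseSet_spec h hθ
    exact ⟨φ, hφ, e⟩
  have hsub : U ⊆ S := Finset.filter_subset _ _
  suffices key : ∀ X : Finset (↥(MulAction.stabilizer G a) → ℂ), X ⊆ S → ∃ f, IsExt (U ∪ X) P.indG f by
    obtain ⟨f, hf⟩ := key S le_rfl
    rw [Finset.union_eq_right.2 hsub] at hf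
    exact ⟨f, hf⟩
  intro X
  induction X using Finset.induction_on with
  | empty =>
    intro _
    rw [Finset.union_empty]
    exact uniform_irr (fun θ hθ => P.baseSet_irr h b θ (hsub hθ)) (hisom.mono (Finset.coe_subset.2 hsub))
      fun φ hφ ψ hψ => (Finset.mem_filter.1 hφ).2.trans (Finset.mem_filter.1 hψ).2.symm
  | insert χ X hχX ih =>
    intro hX
    obtain ⟨hχS, hXS⟩ := Finset.insert_subset_iff.1 hX
    obtain ⟨f, hf⟩ := ih hXS
    rw [Finset.union_insert]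
    by_cases hχ : χ ∈ U ∪ X
    · rw [Finset.insert_eq_of_mem hχ]
      exact ⟨f, hf⟩
    have hall : insert χ (U ∪ X) ⊆ S := Finset.insert_subset hχS (Finset.union_subset hsub hXS)
    obtain ⟨φ, hφ, hφb, rfl⟩ := P.baseSet_spec h hχS
    obtain ⟨e, -, he, -, hb0, he'⟩ := P.deg_indB h hφ
    have hψ1 : P.indB φ₁.1 1 = ((δ * b : ℕ) : ℂ) := (Finset.mem_filter.1 hψU).2
    refine feit_extend (fun θ hθ => P.baseSet_irr h b θ (hall hθ)) hχ
      (hisom.mono (Finset.coe_subset.2 hall)) hf (Finset.mem_union_left _ hψU)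
      ⟨e, by rw [he, hψ1, hφb]; push_cast; ring⟩ ?_
    rcases he' with rfl | hlt
    · exfalso
      refine hχ (Finset.mem_union_left _ (Finset.mem_filter.2 ⟨hχS, ?_⟩))
      rw [he, hφb, mul_one]
    have hcard : Nat.card {ψ : Cfsg.IrrCharacter ↥Q // ψ ∈ Φ ∧ base ψ = base φ ∧ TrivE P ψ.1} ≤ δ * U.card := by
      rw [Nat.card_eq_fintype_card, Fintype.card_subtype]
      set F := Finset.univ.filter fun ψ : Cfsg.IrrCharacter ↥Q => ψ ∈ Φ ∧ base ψ = base φ ∧ TrivE P ψ.1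
      refine (Finset.card_le_mul_card_image F δ fun θ _ => ?_).trans (Nat.mul_le_mul_left _
        (Finset.card_le_card (s := F.image fun ψ => P.indB ψ.1) (t := U) ?_))
      · rcases (F.filter fun ψ => P.indB ψ.1 = θ).eq_empty_or_nonempty with hE | ⟨ψ₀, hψ₀⟩
        · rw [hE]; exact Nat.zero_le _
        rw [hδ, Nat.card_eq_fintype_card, ← Finset.card_univ]
        refine (Finset.card_le_card (t := (Finset.univ : Finset ↥(pairD G a t)).image fun d =>
          (⟨conjD P d ψ₀.1, ?_⟩ : Cfsg.IrrCharacter ↥Q)) ?_).trans Finset.card_image_le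
        · exact CfsgLib.OddOrderChar.isIrrCharacter_comp_equiv
            (conjAut Q (fun c hc x hx => RankOne.D_norm_Q P.hS hc hx) d) ψ₀.2
        · intro ψ hψ
          obtain ⟨d, hd⟩ := P.eq_conjD_of_indB_eq ((Finset.mem_filter.1 hψ).2.trans (Finset.mem_filter.1 hψ₀).2.symm)
          exact Finset.mem_image.2 ⟨d, Finset.mem_univ _, Subtype.ext hd.symm⟩
      · intro θ hθ
        obtain ⟨ψ, hψ, rfl⟩ := Finset.mem_image.1 hθ
        obtain ⟨h1, h2, h3⟩ := (Finset.mem_filter.1 hψ).2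
        exact hdeg1 ψ h1 (h2.trans hφb) h3
    have hδ0 : 0 < δ := Nat.card_pos
    have hUc : 2 * e + 1 < U.card := Nat.lt_of_mul_lt_mul_left (a := δ)
      ((mul_comm δ _).trans_lt (hlt.trans_le hcard))
    have hsum : (U.card : ℝ) * ((δ * b : ℕ) : ℝ) ^ 2 ≤ ∑ θ ∈ U ∪ X, (θ 1).re ^ 2 := by
      refine le_trans (le_of_eq ?_) (Finset.sum_le_sum_of_subset_of_nonneg Finset.subset_union_left
        fun _ _ _ => sq_nonneg _)
      rw [Finset.sum_congr rfl (g := fun _ => ((δ * b : ℕ) : ℝ) ^ 2) (fun θ hθ => by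
        rw [(Finset.mem_filter.1 hθ).2, Complex.natCast_re]), Finset.sum_const, nsmul_eq_mul]
    rw [he, hψ1, Complex.natCast_re, Complex.natCast_re, hφb]
    refine lt_of_lt_of_le ?_ hsum
    have h1 : (2 * e + 1 : ℝ) < U.card := by exact_mod_cast hUc
    have h2 : (0 : ℝ) < ((δ * b : ℕ) : ℝ) := by
      have : 0 < δ * b := Nat.mul_pos hδ0 (hφb ▸ hb0)
      exact_mod_cast this
    have h3 := mul_lt_mul_of_pos_right h1 (pow_pos h2 2)
    push_cast at h3 ⊢
    nlinarith [sq_nonneg ((δ : ℝ) * b)]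

end Frame

end CfsgLib.SuzukiThm
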