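import Cfsg.Agent.SuzukiTheorem.Pairs

/-!
# The family of the regular pairs `π ⊗ ψ`
-/

set_option autoImplicit false
set_option linter.unusedSectionVars false
set_option linter.style.haveILetI false

namespace CfsgLib.SuzukiThm

open Cfsg CfsgLib CfsgLib.Characters
open scoped ComplexConjugate Classical

universe u v

variable {G : Type u} {Ω : Type v} [Group G] [MulAction G Ω] [Finite G] {a : Ω} {t : G} {Q : Subgroup G}
  {P : Frame a t Q}

namespace Split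

variable (S : Split P)

/-- The pairs with non-principal `ψ` and trivial stabiliser. -/
noncomputable def regPairs : Finset (Cfsg.IrrCharacter ↥S.T × Cfsg.IrrCharacter ↥S.O) :=
  Finset.univ.filter fun x => x.2 ≠ irrOne ∧ S.Reg x.1 x.2

/-- The family. -/
noncomputable def fam : Finset (Cfsg.IrrCharacter ↥Q) :=
  S.regPairs.image fun x => pairIrr S.equiv x.1 x.2

/-- The degree of the factor in `O`. -/
noncomputable def famBase (φ : Cfsg.IrrCharacter ↥Q) : ℕ :=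
  if h : ∃ x : Cfsg.IrrCharacter ↥S.T × Cfsg.IrrCharacter ↥S.O, pairIrr S.equiv x.1 x.2 = φ then
    ⌊(h.choose.2.1 1).re⌋₊ else 0

theorem mem_regPairs {π : Cfsg.IrrCharacter ↥S.T} {ψ : Cfsg.IrrCharacter ↥S.O} :
    (π, ψ) ∈ S.regPairs ↔ ψ ≠ irrOne ∧ S.Reg π ψ := by simp [regPairs]

theorem pair_mem_fam {π : Cfsg.IrrCharacter ↥S.T} {ψ : Cfsg.IrrCharacter ↥S.O} (hψ : ψ ≠ irrOne)
    (h : S.Reg π ψ) : pairIrr S.equiv π ψ ∈ S.fam :=
  Finset.mem_image.2 ⟨(π, ψ), S.mem_regPairs.2 ⟨hψ, h⟩, rfl⟩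

theorem exists_of_mem_fam {φ : Cfsg.IrrCharacter ↥Q} (hφ : φ ∈ S.fam) :
    ∃ π ψ, ψ ≠ irrOne ∧ S.Reg π ψ ∧ φ = pairIrr S.equiv π ψ := by
  obtain ⟨⟨π, ψ⟩, hx, rfl⟩ := Finset.mem_image.1 hφ
  exact ⟨π, ψ, (S.mem_regPairs.1 hx).1, (S.mem_regPairs.1 hx).2, rfl⟩

theorem famBase_eq (π : Cfsg.IrrCharacter ↥S.T) (ψ : Cfsg.IrrCharacter ↥S.O) :
    (S.famBase (pairIrr S.equiv π ψ) : ℂ) = ψ.1 1 := by
  have h : ∃ x : Cfsg.IrrCharacter ↥S.T × Cfsg.IrrCharacter ↥S.O,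
      pairIrr S.equiv x.1 x.2 = pairIrr S.equiv π ψ := ⟨(π, ψ), rfl⟩
  rw [famBase, dif_pos h, (pairIrr_injective S.equiv h.choose_spec).2]
  obtain ⟨n, -, hn, hn'⟩ := degree_re_eq ψ
  rw [hn', hn, Nat.floor_natCast]

theorem famBase_eq_iff {π π' : Cfsg.IrrCharacter ↥S.T} {ψ ψ' : Cfsg.IrrCharacter ↥S.O} :
    S.famBase (pairIrr S.equiv π ψ) = S.famBase (pairIrr S.equiv π' ψ') ↔ ψ.1 1 = ψ'.1 1 := by
  rw [← S.famBase_eq π ψ, ← S.famBase_eq π' ψ', Nat.cast_inj]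

theorem conj_pair_mem {π : Cfsg.IrrCharacter ↥S.T} {ψ : Cfsg.IrrCharacter ↥S.O} (hψ : ψ ≠ irrOne)
    (h : S.Reg π ψ) (d : ↥(pairD G a t)) :
    pairIrr S.equiv (irrConj (S.autT d) π) (irrConj (S.autO d) ψ) ∈ S.fam :=
  S.pair_mem_fam (fun e => hψ ((irrConj_eq_one_iff _ _).1 e)) (h.conj S d)

/-- The stabilisers of a character and of its conjugate. -/
theorem reg_conjFun {π : Cfsg.IrrCharacter ↥S.T} {ψ ψ' : Cfsg.IrrCharacter ↥S.O} (h : S.Reg π ψ)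
    (h' : ψ'.1 = Cfsg.conjFun ψ.1) : S.Reg π ψ' := by
  intro d hT hO
  refine h d hT (Subtype.ext (funext fun x => ?_))
  have h1 := congrFun (congrArg Subtype.val hO) x
  rw [irrConj_val, h'] at h1
  exact (starRingEnd ℂ).injective h1

theorem conjFun_ne_one {ψ ψ' : Cfsg.IrrCharacter ↥S.O} (hψ : ψ ≠ irrOne) (h' : ψ'.1 = Cfsg.conjFun ψ.1) :
    ψ' ≠ irrOne ∧ ψ'.1 1 = ψ.1 1 := by
  constructor
  · intro e
    refine hψ (Subtype.ext (funext fun x => ?_))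
    have h1 : conj (ψ.1 x) = 1 := by
      have := congrFun (h'.symm.trans (congrArg Subtype.val e)) x
      exact this
    rw [← Complex.conj_conj (ψ.1 x), h1, map_one]
    rfl
  · obtain ⟨n, -, hn, -⟩ := degree_re_eq ψ
    rw [h']
    show conj (ψ.1 1) = ψ.1 1
    rw [hn, map_natCast]

/-- Translating trivial-on-`E` characters and the two conjugate characters of `O` gives many members. -/
theorem card_trivE_mem {π : Cfsg.IrrCharacter ↥S.T} {ψ : Cfsg.IrrCharacter ↥S.O} (hψ : ψ ≠ irrOne)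
    (s : Finset (Cfsg.IrrCharacter ↥S.T)) (hs : ∀ π' ∈ s, S.TrivT π' ∧ S.Reg π' ψ) :
    2 * s.card * Nat.card ↥(pairD G a t) ≤ Nat.card ↥(S.stabO ψ) *
      Nat.card {φ : Cfsg.IrrCharacter ↥Q // φ ∈ S.fam ∧
        S.famBase φ = S.famBase (pairIrr S.equiv π ψ) ∧ TrivE P φ.1} := by
  haveI := Fintype.ofFinite ↥(pairD G a t)
  obtain ⟨ψc, hψc⟩ := exists_irr_conjFun ψ
  set pick : Bool → Cfsg.IrrCharacter ↥S.O := fun b => if b then ψc else ψ with hpick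
  have hpick1 : ∀ b, pick b ≠ irrOne ∧ (pick b).1 1 = ψ.1 1 := fun b => by
    cases b
    · exact ⟨hψ, rfl⟩
    · exact S.conjFun_ne_one hψ hψc
  set Z := s ×ˢ ((Finset.univ : Finset ↥(pairD G a t)) ×ˢ (Finset.univ : Finset Bool)) with hZ
  set g : Cfsg.IrrCharacter ↥S.T × (↥(pairD G a t) × Bool) → Cfsg.IrrCharacter ↥Q := fun z =>
    pairIrr S.equiv (irrConj (S.autT z.2.1) z.1) (irrConj (S.autO z.2.1) (pick z.2.2)) with hg
  set Tg := Finset.univ.filter fun φ : Cfsg.IrrCharacter ↥Q => φ ∈ S.fam ∧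
    S.famBase φ = S.famBase (pairIrr S.equiv π ψ) ∧ TrivE P φ.1 with hTg
  have himg : Z.image g ⊆ Tg := by
    intro φ hφ
    obtain ⟨⟨π', d, b⟩, hz, rfl⟩ := Finset.mem_image.1 hφ
    have hπ' := hs π' (Finset.mem_product.1 hz).1
    have hreg : S.Reg π' (pick b) := by
      cases b
      · exact hπ'.2
      · exact S.reg_conjFun hπ'.2 hψc
    refine Finset.mem_filter.2 ⟨Finset.mem_univ _, S.conj_pair_mem (hpick1 b).1 hreg d, ?_,
      (S.trivE_pair _ _).2 (S.trivT_conj hπ'.1 d)⟩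
    rw [S.famBase_eq_iff, irrConj_degree, (hpick1 b).2]
  have hfib : ∀ φ ∈ Z.image g, (Z.filter fun z => g z = φ).card ≤ Nat.card ↥(S.stabO ψ) := by
    intro φ hφ
    obtain ⟨⟨π₀, d₀, b₀⟩, hz₀, rfl⟩ := Finset.mem_image.1 hφ
    haveI := Fintype.ofFinite ↥(S.stabO ψ)
    rw [Nat.card_eq_fintype_card, ← Finset.card_univ]
    have key : ∀ z ∈ Z.filter (fun z => g z = g (π₀, d₀, b₀)), z.2.1 * d₀⁻¹ ∈ S.stabO ψ ∧
        z.2.2 = b₀ ∧ irrConj (S.autT z.2.1) z.1 = irrConj (S.autT d₀) π₀ := by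
      rintro ⟨π₁, d₁, b₁⟩ hz
      obtain ⟨h1, h2⟩ := pairIrr_injective S.equiv (Finset.mem_filter.1 hz).2
      have h3 : irrConj (S.autO (d₁ * d₀⁻¹)) (pick b₁) = pick b₀ := by
        rw [map_mul, ← irrConj_irrConj, h2, irrConj_irrConj, ← map_mul, mul_inv_cancel, map_one]
        rfl
      have hcc : ∀ c, irrConj (S.autO c) ψc = ψc → irrConj (S.autO c) ψ = ψ := fun c hc =>
        Subtype.ext (funext fun x => by
          have h4 := congrFun (congrArg Subtype.val hc) x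
          rw [irrConj_val, hψc] at h4
          exact (starRingEnd ℂ).injective h4)
      refine ⟨?_, ?_, h1⟩
      · cases b₁ <;> cases b₀
        · exact h3
        · exact absurd h3 (S.conj_not_mem_orbit hψ hψc _)
        · refine absurd ?_ (S.conj_not_mem_orbit hψ hψc (d₁ * d₀⁻¹)⁻¹)
          conv_lhs => rw [show ψ = pick false from rfl, ← h3]
          rw [irrConj_irrConj, ← map_mul, mul_inv_cancel, map_one]
          rfl
        · exact hcc _ h3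
      · cases b₁ <;> cases b₀
        · rfl
        · exact absurd h3 (S.conj_not_mem_orbit hψ hψc _)
        · refine absurd ?_ (S.conj_not_mem_orbit hψ hψc (d₁ * d₀⁻¹)⁻¹)
          conv_lhs => rw [show ψ = pick false from rfl, ← h3]
          rw [irrConj_irrConj, ← map_mul, mul_inv_cancel, map_one]
          rfl
        · rfl
    refine Finset.card_le_card_of_injOn
      (fun z => if h : z.2.1 * d₀⁻¹ ∈ S.stabO ψ then (⟨_, h⟩ : ↥(S.stabO ψ)) else 1)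
      (fun z _ => Finset.mem_univ _) ?_
    rintro ⟨π₁, d₁, b₁⟩ hz₁ ⟨π₂, d₂, b₂⟩ hz₂ h
    obtain ⟨k1, hb1, e1⟩ := key _ hz₁
    obtain ⟨k2, hb2, e2⟩ := key _ hz₂
    simp only [dif_pos k1, dif_pos k2, Subtype.mk.injEq, mul_left_inj] at h
    obtain rfl : d₁ = d₂ := h
    obtain rfl : b₁ = b₂ := hb1.trans hb2.symm
    obtain rfl : π₁ = π₂ := irrConj_injective _ (e1.trans e2.symm)
    rfl
  have hmain : Z.card ≤ Nat.card ↥(S.stabO ψ) * Tg.card :=
    (Finset.card_le_mul_card_image Z _ hfib).trans (Nat.mul_le_mul le_rfl (Finset.card_le_card himg))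
  have hT : Nat.card {φ : Cfsg.IrrCharacter ↥Q // φ ∈ S.fam ∧
      S.famBase φ = S.famBase (pairIrr S.equiv π ψ) ∧ TrivE P φ.1} = Tg.card := by
    rw [hTg, Nat.card_eq_fintype_card, Fintype.card_subtype]
  rw [hT]
  refine le_trans (le_of_eq ?_) hmain
  rw [hZ, Finset.card_product, Finset.card_product, Finset.card_univ, Finset.card_univ,
    Fintype.card_bool, Nat.card_eq_fintype_card]
  ring

/-- The family satisfies the hypotheses of the character bound. -/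
theorem charFamily_fam [FaithfulSMul G Ω] (hS : S.Stabs)
    (hlin : ∀ π, S.TrivT π → π.1 1 = 1)
    (hF1 : ∀ ψ : Cfsg.IrrCharacter ↥S.O, ψ ≠ irrOne → ∃ π ψ', ψ' ≠ irrOne ∧ ψ'.1 1 = ψ.1 1 ∧
      S.TrivT π ∧ S.Reg π ψ')
    (hdeg : ∀ π ψ, ψ ≠ irrOne → S.Reg π ψ → π.1 1 = 1 ∨ ∃ (e : ℕ) (s : Finset (Cfsg.IrrCharacter ↥S.T)),
      π.1 1 = e ∧ (∀ π' ∈ s, S.TrivT π' ∧ S.Reg π' ψ) ∧
        (2 * e + 1) * Nat.card ↥(S.stabO ψ) < 2 * s.card) :
    CharFamily P S.fam S.famBase := by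
  refine ⟨?_, ?_, ?_, ?_, ?_, ?_, ?_⟩
  · intro φ hφ d hd
    obtain ⟨π, ψ, -, hreg, rfl⟩ := S.exists_of_mem_fam hφ
    rw [S.conjD_pair] at hd
    obtain ⟨h1, h2⟩ := pairIrr_injective S.equiv (Subtype.ext hd)
    exact hreg d h1 h2
  · intro φ hφ d φ' h'
    obtain ⟨π, ψ, hψ, hreg, rfl⟩ := S.exists_of_mem_fam hφ
    rw [S.conjD_pair] at h'
    rw [Subtype.ext h']
    exact ⟨S.conj_pair_mem hψ hreg d, S.famBase_eq_iff.2 (irrConj_degree _ _)⟩
  · intro φ hφ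
    obtain ⟨π, ψ, hψ, hreg, rfl⟩ := S.exists_of_mem_fam hφ
    obtain ⟨ψc, hψc⟩ := exists_irr_conjFun ψ
    obtain ⟨hc1, hc2⟩ := S.conjFun_ne_one hψ hψc
    refine ⟨_, S.pair_mem_fam hc1 (S.reg_conjFun hreg hψc), S.famBase_eq_iff.2 hc2, ?_, fun d h => ?_⟩
    · rw [S.pair_degree, S.pair_degree, hc2]
    · rw [S.conjD_pair] at h
      exact S.conj_not_mem_orbit hψ hψc d (pairIrr_injective S.equiv (Subtype.ext h)).2.symm
  · intro φ hφ hE
    obtain ⟨π, ψ, -, -, rfl⟩ := S.exists_of_mem_fam hφ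
    rw [S.pair_degree, S.famBase_eq, hlin π ((S.trivE_pair π ψ).1 hE), one_mul]
  · intro φ hφ
    obtain ⟨π, ψ, hψ, -, rfl⟩ := S.exists_of_mem_fam hφ
    obtain ⟨π', ψ', hψ', hdeg', hE, hreg'⟩ := hF1 ψ hψ
    exact ⟨_, S.pair_mem_fam hψ' hreg', S.famBase_eq_iff.2 hdeg', (S.trivE_pair π' ψ').2 hE⟩
  · intro φ hφ
    obtain ⟨π, ψ, hψ, -, rfl⟩ := S.exists_of_mem_fam hφ
    obtain ⟨π₀, hπ₀⟩ := S.exists_not_trivT
    obtain ⟨c, hc⟩ := S.exists_reg hS hψ (π₀ := π₀) (fun e => hπ₀ (e ▸ S.trivT_one))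
    refine ⟨_, S.pair_mem_fam hψ hc, S.famBase_eq_iff.2 rfl, fun h => hπ₀ ?_⟩
    have h1 := S.trivT_conj ((S.trivE_pair _ _).1 h) c⁻¹
    rwa [irrConj_irrConj, ← map_mul, mul_inv_cancel, map_one, irrConj_one] at h1
  · intro φ hφ
    obtain ⟨π, ψ, hψ, hreg, rfl⟩ := S.exists_of_mem_fam hφ
    rcases hdeg π ψ hψ hreg with h | ⟨e, s, he, hs, hlt⟩
    · exact ⟨1, by rw [S.pair_degree, S.famBase_eq, h, Nat.cast_one], Or.inl rfl⟩
    refine ⟨e, by rw [S.pair_degree, S.famBase_eq, he], Or.inr ?_⟩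
    have h1 := S.card_trivE_mem (π := π) hψ s hs
    refine Nat.lt_of_mul_lt_mul_left (a := Nat.card ↥(S.stabO ψ)) (lt_of_lt_of_le ?_ h1)
    calc Nat.card ↥(S.stabO ψ) * ((2 * e + 1) * Nat.card ↥(pairD G a t))
        = (2 * e + 1) * Nat.card ↥(S.stabO ψ) * Nat.card ↥(pairD G a t) := by ring
      _ < 2 * s.card * Nat.card ↥(pairD G a t) := Nat.mul_lt_mul_of_pos_right hlt Nat.card_pos

/-- The mass of the family. -/
theorem sum_fam : ∑ φ ∈ S.fam, (φ.1 1).re ^ 2 =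
    ∑ ψ ∈ Finset.univ.filter (fun ψ : Cfsg.IrrCharacter ↥S.O => ψ ≠ irrOne),
      (ψ.1 1).re ^ 2 * ∑ π ∈ Finset.univ.filter (fun π => S.Reg π ψ), (π.1 1).re ^ 2 := by
  rw [fam, Finset.sum_image (fun x _ y _ h => Prod.ext (pairIrr_injective S.equiv h).1
    (pairIrr_injective S.equiv h).2), regPairs, Finset.sum_filter, Fintype.sum_prod_type_right,
    Finset.sum_filter]
  refine Finset.sum_congr rfl fun ψ _ => ?_
  by_cases hψ : ψ = irrOne
  · simp [hψ]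
  rw [if_pos hψ, Finset.mul_sum, Finset.sum_filter]
  refine Finset.sum_congr rfl fun π _ => ?_
  obtain ⟨n, -, hn, hn'⟩ := degree_re_eq π
  obtain ⟨m, -, hm, hm'⟩ := degree_re_eq ψ
  simp only [ne_eq, hψ, not_false_eq_true, true_and]
  split_ifs
  · rw [S.pair_degree, hn, hm, ← Nat.cast_mul, Complex.natCast_re]
    simp only [Complex.natCast_re]
    push_cast
    ring
  · rfl

end Split

end CfsgLib.SuzukiThm
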