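import Cfsg.Agent.Coherence.Virtual
import Cfsg.Agent.Coherence.Inner

/-!
# Coherence for a family with one pivot

Given generalised characters `T φ` vanishing at `1` with the inner products of `φ - e φ • φ₁`, where the
members with `e = 1` are numerous compared to the others, there are irreducible characters `ξ φ` and a sign
`ε` with `T φ = ε • (ξ φ - e φ • ξ φ₁)`.
-/

set_option autoImplicit false
set_option linter.unusedSectionVars false

namespace CfsgLib.SuzukiThm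

open Cfsg CfsgLib.Characters CfsgLib.Coherence
open scoped Classical

universe u

variable {G : Type u} [Group G] [Fintype G] {ι : Type*}

/-- The indicator of a relation. -/
noncomputable def ind (rel : ι → ι → Prop) (φ ψ : ι) : ℂ := if rel φ ψ then 1 else 0

theorem ci_irr_eq {μ ν : G → ℂ} (hμ : IsIrrCharacter G μ) (hν : IsIrrCharacter G ν) :
    classInner μ ν = if μ = ν then 1 else 0 := by
  split_ifs with h
  · rw [h]; exact classInner_isIrr_self hν
  · exact classInner_isIrr_ne hμ hν h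

/-- The inner product of two differences of irreducible characters. -/
theorem ci_diff {P M P' M' : G → ℂ} (hP : IsIrrCharacter G P) (hM : IsIrrCharacter G M)
    (hP' : IsIrrCharacter G P') (hM' : IsIrrCharacter G M') :
    classInner (P - M) (P' - M') = (if P = P' then 1 else 0) - (if P = M' then 1 else 0)
      - (if M = P' then 1 else 0) + (if M = M' then 1 else 0) := by
  rw [ci_sub_left, ci_sub_right, ci_sub_right, ci_irr_eq hP hP', ci_irr_eq hP hM', ci_irr_eq hM hP',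
    ci_irr_eq hM hM']
  ring

theorem diff_inner_one {P M P' M' : G → ℂ} (hP : IsIrrCharacter G P) (hM : IsIrrCharacter G M)
    (hP' : IsIrrCharacter G P') (hM' : IsIrrCharacter G M') (h : classInner (P - M) (P' - M') = 1) :
    P = P' ∨ M = M' := by
  rw [ci_diff hP hM hP' hM'] at h
  by_contra hne
  push Not at hne
  rw [if_neg hne.1, if_neg hne.2] at h
  split_ifs at h <;> norm_num at h

theorem diff_inner_two {P M P' M' : G → ℂ} (hP : IsIrrCharacter G P) (hM : IsIrrCharacter G M)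
    (hP' : IsIrrCharacter G P') (hM' : IsIrrCharacter G M') (h : classInner (P - M) (P' - M') = 2) :
    P = P' ∧ M = M' := by
  rw [ci_diff hP hM hP' hM'] at h
  by_contra hne
  rw [not_and_or] at hne
  rcases hne with hne | hne <;> rw [if_neg hne] at h <;> split_ifs at h <;> norm_num at h

/-- The data of the lifting problem. -/
structure LiftData (U : Finset ι) (rel : ι → ι → Prop) (e : ι → ℕ) (φ₁ : ι) (T : ι → G → ℂ) : Prop where
  mem : φ₁ ∈ U
  equiv : Equivalence rel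
  e_one : e φ₁ = 1
  e_pos : ∀ φ ∈ U, 0 < e φ
  e_rel : ∀ φ ∈ U, ∀ ψ ∈ U, rel φ ψ → e φ = e ψ
  gen : ∀ φ ∈ U, IsGeneralizedCharacter G (T φ)
  at_one : ∀ φ ∈ U, T φ 1 = 0
  inner : ∀ φ ∈ U, ∀ ψ ∈ U, classInner (T φ) (T ψ) =
    ind rel φ ψ - (e ψ : ℂ) * ind rel φ φ₁ - (e φ : ℂ) * ind rel φ₁ ψ + (e φ : ℂ) * (e ψ : ℂ)
  two : ∃ ψ ∈ U, e ψ = 1 ∧ ¬ rel ψ φ₁
  many : ∀ φ ∈ U, e φ ≠ 1 → ∃ R : Finset ι, R ⊆ U ∧ φ₁ ∈ R ∧ (∀ r ∈ R, e r = 1) ∧
    (∀ r ∈ R, ∀ r' ∈ R, rel r r' → r = r') ∧ 2 * e φ + 1 < R.card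

variable {U : Finset ι} {rel : ι → ι → Prop} {e : ι → ℕ} {φ₁ : ι} {T : ι → G → ℂ}

theorem ind_self (h : Equivalence rel) (φ : ι) : ind rel φ φ = 1 := if_pos (h.refl φ)

theorem ind_symm (h : Equivalence rel) (φ ψ : ι) : ind rel φ ψ = ind rel ψ φ := by
  by_cases hr : rel φ ψ
  · rw [ind, ind, if_pos hr, if_pos (h.symm hr)]
  · rw [ind, ind, if_neg hr, if_neg fun h' => hr (h.symm h')]

/-- The lift for the members with `e = 1`. -/
theorem LiftData.exists_lift_one (h : LiftData U rel e φ₁ T) :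
    ∃ (ε : ℂ) (ξ₁ : G → ℂ), (ε = 1 ∨ ε = -1) ∧ IsIrrCharacter G ξ₁ ∧
      ∀ φ ∈ U, e φ = 1 → ¬ rel φ φ₁ →
        ∃ ξ : G → ℂ, IsIrrCharacter G ξ ∧ ξ ≠ ξ₁ ∧ T φ = ε • (ξ - ξ₁) := by
  have key : ∀ φ ∈ U, e φ = 1 → ¬ rel φ φ₁ → ∀ ψ ∈ U, e ψ = 1 → ¬ rel ψ φ₁ →
      classInner (T φ) (T ψ) = ind rel φ ψ + 1 := by
    intro φ hφ he hn ψ hψ he' hn'
    rw [h.inner φ hφ ψ hψ, he, he', show ind rel φ φ₁ = 0 from if_neg hn,
      show ind rel φ₁ ψ = 0 from if_neg fun h' => hn' (h.equiv.symm h')]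
    push_cast
    ring
  have hrep : ∀ φ ∈ U, e φ = 1 → ¬ rel φ φ₁ → ∃ PM : (G → ℂ) × (G → ℂ), IsIrrCharacter G PM.1 ∧
      IsIrrCharacter G PM.2 ∧ PM.1 ≠ PM.2 ∧ T φ = PM.1 - PM.2 := by
    intro φ hφ he hn
    obtain ⟨μ, ν, h1, h2, h3, h4⟩ := gen_norm_two (h.gen φ hφ)
      (by rw [key φ hφ he hn φ hφ he hn, ind_self h.equiv]; norm_num) (h.at_one φ hφ)
    exact ⟨(μ, ν), h1, h2, h3, h4⟩
  choose PM hP hM hPM hT using hrep
  have hsame : ∀ φ (hφ : φ ∈ U) (he : e φ = 1) (hn : ¬ rel φ φ₁), ∀ ψ (hψ : ψ ∈ U) (he' : e ψ = 1)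
      (hn' : ¬ rel ψ φ₁), rel φ ψ →
        (PM φ hφ he hn).1 = (PM ψ hψ he' hn').1 ∧ (PM φ hφ he hn).2 = (PM ψ hψ he' hn').2 := by
    intro φ hφ he hn ψ hψ he' hn' hr
    refine diff_inner_two (hP _ _ _ _) (hM _ _ _ _) (hP _ _ _ _) (hM _ _ _ _) ?_
    rw [← hT, ← hT, key φ hφ he hn ψ hψ he' hn', ind, if_pos hr]
    norm_num
  have hdiff : ∀ φ (hφ : φ ∈ U) (he : e φ = 1) (hn : ¬ rel φ φ₁), ∀ ψ (hψ : ψ ∈ U) (he' : e ψ = 1)
      (hn' : ¬ rel ψ φ₁), ¬ rel φ ψ →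
        (PM φ hφ he hn).1 = (PM ψ hψ he' hn').1 ∨ (PM φ hφ he hn).2 = (PM ψ hψ he' hn').2 := by
    intro φ hφ he hn ψ hψ he' hn' hr
    refine diff_inner_one (hP _ _ _ _) (hM _ _ _ _) (hP _ _ _ _) (hM _ _ _ _) ?_
    rw [← hT, ← hT, key φ hφ he hn ψ hψ he' hn', ind, if_neg hr]
    norm_num
  obtain ⟨j, hj, hje, hjn⟩ := h.two
  by_cases hex : ∃ l, ∃ (hl : l ∈ U) (hle : e l = 1) (hln : ¬ rel l φ₁), ¬ rel j l ∧
      (PM j hj hje hjn).2 ≠ (PM l hl hle hln).2
  · -- the common part is the positive one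
    obtain ⟨l, hl, hle, hln, hjl, hne⟩ := hex
    have hjlP := (hdiff j hj hje hjn l hl hle hln hjl).resolve_right hne
    refine ⟨-1, (PM j hj hje hjn).1, Or.inr rfl, hP _ _ _ _, fun φ hφ he hn =>
      ⟨(PM φ hφ he hn).2, hM _ _ _ _, ?_, ?_⟩⟩
    all_goals
      have hPφ : (PM j hj hje hjn).1 = (PM φ hφ he hn).1 := by
        by_cases hjφ : rel j φ
        · exact (hsame j hj hje hjn φ hφ he hn hjφ).1
        by_cases hlφ : rel l φ
        · exact hjlP.trans (hsame l hl hle hln φ hφ he hn hlφ).1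
        rcases hdiff j hj hje hjn φ hφ he hn hjφ with h1 | h1
        · exact h1
        rcases hdiff l hl hle hln φ hφ he hn hlφ with h2 | h2
        · exact hjlP.trans h2
        · exact absurd (h1.trans h2.symm) hne
    · rw [hPφ]; exact (hPM φ hφ he hn).symm
    · rw [hPφ, hT φ hφ he hn, neg_one_smul, neg_sub]
  · -- the common part is the negative one
    push Not at hex
    refine ⟨1, (PM j hj hje hjn).2, Or.inl rfl, hM _ _ _ _, fun φ hφ he hn =>
      ⟨(PM φ hφ he hn).1, hP _ _ _ _, ?_, ?_⟩⟩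
    all_goals
      have hMφ : (PM j hj hje hjn).2 = (PM φ hφ he hn).2 := by
        by_cases hjφ : rel j φ
        · exact (hsame j hj hje hjn φ hφ he hn hjφ).2
        · exact hex φ hφ he hn hjφ
    · rw [hMφ]; exact hPM φ hφ he hn
    · rw [hMφ, hT φ hφ he hn, one_smul]

/-- The lift for the whole family. -/
theorem LiftData.exists_lift (h : LiftData U rel e φ₁ T) :
    ∃ (ε : ℂ) (ξ : ι → G → ℂ), (ε = 1 ∨ ε = -1) ∧ (∀ φ ∈ U, IsIrrCharacter G (ξ φ)) ∧
      (∀ φ ∈ U, T φ = ε • (ξ φ - (e φ : ℂ) • ξ φ₁)) ∧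
      ∀ φ ∈ U, ∀ ψ ∈ U, (ξ φ = ξ ψ ↔ rel φ ψ) := by
  obtain ⟨ε, ξ₁, hε, hξ₁, hlift⟩ := h.exists_lift_one
  have hεε : ε * ε = 1 := by rcases hε with rfl | rfl <;> norm_num
  have hεc : (starRingEnd ℂ) ε = ε := by rcases hε with rfl | rfl <;> simp
  have hwit : ∀ φ ∈ U, ∃ ξ : G → ℂ, IsIrrCharacter G ξ ∧ T φ = ε • (ξ - (e φ : ℂ) • ξ₁) := by
    intro φ hφ
    by_cases he : e φ = 1
    · by_cases hn : rel φ φ₁
      · refine ⟨ξ₁, hξ₁, ?_⟩
        have h0 : classInner (T φ) (T φ) = 0 := by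
          rw [h.inner φ hφ φ hφ, he, ind_self h.equiv, show ind rel φ φ₁ = 1 from if_pos hn,
            show ind rel φ₁ φ = 1 from if_pos (h.equiv.symm hn)]
          norm_num
        rw [ci_self_eq_zero_iff.1 h0, he, Nat.cast_one, one_smul, sub_self, smul_zero]
      · obtain ⟨ξ, hξ, -, hT⟩ := hlift φ hφ he hn
        exact ⟨ξ, hξ, by rw [hT, he, Nat.cast_one, one_smul]⟩
    -- a member of larger degree
    obtain ⟨R, hRU, hR1, hRe, hRrel, hcard⟩ := h.many φ hφ he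
    have hnφ : ∀ r ∈ R, ¬ rel φ r := fun r hr hrel =>
      he ((h.e_rel φ hφ r (hRU hr) hrel).trans (hRe r hr))
    obtain ⟨c, hc, hsum, hnorm⟩ := exists_coeff_norm (h.gen φ hφ)
    have hn1 : classInner (T φ) (T φ) = 1 + (e φ : ℂ) * e φ := by
      rw [h.inner φ hφ φ hφ, ind_self h.equiv, show ind rel φ φ₁ = 0 from if_neg (hnφ _ hR1),
        show ind rel φ₁ φ = 0 from if_neg fun hr => hnφ _ hR1 (h.equiv.symm hr)]
      ring
    have hc2 : ∑ χ, c χ ^ 2 = 1 + (e φ : ℤ) * e φ := by exact_mod_cast hnorm.symm.trans hn1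
    obtain ⟨εi, hεi, hεi1⟩ : ∃ εi : ℤ, (εi : ℂ) = ε ∧ εi * εi = 1 := by
      rcases hε with rfl | rfl
      · exact ⟨1, Int.cast_one, rfl⟩
      · exact ⟨-1, by simp, rfl⟩
    set i₁ : IrrCharacter G := ⟨ξ₁, hξ₁⟩ with hi₁
    have hcoef : ∀ r ∈ R.erase φ₁, ∃ χ : IrrCharacter G, χ ≠ i₁ ∧ T r = ε • ((χ : G → ℂ) - ξ₁) ∧
        c χ = c i₁ + εi * e φ := by
      intro r hr
      have hrR := Finset.mem_of_mem_erase hr
      have hrn : ¬ rel r φ₁ := fun hrel => Finset.ne_of_mem_erase hr (hRrel r hrR φ₁ hR1 hrel)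
      obtain ⟨ξ, hξ, hne, hT⟩ := hlift r (hRU hrR) (hRe r hrR) hrn
      refine ⟨⟨ξ, hξ⟩, fun h' => hne (congrArg Subtype.val h'), hT, ?_⟩
      have h1 : classInner (T φ) (T r) = (e φ : ℂ) := by
        rw [h.inner φ hφ r (hRU hrR), show ind rel φ r = 0 from if_neg (hnφ r hrR),
          show ind rel φ φ₁ = 0 from if_neg (hnφ φ₁ hR1),
          show ind rel φ₁ r = 0 from if_neg fun h' => hrn (h.equiv.symm h'), hRe r hrR]
        push_cast
        ring
      rw [hT, ci_smul_right, hεc, ci_sub_right, show classInner (T φ) ξ = (c ⟨ξ, hξ⟩ : ℂ) from hc ⟨ξ, hξ⟩,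
        show classInner (T φ) ξ₁ = (c i₁ : ℂ) from hc i₁] at h1
      have h2 : ((c ⟨ξ, hξ⟩ : ℤ) : ℂ) = ((c i₁ + εi * e φ : ℤ) : ℂ) := by
        push_cast
        rw [hεi]
        linear_combination ε * h1 + ((c i₁ : ℂ) - (c ⟨ξ, hξ⟩ : ℂ)) * hεε
      exact_mod_cast h2
    choose χf hχne hχT hχc using hcoef
    set x : ℤ := c i₁ + εi * e φ with hx
    -- the coefficient of the members of `R` vanishes
    have hx0 : x = 0 := by
      by_contra hx0
      set S := insert i₁ ((R.erase φ₁).attach.image fun r => χf r.1 r.2) with hS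
      have hnot : i₁ ∉ (R.erase φ₁).attach.image fun r => χf r.1 r.2 := fun hmem => by
        obtain ⟨r, -, hr⟩ := Finset.mem_image.1 hmem
        exact hχne r.1 r.2 hr
      have hinj : Function.Injective fun r : {r // r ∈ R.erase φ₁} => χf r.1 r.2 := by
        intro r r' hrr
        have hTT : T r.1 = T r'.1 := by
          rw [hχT r.1 r.2, hχT r'.1 r'.2, show χf r.1 r.2 = χf r'.1 r'.2 from hrr]
        have hrR := Finset.mem_of_mem_erase r.2
        have hrR' := Finset.mem_of_mem_erase r'.2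
        have hn : ∀ s ∈ R.erase φ₁, ¬ rel φ₁ s := fun s hs hrel =>
          Finset.ne_of_mem_erase hs (hRrel φ₁ hR1 s (Finset.mem_of_mem_erase hs) hrel).symm
        have h3 := h.inner r.1 (hRU hrR) r'.1 (hRU hrR')
        have h4 := h.inner r.1 (hRU hrR) r.1 (hRU hrR)
        rw [← hTT, h4] at h3
        rw [hRe _ hrR, hRe _ hrR', ind_self h.equiv, ind_symm h.equiv r.1 φ₁,
          show ind rel φ₁ r.1 = 0 from if_neg (hn _ r.2),
          show ind rel φ₁ r'.1 = 0 from if_neg (hn _ r'.2)] at h3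
        by_contra hne
        rw [show ind rel r.1 r'.1 = 0 from
          if_neg fun hrel => hne (Subtype.ext (hRrel _ hrR _ hrR' hrel))] at h3
        norm_num at h3
      have h1 := Finset.sum_le_univ_sum_of_nonneg (s := S) (f := fun χ => c χ ^ 2) fun χ => sq_nonneg _
      rw [hS, Finset.sum_insert hnot, Finset.sum_image hinj.injOn,
        Finset.sum_congr rfl (fun r _ => by rw [hχc r.1 r.2]), Finset.sum_const, Finset.card_attach,
        Finset.card_erase_of_mem hR1, nsmul_eq_mul, hc2] at h1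
      have h5 : c i₁ = x - εi * e φ := by rw [hx]; ring
      rw [h5] at h1
      have h6 : (2 * (e φ : ℤ) + 2) ≤ (R.card : ℤ) := by exact_mod_cast hcard
      have h7 : (((R.card - 1 : ℕ)) : ℤ) = (R.card : ℤ) - 1 := by
        have : 1 ≤ R.card := by omega
        push_cast [Nat.cast_sub this]
        ring
      rw [h7] at h1
      have hx1 : 1 ≤ |x| := Int.one_le_abs hx0
      have he0 : (0 : ℤ) ≤ e φ := by positivity
      have h8 : εi * x ≤ |x| := by
        rcases mul_self_eq_one_iff.1 hεi1 with rfl | rfl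
        · rw [one_mul]; exact le_abs_self x
        · rw [neg_one_mul]; exact neg_le_abs x
      have h9 : |x| * |x| = x ^ 2 := by rw [← abs_mul, abs_mul_self, sq]
      nlinarith [mul_le_mul_of_nonneg_left hx1 (mul_nonneg he0 (abs_nonneg x))]
    have hc1 : c i₁ = -(εi * e φ) := by
      have h' : c i₁ + εi * e φ = 0 := hx.symm.trans hx0
      linarith
    -- what remains has norm one
    set Z : G → ℂ := T φ + (ε * (e φ : ℂ)) • ξ₁ with hZ
    have hZgen : IsGeneralizedCharacter G Z := by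
      refine isGen_add (h.gen φ hφ) ?_
      rw [show ε * (e φ : ℂ) = ((εi * e φ : ℤ) : ℂ) by push_cast; rw [hεi]]
      exact isGen_intCast_smul (isGen_of_isIrr hξ₁) _
    have hTξ : classInner (T φ) ξ₁ = -(ε * (e φ : ℂ)) := by
      rw [show classInner (T φ) ξ₁ = (c i₁ : ℂ) from hc i₁, hc1]
      push_cast
      rw [hεi]
    have hZnorm : classInner Z Z = 1 := by
      have hsym : classInner ξ₁ (T φ) = classInner (T φ) ξ₁ :=
        ci_symm (h.gen φ hφ) (isGen_of_isIrr hξ₁)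
      rw [hZ, ci_add_left, ci_add_right, ci_add_right, ci_smul_left, ci_smul_left, ci_smul_right,
        ci_smul_right, hsym, hTξ, hn1, classInner_isIrr_self hξ₁, map_mul, hεc, Complex.conj_natCast]
      linear_combination -((e φ : ℂ) * e φ) * hεε
    have hZ1 : Z 1 = ε * (e φ : ℂ) * ξ₁ 1 := by
      rw [hZ, Pi.add_apply, Pi.smul_apply, h.at_one φ hφ, zero_add, smul_eq_mul]
    have hξirr : IsIrrCharacter G (ε • Z) := by
      obtain ⟨d, hd, hd'⟩ := exists_degree_pos hξ₁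
      have hpos : ∃ m : ℕ, 0 < m ∧ (ε • Z) 1 = m := ⟨e φ * d, Nat.mul_pos (h.e_pos φ hφ) hd, by
        rw [Pi.smul_apply, smul_eq_mul, hZ1, hd']
        push_cast
        linear_combination ((e φ : ℂ) * d) * hεε⟩
      obtain ⟨m, hm, hm'⟩ := hpos
      refine (gen_norm_one (a := ε • Z) ?_ ?_).resolve_right fun hneg => ?_
      · rw [← hεi]; exact isGen_intCast_smul hZgen _
      · rw [ci_smul_left, ci_smul_right, hεc, hZnorm, mul_one, hεε]
      · obtain ⟨k, hk, hk'⟩ := exists_degree_pos hneg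
        rw [Pi.neg_apply, hm'] at hk'
        have h10 : ((m + k : ℕ) : ℂ) = 0 := by push_cast; linear_combination -hk'
        have h11 : m + k = 0 := Nat.cast_eq_zero.1 h10
        omega
    refine ⟨ε • Z, hξirr, funext fun g => ?_⟩
    simp only [hZ, Pi.smul_apply, Pi.sub_apply, Pi.add_apply, smul_eq_mul]
    linear_combination (-(T φ g) - ε * (e φ : ℂ) * ξ₁ g) * hεε
  choose ξ hξ hTξ using hwit
  let Ξ : ι → G → ℂ := fun φ => if hφ : φ ∈ U then (if rel φ φ₁ then ξ₁ else ξ φ hφ) else ξ₁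
  have hΞ₁ : Ξ φ₁ = ξ₁ := by simp only [Ξ]; rw [dif_pos h.mem, if_pos (h.equiv.refl φ₁)]
  have hΞirr : ∀ φ ∈ U, IsIrrCharacter G (Ξ φ) := fun φ hφ => by
    simp only [Ξ]; rw [dif_pos hφ]; split_ifs
    · exact hξ₁
    · exact hξ φ hφ
  have hΞT : ∀ φ ∈ U, T φ = ε • (Ξ φ - (e φ : ℂ) • Ξ φ₁) := fun φ hφ => by
    rw [hΞ₁]
    simp only [Ξ]; rw [dif_pos hφ]
    split_ifs with hr
    · have he : e φ = 1 := (h.e_rel φ hφ φ₁ h.mem hr).trans h.e_one
      have h0 : classInner (T φ) (T φ) = 0 := by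
        rw [h.inner φ hφ φ hφ, he, ind_self h.equiv, show ind rel φ φ₁ = 1 from if_pos hr,
          show ind rel φ₁ φ = 1 from if_pos (h.equiv.symm hr)]
        norm_num
      rw [ci_self_eq_zero_iff.1 h0, he, Nat.cast_one, one_smul, sub_self, smul_zero]
    · exact hTξ φ hφ
  have hinner : ∀ φ ∈ U, ∀ ψ ∈ U, classInner (T φ) (T ψ) =
      (if Ξ φ = Ξ ψ then 1 else 0) - (e ψ : ℂ) * (if Ξ φ = Ξ φ₁ then 1 else 0)
        - (e φ : ℂ) * (if Ξ φ₁ = Ξ ψ then 1 else 0) + (e φ : ℂ) * e ψ := by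
    intro φ hφ ψ hψ
    rw [hΞT φ hφ, hΞT ψ hψ, ci_smul_left, ci_smul_right, hεc, ci_sub_left, ci_sub_right, ci_sub_right,
      ci_smul_left, ci_smul_left, ci_smul_right, ci_smul_right, Complex.conj_natCast,
      ci_irr_eq (hΞirr φ hφ) (hΞirr ψ hψ), ci_irr_eq (hΞirr φ hφ) (hΞirr φ₁ h.mem),
      ci_irr_eq (hΞirr φ₁ h.mem) (hΞirr ψ hψ), classInner_isIrr_self (hΞirr φ₁ h.mem)]
    linear_combination ((if Ξ φ = Ξ ψ then 1 else 0) - (e ψ : ℂ) * (if Ξ φ = Ξ φ₁ then 1 else 0)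
        - (e φ : ℂ) * (if Ξ φ₁ = Ξ ψ then 1 else 0) + (e φ : ℂ) * e ψ) * hεε
  have hne1 : ∀ φ ∈ U, (Ξ φ = Ξ φ₁ ↔ rel φ φ₁) := by
    intro φ hφ
    refine ⟨fun heq => ?_, fun hr => by
      rw [hΞ₁]; simp only [Ξ]; rw [dif_pos hφ, if_pos hr]⟩
    by_contra hr
    have h12 := h.inner φ hφ φ hφ
    rw [hinner φ hφ φ hφ, if_pos rfl, if_pos heq, if_pos heq.symm, ind_self h.equiv,
      show ind rel φ φ₁ = 0 from if_neg hr,
      show ind rel φ₁ φ = 0 from if_neg fun h' => hr (h.equiv.symm h')] at h12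
    have h13 : (e φ : ℂ) = 0 := by linear_combination (-1/2 : ℂ) * h12
    exact absurd (Nat.cast_eq_zero.1 h13) (h.e_pos φ hφ).ne'
  refine ⟨ε, Ξ, hε, hΞirr, hΞT, fun φ hφ ψ hψ => ?_⟩
  have h14 := h.inner φ hφ ψ hψ
  rw [hinner φ hφ ψ hψ] at h14
  have ha : (if Ξ φ = Ξ φ₁ then (1 : ℂ) else 0) = ind rel φ φ₁ :=
    if_congr (hne1 φ hφ) rfl rfl
  have hb : (if Ξ φ₁ = Ξ ψ then (1 : ℂ) else 0) = ind rel φ₁ ψ :=
    if_congr (eq_comm.trans ((hne1 ψ hψ).trans ⟨fun h' => h.equiv.symm h', fun h' => h.equiv.symm h'⟩)) rfl rfl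
  rw [ha, hb] at h14
  have h15 : (if Ξ φ = Ξ ψ then (1 : ℂ) else 0) = ind rel φ ψ := by linear_combination h14
  unfold ind at h15
  by_cases h1 : Ξ φ = Ξ ψ <;> by_cases h2 : rel φ ψ <;> simp [h1, h2] at h15 ⊢

end CfsgLib.SuzukiThm
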