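import Cfsg.Agent.SuzukiTheorem.Frame
import Cfsg.Agent.TwoGroups.IsolatedZStar
import Cfsg.Agent.OddOrder.CN.Frobenius

/-!
# Suzuki's theorem on split groups of rank one: fixed points of an element of `D`

Let `v ∈ D` commute with `t` and centralise no involution of `Q` apart from `s`.  Then the centraliser of
`v` has a regular normal elementary abelian `ℓ`-group on the fixed points of `v`, `s t` has order `ℓ` and
the odd order subgroups of `C_Q(v)` are cyclic.  By transfer `ℓ` is the order of `v` modulo a normal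
subgroup of prime index of `D`, unless `G` has a proper normal subgroup of odd index.
-/

set_option autoImplicit false
set_option linter.unusedSectionVars false
set_option linter.style.haveILetI false
set_option linter.unusedSimpArgs false
set_option linter.unusedVariables false

namespace CfsgLib.SuzukiThm

open CfsgLib
open Subgroup (centralizer)
open scoped commutatorElement

universe u v

variable {G : Type u} {Ω : Type v} [Group G] [MulAction G Ω]

/-- The action of the centraliser of `x` on the fixed points of `x`. -/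
def fixHom (x : G) : ↥(centralizer ({x} : Set G)) →* Equiv.Perm {b : Ω // x • b = b} where
  toFun g :=
    { toFun := fun b => ⟨(g : G) • b.1, by
        rw [← mul_smul, ← Subgroup.mem_centralizer_singleton_iff.1 g.2, mul_smul, b.2]⟩
      invFun := fun b => ⟨(g : G)⁻¹ • b.1, by
        rw [← mul_smul, ← Subgroup.mem_centralizer_singleton_iff.1 (inv_mem g.2), mul_smul, b.2]⟩
      left_inv := fun b => Subtype.ext (inv_smul_smul (g : G) b.1)
      right_inv := fun b => Subtype.ext (smul_inv_smul (g : G) b.1) }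
  map_one' := Equiv.ext fun b => Subtype.ext (one_smul G b.1)
  map_mul' g h := Equiv.ext fun b => Subtype.ext (mul_smul (g : G) (h : G) b.1)

@[simp] theorem fixHom_apply (x : G) (g : ↥(centralizer ({x} : Set G))) (b : {b : Ω // x • b = b}) :
    ((fixHom x g b : {b : Ω // x • b = b}) : Ω) = (g : G) • b.1 := rfl

variable [Finite G] {a : Ω} {t : G} {Q : Subgroup G}

/-- An endomorphism of order `ℓ` of an elementary abelian `ℓ`-group fixes enough elements. -/
theorem card_le_fixed_pow {A : Type*} [CommGroup A] [Finite A] {ℓ : ℕ} (hℓ : ℓ.Prime)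
    (hexp : ∀ x : A, x ^ ℓ = 1) (f : A →* A) (hf : ∀ x, (f : A → A)^[ℓ] x = x) :
    Nat.card A ≤ Nat.card {x : A // f x = x} ^ ℓ := by
  classical
  haveI := Fact.mk hℓ
  rcases subsingleton_or_nontrivial A with hA | hA
  · haveI : Nonempty {x : A // f x = x} := ⟨⟨1, map_one f⟩⟩
    calc Nat.card A ≤ 1 := Finite.card_le_one_iff_subsingleton.2 hA
      _ ≤ _ := Nat.one_le_pow _ _ Nat.card_pos
  let W : AddMonoid.End (Additive A) := MonoidHom.toAdditive f
  haveI : Nontrivial (AddMonoid.End (Additive A)) := by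
    obtain ⟨x, hx⟩ := exists_ne (0 : Additive A)
    exact ⟨1, 0, fun h => hx (DFunLike.congr_fun h x)⟩
  haveI : CharP (AddMonoid.End (Additive A)) ℓ := by
    refine (CharP.charP_iff_prime_eq_zero hℓ).2 (DFunLike.ext _ _ fun x => ?_)
    exact congrArg Additive.ofMul (hexp (Additive.toMul x))
  have hWk : ∀ (k : ℕ) (x : A),
      (W ^ k) (Additive.ofMul x) = Additive.ofMul ((f : A → A)^[k] x) := by
    intro k
    induction k with
    | zero => intro x; rfl
    | succ k ih =>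
      intro x
      rw [Function.iterate_succ_apply', pow_succ']
      exact congrArg (fun y => W y) (ih x)
  have hWℓ : W ^ ℓ = 1 := DFunLike.ext _ _ fun x =>
    (hWk ℓ (Additive.toMul x)).trans (congrArg Additive.ofMul (hf _))
  let T : AddMonoid.End (Additive A) := W - 1
  have hT : T ^ ℓ = 0 := by
    show (W - 1) ^ ℓ = 0
    rw [sub_pow_char_of_commute _ (Commute.one_right W), hWℓ, one_pow, sub_self]
  let Z : ℕ → AddSubgroup (Additive A) := fun k => AddMonoidHom.ker (T ^ k : AddMonoid.End (Additive A))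
  have hstep : ∀ k, Nat.card ↥(Z (k + 1)) ≤ Nat.card {x : A // f x = x} * Nat.card ↥(Z k) := by
    intro k
    let g : ↥(Z (k + 1)) →+ ↥(Z k) :=
      AddMonoidHom.mk' (fun x => ⟨T x.1, by
        have h : (T ^ (k + 1)) x.1 = 0 := x.2
        rw [pow_succ] at h
        exact h⟩) (fun x y => Subtype.ext (map_add T x.1 y.1))
    rw [← AddSubgroup.card_mul_index g.ker]
    refine Nat.mul_le_mul ?_ ?_
    · refine Nat.card_le_card_of_injective
        (fun x : ↥g.ker => (⟨Additive.toMul x.1.1, ?_⟩ : {x : A // f x = x}))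
        (fun x y h => Subtype.ext (Subtype.ext (Additive.toMul.injective (by simpa using h))))
      have h : T x.1.1 = 0 := congrArg Subtype.val (x.2 : g x.1 = 0)
      have h' : W x.1.1 - x.1.1 = 0 := h
      exact congrArg Additive.toMul (sub_eq_zero.1 h')
    · rw [AddSubgroup.index_ker]
      exact Nat.card_le_card_of_injective _ Subtype.val_injective
  have hle : ∀ k, Nat.card ↥(Z k) ≤ Nat.card {x : A // f x = x} ^ k := by
    intro k
    induction k with
    | zero =>
      refine le_of_eq ?_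
      rw [pow_zero, Nat.card_eq_one_iff_unique]
      refine ⟨⟨fun x y => Subtype.ext ?_⟩, ⟨0⟩⟩
      have hx : x.1 = 0 := x.2
      have hy : y.1 = 0 := y.2
      rw [hx, hy]
    | succ k ih =>
      rw [pow_succ' (Nat.card {x : A // f x = x})]
      exact (hstep k).trans (Nat.mul_le_mul le_rfl ih)
  refine le_trans (le_of_eq ?_) (hle ℓ)
  show _ = Nat.card ↥(AddMonoidHom.ker (T ^ ℓ : AddMonoid.End (Additive A)))
  rw [hT]
  exact Nat.card_congr
    { toFun := fun x => ⟨Additive.ofMul x, rfl⟩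
      invFun := fun x => Additive.toMul x.1
      left_inv := fun _ => rfl
      right_inv := fun _ => rfl }

namespace Frame

variable (P : Frame a t Q) {v : G}

include P

theorem fix_a {x : G} (hx : x ∈ pairD G a t) : x • a = a := (Subgroup.mem_inf.1 hx).1

theorem fix_ta {x : G} (hx : x ∈ pairD G a t) : x • t • a = t • a := (Subgroup.mem_inf.1 hx).2

theorem commute_s (hv : v ∈ pairD G a t) (hvt : v * t = t * v) : v * P.s = P.s * v := by
  have h : v ∈ pairD G a t ⊓ centralizer ({t} : Set G) :=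
    Subgroup.mem_inf.2 ⟨hv, Subgroup.mem_centralizer_singleton_iff.2 hvt⟩
  rw [RankOne.centralizer_eq_of_structure P.hS P.hs.1 P.hr P.est] at h
  exact Subgroup.mem_centralizer_singleton_iff.1 (Subgroup.mem_inf.1 h).2

theorem mem_CQ {x : G} (hx : x ∈ Q) (hv : v ∈ pairD G a t) (h : v • x • t • a = x • t • a) :
    x ∈ Q ⊓ centralizer ({v} : Set G) := by
  refine Subgroup.mem_inf.2 ⟨hx, Subgroup.mem_centralizer_singleton_iff.2 ?_⟩
  have h1 : v * x * v⁻¹ = x := RankOne.Q_smul_inj P.hS (RankOne.D_norm_Q P.hS hv hx) hx (by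
    rw [mul_smul, mul_smul, show v⁻¹ • t • a = t • a from P.fix_ta (inv_mem hv), h])
  exact (mul_inv_eq_iff_eq_mul.1 h1).symm

/-- The fixed points of `v`. -/
theorem card_fixed (hv : v ∈ pairD G a t) :
    Nat.card {b : Ω // v • b = b} = Nat.card ↥(Q ⊓ centralizer ({v} : Set G)) + 1 := by
  classical
  let f : Option ↥(Q ⊓ centralizer ({v} : Set G)) → {b : Ω // v • b = b} := fun o =>
    match o with
    | none => ⟨a, P.fix_a hv⟩
    | some x => ⟨(x : G) • t • a, by
        rw [← mul_smul, ← Subgroup.mem_centralizer_singleton_iff.1 (Subgroup.mem_inf.1 x.2).2,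
          mul_smul, P.fix_ta hv]⟩
  have hne : ∀ x : ↥(Q ⊓ centralizer ({v} : Set G)), (x : G) • t • a ≠ a := fun x h =>
    RankOne.ta_ne P.hS ((smul_left_cancel_iff (x : G)).1
      (h.trans (RankOne.Q_smul_a P.hS (Subgroup.mem_inf.1 x.2).1).symm))
  have hf : Function.Bijective f := by
    constructor
    · rintro (_ | x) (_ | y) h
      · rfl
      · exact absurd (congrArg Subtype.val h).symm (hne y)
      · exact absurd (congrArg Subtype.val h) (hne x)
      · exact congrArg some (Subtype.ext (RankOne.Q_smul_inj P.hS (Subgroup.mem_inf.1 x.2).1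
          (Subgroup.mem_inf.1 y.2).1 (congrArg Subtype.val h)))
    · intro b
      by_cases hb : b.1 = a
      · exact ⟨none, Subtype.ext hb.symm⟩
      · obtain ⟨x, hx, hxb⟩ := RankOne.exists_Q_smul P.hS hb
        exact ⟨some ⟨x, P.mem_CQ hx hv (by rw [hxb]; exact b.2)⟩, Subtype.ext hxb⟩
  rw [← Nat.card_congr (Equiv.ofBijective f hf), Finite.card_option]

/-- The common fixed points of `v` and `w`. -/
theorem card_fixed_two {w : G} (hv : v ∈ pairD G a t) (hw : w ∈ pairD G a t) :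
    Nat.card {b : {b : Ω // v • b = b} // w • b.1 = b.1} =
      Nat.card ↥(Q ⊓ centralizer ({v} : Set G) ⊓ centralizer ({w} : Set G)) + 1 := by
  classical
  let C := Q ⊓ centralizer ({v} : Set G) ⊓ centralizer ({w} : Set G)
  have hfix : ∀ {u : G}, u ∈ pairD G a t → ∀ x : G, x ∈ centralizer ({u} : Set G) →
      u • x • t • a = x • t • a := fun {u} hu x hx => by
    rw [← mul_smul, ← Subgroup.mem_centralizer_singleton_iff.1 hx, mul_smul, P.fix_ta hu]
  let f : Option ↥C → {b : {b : Ω // v • b = b} // w • b.1 = b.1} := fun o =>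
    match o with
    | none => ⟨⟨a, P.fix_a hv⟩, P.fix_a hw⟩
    | some x => ⟨⟨(x : G) • t • a, hfix hv x (Subgroup.mem_inf.1 (Subgroup.mem_inf.1 x.2).1).2⟩,
        hfix hw x (Subgroup.mem_inf.1 x.2).2⟩
  have hQ : ∀ x : ↥C, (x : G) ∈ Q := fun x => (Subgroup.mem_inf.1 (Subgroup.mem_inf.1 x.2).1).1
  have hne : ∀ x : ↥C, (x : G) • t • a ≠ a := fun x h =>
    RankOne.ta_ne P.hS ((smul_left_cancel_iff (x : G)).1
      (h.trans (RankOne.Q_smul_a P.hS (hQ x)).symm))
  have hf : Function.Bijective f := by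
    constructor
    · rintro (_ | x) (_ | y) h
      · rfl
      · exact absurd (congrArg (fun z => z.1.1) h).symm (hne y)
      · exact absurd (congrArg (fun z => z.1.1) h) (hne x)
      · exact congrArg some (Subtype.ext (RankOne.Q_smul_inj P.hS (hQ x) (hQ y)
          (congrArg (fun z => z.1.1) h)))
    · intro b
      by_cases hb : b.1.1 = a
      · exact ⟨none, Subtype.ext (Subtype.ext hb.symm)⟩
      · obtain ⟨x, hx, hxb⟩ := RankOne.exists_Q_smul P.hS hb
        exact ⟨some ⟨x, Subgroup.mem_inf.2 ⟨P.mem_CQ hx hv (by rw [hxb]; exact b.1.2),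
          (Subgroup.mem_inf.1 (P.mem_CQ hx hw (by rw [hxb]; exact b.2))).2⟩⟩,
          Subtype.ext (Subtype.ext hxb)⟩
  rw [← Nat.card_congr (Equiv.ofBijective f hf), Finite.card_option]

/-- The centraliser of `v` is transitive on the fixed points of `v`. -/
theorem exists_centralizer_smul (hv : v ∈ pairD G a t) (hvt : v * t = t * v) {b : Ω}
    (hb : v • b = b) : ∃ g ∈ centralizer ({v} : Set G), g • a = b := by
  by_cases h : b = a
  · exact ⟨1, one_mem _, by rw [one_smul, h]⟩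
  · obtain ⟨x, hx, hxb⟩ := RankOne.exists_Q_smul P.hS h
    refine ⟨x * t, mul_mem (Subgroup.mem_inf.1 (P.mem_CQ hx hv (by rw [hxb]; exact hb))).2
      (Subgroup.mem_centralizer_singleton_iff.2 hvt.symm), ?_⟩
    rw [mul_smul, hxb]

/-- An involution centralising `v` is the conjugate of `s` at its fixed point. -/
theorem invol_eq_conj (hE : ∀ e ∈ P.E, v * e = e * v → e = 1 ∨ e = P.s)
    {u g : G} (hu : u ∈ centralizer ({v} : Set G)) (hu1 : u ≠ 1) (hu2 : u * u = 1)
    (hg : g ∈ centralizer ({v} : Set G)) (hfix : u • g • a = g • a) : u = g * P.s * g⁻¹ := by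
  have hA : g⁻¹ * u * g ∈ MulAction.stabilizer G a := by
    rw [MulAction.mem_stabilizer_iff, mul_smul, mul_smul, hfix, inv_smul_smul]
  have h2 : g⁻¹ * u * g * (g⁻¹ * u * g) = 1 := by
    rw [show g⁻¹ * u * g * (g⁻¹ * u * g) = g⁻¹ * (u * u) * g by group, hu2]; group
  have hc := Subgroup.mem_centralizer_singleton_iff.1 (mul_mem (mul_mem (inv_mem hg) hu) hg)
  rcases hE _ ((P.mem_E_iff _).2 ⟨hA, h2⟩) hc.symm with h | h
  · exact absurd (show u = 1 by rw [show u = g * (g⁻¹ * u * g) * g⁻¹ by group, h]; group) hu1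
  · rw [← h]; group

theorem s_isolated (hv : v ∈ pairD G a t) (hvt : v * t = t * v)
    (hE : ∀ e ∈ P.E, v * e = e * v → e = 1 ∨ e = P.s) :
    Cfsg.IsIsolatedInvolution
      (⟨P.s, Subgroup.mem_centralizer_singleton_iff.2 (P.commute_s hv hvt).symm⟩ :
        ↥(centralizer ({v} : Set G))) := by
  refine ⟨?_, fun g hg => Subtype.ext ?_⟩
  · rw [Subgroup.orderOf_mk]
    exact orderOf_eq_prime (by rw [sq, P.E_sq P.s_mem_E]) P.s_ne_one
  · have hc : P.s * ((g : G) * P.s * (g : G)⁻¹) = (g : G) * P.s * (g : G)⁻¹ * P.s :=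
      congrArg Subtype.val hg
    show (g : G) * P.s * (g : G)⁻¹ = P.s
    set w := (g : G) * P.s * (g : G)⁻¹ with hw
    have hwC : w ∈ centralizer ({v} : Set G) :=
      mul_mem (mul_mem g.2 (Subgroup.mem_centralizer_singleton_iff.2 (P.commute_s hv hvt).symm))
        (inv_mem g.2)
    have hsa : P.s • a = a := P.hs.1
    have hfix : w • a = a := RankOne.fixed_eq_of_involution P.hS P.hs.1 P.s_ne_one
      (P.E_sq P.s_mem_E) (by rw [← mul_smul, hc, mul_smul, hsa])
    have h := P.invol_eq_conj hE hwC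
      (fun h => P.s_ne_one (by rwa [hw, mul_inv_eq_one, mul_eq_left] at h))
      (by rw [hw, show (g : G) * P.s * (g : G)⁻¹ * ((g : G) * P.s * (g : G)⁻¹)
        = (g : G) * (P.s * P.s) * (g : G)⁻¹ by group, P.E_sq P.s_mem_E]; group)
      (one_mem _) (by rwa [one_smul])
    rwa [one_mul, inv_one, mul_one] at h

/-- The configuration on the fixed points of `v`. -/
theorem fix_config (hv : v ∈ pairD G a t) (hvt : v * t = t * v)
    (hE : ∀ e ∈ P.E, v * e = e * v → e = 1 ∨ e = P.s) :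
    ∃ ℓ j : ℕ, ℓ.Prime ∧ ℓ ≠ 2 ∧ 0 < j ∧
      Nat.card ↥(Q ⊓ centralizer ({v} : Set G)) + 1 = ℓ ^ j ∧ orderOf (P.s * t) = ℓ ∧
      (∀ X : Subgroup G, X ≤ Q ⊓ centralizer ({v} : Set G) → Odd (Nat.card X) → IsCyclic X) ∧
      ∀ w ∈ pairD G a t, t * w = w * t → w * v = v * w → orderOf w = ℓ →
        Nat.card ↥(Q ⊓ centralizer ({v} : Set G)) + 1 ≤
          (Nat.card ↥(Q ⊓ centralizer ({v} : Set G) ⊓ centralizer ({w} : Set G)) + 1) ^ ℓ := by
  classical
  haveI : Finite Ω := RankOne.finite_points P.hS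
  set M : Subgroup G := centralizer ({v} : Set G) with hM
  have hsM : P.s ∈ M := Subgroup.mem_centralizer_singleton_iff.2 (P.commute_s hv hvt).symm
  have htM : t ∈ M := Subgroup.mem_centralizer_singleton_iff.2 hvt.symm
  let φ : ↥M →* Equiv.Perm {b : Ω // v • b = b} := fixHom v
  let o : {b : Ω // v • b = b} := ⟨a, P.fix_a hv⟩
  let O : Subgroup ↥M := Cfsg.oddCore ↥M
  -- the fixed point of `t`
  obtain ⟨c, hc, hcu⟩ := RankOne.existsUnique_fixed P.hS P.hS.ne_one P.tt
  have hcv : v • c = c := hcu _ (by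
    show t • v • c = v • c
    rw [← mul_smul, ← hvt, mul_smul, hc])
  have hca : c ≠ a := fun h => P.hS.not_mem (h ▸ hc)
  have hconj : ∀ g : ↥M, φ g o = ⟨c, hcv⟩ → t = (g : G) * P.s * (g : G)⁻¹ := fun g hg =>
    P.invol_eq_conj hE htM P.hS.ne_one P.tt g.2 (by
      have h1 : (g : G) • a = c := congrArg Subtype.val hg
      rw [h1]; exact hc)
  obtain ⟨g₀, hg₀, hg₀c⟩ := P.exists_centralizer_smul hv hvt hcv
  have hstO : (⟨P.s, hsM⟩ * ⟨t, htM⟩ : ↥M) ∈ O := by
    have h : (⟨P.s, hsM⟩ * ⟨g₀, hg₀⟩ * (⟨P.s, hsM⟩)⁻¹ * (⟨g₀, hg₀⟩)⁻¹ : ↥M) ∈ O :=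
      CfsgLib.TwoGroups.comm_mem_oddCore (P.s_isolated hv hvt hE) _
    convert h using 1
    refine Subtype.ext ?_
    show P.s * t = P.s * g₀ * P.s⁻¹ * g₀⁻¹
    calc P.s * t = P.s * (g₀ * P.s * g₀⁻¹) := congrArg (P.s * ·) (hconj ⟨g₀, hg₀⟩ (Subtype.ext hg₀c))
      _ = _ := by rw [P.E_inv P.s_mem_E]; group
  have hst1 : φ (⟨P.s, hsM⟩ * ⟨t, htM⟩) ≠ 1 := fun h => by
    have h' : (P.s * t) • a = a := congrArg Subtype.val (Equiv.ext_iff.1 h o)
    rw [mul_smul] at h'
    exact RankOne.ta_ne P.hS ((smul_left_cancel_iff P.s).1 (h'.trans P.hs.1.symm))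
  -- a normal subgroup acting as a non-trivial abelian group
  haveI : Group.IsSolvable ↥O :=
    Cfsg.Agent.S0205.result (CfsgLib.TwoGroups.odd_card_oddCore (G := ↥M))
  obtain ⟨n, hn⟩ := (Group.isSolvable_def ↥O).1 inferInstance
  let D : ℕ → Subgroup (Equiv.Perm {b : Ω // v • b = b}) := fun k =>
    ((derivedSeries ↥O k).map O.subtype).map φ
  have hD0 : D 0 ≠ ⊥ := fun h => hst1 (by
    rw [← Subgroup.mem_bot, ← h]
    exact Subgroup.mem_map_of_mem φ ⟨⟨_, hstO⟩, Subgroup.mem_top _, rfl⟩)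
  have hDn : D n = ⊥ := by simp only [D, hn, Subgroup.map_bot]
  obtain ⟨k, hk, hk'⟩ : ∃ k, D k ≠ ⊥ ∧ D (k + 1) = ⊥ := by
    by_contra hcon
    push Not at hcon
    have : ∀ k, D k ≠ ⊥ := fun k => by
      induction k with
      | zero => exact hD0
      | succ k ih => exact hcon k ih
    exact this n hDn
  let N : Subgroup ↥M := (derivedSeries ↥O k).map O.subtype
  haveI hOn : O.Normal := by dsimp only [O, Cfsg.oddCore]; infer_instance
  haveI hNn : N.Normal := by dsimp only [N]; infer_instance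
  have hcomm : ∀ x ∈ N, ∀ y ∈ N, φ x * φ y = φ y * φ x := by
    rintro _ ⟨x, hx, rfl⟩ _ ⟨y, hy, rfl⟩
    have h1 : φ (O.subtype ⁅x, y⁆) ∈ D (k + 1) :=
      Subgroup.mem_map_of_mem φ ⟨_, Subgroup.commutator_mem_commutator hx hy, rfl⟩
    rw [hk', Subgroup.mem_bot, map_commutatorElement, map_commutatorElement,
      commutatorElement_eq_one_iff_mul_comm] at h1
    exact h1
  obtain ⟨n₁, hn₁, hn₁o⟩ : ∃ x ∈ N, φ x o ≠ o := by
    by_contra hcon
    push Not at hcon
    refine hk ((Subgroup.eq_bot_iff_forall _).2 ?_)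
    rintro _ ⟨x, hx, rfl⟩
    refine Equiv.ext fun b => ?_
    obtain ⟨g, hg, hgb⟩ := P.exists_centralizer_smul hv hvt b.2
    have hb : b = φ ⟨g, hg⟩ o := Subtype.ext hgb.symm
    have h := hcon ((⟨g, hg⟩ : ↥M)⁻¹ * x * ⟨g, hg⟩)
      (by simpa using hNn.conj_mem x hx (⟨g, hg⟩ : ↥M)⁻¹)
    rw [map_mul, map_mul, map_inv, Equiv.Perm.mul_apply, Equiv.Perm.mul_apply, ← hb,
      Equiv.Perm.inv_eq_iff_eq, ← hb] at h
    exact h
  -- transitivity of `C_Q(v)` away from `a`
  have hQtrans : ∀ b b' : {b : Ω // v • b = b}, b ≠ o → b' ≠ o →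
      ∃ x : ↥M, (x : G) ∈ Q ∧ φ x b = b' ∧ φ x o = o := by
    intro b b' hb hb'
    obtain ⟨x, hx, hxb⟩ := RankOne.exists_Q_smul P.hS (fun h => hb (Subtype.ext h))
    obtain ⟨x', hx', hxb'⟩ := RankOne.exists_Q_smul P.hS (fun h => hb' (Subtype.ext h))
    refine ⟨⟨x' * x⁻¹, mul_mem (Subgroup.mem_inf.1 (P.mem_CQ hx' hv (by rw [hxb']; exact b'.2))).2
      (inv_mem (Subgroup.mem_inf.1 (P.mem_CQ hx hv (by rw [hxb]; exact b.2))).2)⟩,
      mul_mem hx' (inv_mem hx), Subtype.ext ?_, Subtype.ext ?_⟩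
    · show (x' * x⁻¹) • b.1 = b'.1
      rw [← hxb, mul_smul, inv_smul_smul, hxb']
    · exact RankOne.Q_smul_a P.hS (mul_mem hx' (inv_mem hx))
  let Nb : Subgroup (Equiv.Perm {b : Ω // v • b = b}) := N.map φ
  have hreg : ∀ x ∈ Nb, ∀ y ∈ Nb, x o = y o → x = y := by
    suffices key : ∀ z ∈ Nb, z o = o → z = 1 by
      intro x hx y hy h
      refine (inv_mul_eq_one.1 (key _ (mul_mem (inv_mem hy) hx) ?_)).symm
      rw [Equiv.Perm.mul_apply, h, Equiv.Perm.inv_eq_iff_eq]
    rintro _ ⟨z, hz, rfl⟩ hzo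
    refine Equiv.ext fun b => ?_
    by_cases hb : b = o
    · rw [hb]; exact hzo
    obtain ⟨x, -, hxb, hxo⟩ := hQtrans _ b hn₁o hb
    have hm : x * n₁ * x⁻¹ ∈ N := hNn.conj_mem _ hn₁ x
    have hbo : φ (x * n₁ * x⁻¹) o = b := by
      rw [map_mul, map_mul, map_inv, Equiv.Perm.mul_apply, Equiv.Perm.mul_apply,
        show (φ x)⁻¹ o = o from Equiv.Perm.inv_eq_iff_eq.2 hxo.symm, hxb]
    calc φ z b = φ z (φ (x * n₁ * x⁻¹) o) := by rw [hbo]
      _ = φ (x * n₁ * x⁻¹) (φ z o) := by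
        rw [← Equiv.Perm.mul_apply, hcomm z hz _ hm, Equiv.Perm.mul_apply]
      _ = b := by rw [hzo, hbo]
  have hsurj : ∀ b : {b : Ω // v • b = b}, ∃ x ∈ Nb, x o = b := by
    intro b
    by_cases hb : b = o
    · exact ⟨1, one_mem _, hb.symm⟩
    obtain ⟨x, -, hxb, hxo⟩ := hQtrans _ b hn₁o hb
    refine ⟨_, Subgroup.mem_map_of_mem φ (hNn.conj_mem _ hn₁ x), ?_⟩
    rw [map_mul, map_mul, map_inv, Equiv.Perm.mul_apply, Equiv.Perm.mul_apply,
      show (φ x)⁻¹ o = o from Equiv.Perm.inv_eq_iff_eq.2 hxo.symm, hxb]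
  have hcardN : Nat.card ↥Nb = Nat.card ↥(Q ⊓ centralizer ({v} : Set G)) + 1 := by
    rw [← P.card_fixed hv]
    refine Nat.card_eq_of_bijective (fun x : ↥Nb => (x : Equiv.Perm _) o) ⟨fun x y h => ?_, fun b => ?_⟩
    · exact Subtype.ext (hreg _ x.2 _ y.2 h)
    · obtain ⟨x, hx, hxb⟩ := hsurj b
      exact ⟨⟨x, hx⟩, hxb⟩
  have hsame : ∀ x ∈ Nb, ∀ y ∈ Nb, x ≠ 1 → y ≠ 1 → orderOf x = orderOf y := by
    intro x hx y hy hx1 hy1
    obtain ⟨c', -, hc', hc'o⟩ := hQtrans (x o) (y o)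
      (fun h => hx1 (hreg _ hx _ (one_mem _) h)) (fun h => hy1 (hreg _ hy _ (one_mem _) h))
    obtain ⟨m, hm, rfl⟩ := hx
    have hconjm : φ c' * φ m * (φ c')⁻¹ = y := by
      refine hreg _ ?_ _ hy ?_
      · rw [← map_inv, ← map_mul, ← map_mul]
        exact Subgroup.mem_map_of_mem φ (hNn.conj_mem _ hm c')
      · rw [Equiv.Perm.mul_apply, Equiv.Perm.mul_apply,
          show (φ c')⁻¹ o = o from Equiv.Perm.inv_eq_iff_eq.2 hc'o.symm, hc']
    rw [← hconjm, ← MulAut.conj_apply, MulEquiv.orderOf_eq]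
  have hone : 1 < Nat.card ↥Nb := by
    rw [hcardN]
    have : 0 < Nat.card ↥(Q ⊓ centralizer ({v} : Set G)) := Nat.card_pos
    omega
  haveI hℓF : Fact (Nat.card ↥Nb).minFac.Prime := ⟨Nat.minFac_prime (by omega)⟩
  set ℓ := (Nat.card ↥Nb).minFac with hℓ
  obtain ⟨x₁, hx₁⟩ := exists_prime_orderOf_dvd_card' (G := ↥Nb) ℓ (Nat.minFac_dvd _)
  have hx₁1 : (x₁ : Equiv.Perm {b : Ω // v • b = b}) ≠ 1 := fun h => by
    rw [← Subgroup.orderOf_coe, h, orderOf_one] at hx₁
    exact hℓF.out.one_lt.ne hx₁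
  have hexp : ∀ x : ↥Nb, x ^ ℓ = 1 := fun x => by
    by_cases h : (x : Equiv.Perm {b : Ω // v • b = b}) = 1
    · rw [show x = 1 from Subtype.ext h, one_pow]
    · rw [← hx₁, ← Subgroup.orderOf_coe x₁, hsame _ x₁.2 _ x.2 hx₁1 h, Subgroup.orderOf_coe]
      exact pow_orderOf_eq_one x
  obtain ⟨j, hj⟩ := IsPGroup.iff_card.1
    (fun x => ⟨1, by rw [pow_one]; exact hexp x⟩ : IsPGroup ℓ ↥Nb)
  have hj0 : 0 < j := by
    rcases Nat.eq_zero_or_pos j with h | h
    · rw [h, pow_zero] at hj; omega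
    · exact h
  -- `ℓ` is odd
  have hCeven : Even (Nat.card ↥(Q ⊓ centralizer ({v} : Set G))) := by
    have h := Subgroup.orderOf_dvd_natCard (Q ⊓ centralizer ({v} : Set G))
      (Subgroup.mem_inf.2 ⟨P.s_mem_Q, hsM⟩)
    rw [orderOf_eq_prime (show P.s ^ 2 = 1 by rw [sq, P.E_sq P.s_mem_E]) P.s_ne_one] at h
    exact even_iff_two_dvd.2 h
  have hℓ2 : ℓ ≠ 2 := by
    intro h
    have h1 : Even (Nat.card ↥Nb) := by
      rw [hj, h]; exact (Nat.even_pow).2 ⟨even_two, hj0.ne'⟩
    rw [hcardN] at h1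
    exact (Nat.even_add_one.1 h1) hCeven
  -- `s` inverts the regular subgroup
  have hS2 : φ ⟨P.s, hsM⟩ * φ ⟨P.s, hsM⟩ = 1 := by
    rw [← map_mul, show (⟨P.s, hsM⟩ * ⟨P.s, hsM⟩ : ↥M) = 1 from Subtype.ext (P.E_sq P.s_mem_E),
      map_one]
  have hSfix : ∀ b : {b : Ω // v • b = b}, φ ⟨P.s, hsM⟩ b = b → b = o := fun b hb =>
    Subtype.ext (RankOne.fixed_eq_of_involution P.hS P.hs.1 P.s_ne_one (P.E_sq P.s_mem_E)
      (congrArg Subtype.val hb))
  have hinv : ∀ x ∈ Nb, φ ⟨P.s, hsM⟩ * x * φ ⟨P.s, hsM⟩ = x⁻¹ := by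
    rintro _ ⟨m, hm, rfl⟩
    set S := φ ⟨P.s, hsM⟩ with hSdef
    have hSi : S⁻¹ = S := inv_eq_of_mul_eq_one_right hS2
    have hy : S * φ m * S ∈ Nb := by
      nth_rewrite 2 [← hSi]
      rw [hSdef, ← map_inv, ← map_mul, ← map_mul]
      exact Subgroup.mem_map_of_mem φ (hNn.conj_mem _ hm _)
    obtain ⟨m', hm', hmm'⟩ := hy
    have hfix : S * (φ m * (S * φ m * S)) = φ m * (S * φ m * S) * S := by
      have e : φ m * φ m' = φ m' * φ m := hcomm m hm m' hm'
      rw [hmm'] at e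
      calc S * (φ m * (S * φ m * S)) = S * φ m * S * φ m * S := by group
        _ = (S * φ m * S * φ m) * S := by group
        _ = _ := by rw [← e]
    have h1 : φ m * (S * φ m * S) = 1 := by
      refine hreg _ (mul_mem (Subgroup.mem_map_of_mem φ hm) ⟨m', hm', hmm'⟩) _ (one_mem _)
        ((hSfix _ ?_).trans rfl)
      rw [← Equiv.Perm.mul_apply, hfix, Equiv.Perm.mul_apply]
      exact congrArg _ (Subtype.ext P.hs.1)
    exact eq_inv_of_mul_eq_one_right h1
  obtain ⟨xc, ⟨m, hm, rfl⟩, hxc⟩ := hsurj ⟨c, hcv⟩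
  have hmc : φ m o = ⟨c, hcv⟩ := hxc
  have hST : φ (⟨P.s, hsM⟩ * ⟨t, htM⟩) = (φ m)⁻¹ * (φ m)⁻¹ := by
    have ht : (⟨t, htM⟩ : ↥M) = m * ⟨P.s, hsM⟩ * m⁻¹ := Subtype.ext (hconj m hmc)
    rw [ht, map_mul, map_mul, map_mul, map_inv, ← hinv _ (Subgroup.mem_map_of_mem φ hm)]
    group
  have hwℓ : (P.s * t) ^ ℓ = 1 := by
    set d := (P.s * t) ^ ℓ with hd
    have h1 : φ ((⟨P.s, hsM⟩ * ⟨t, htM⟩) ^ ℓ) = 1 := by
      rw [map_pow, hST, (Commute.refl (φ m)⁻¹).mul_pow, inv_pow]
      have := congrArg Subtype.val (hexp ⟨φ m, Subgroup.mem_map_of_mem φ hm⟩)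
      rw [show φ m ^ ℓ = 1 from this]; group
    have hda : d • a = a := congrArg Subtype.val (Equiv.ext_iff.1 h1 o)
    have hdb : d • t • a = t • a := congrArg Subtype.val
      (Equiv.ext_iff.1 h1 (⟨t • a, P.fix_ta hv⟩ : {b : Ω // v • b = b}))
    have hdD : d ∈ pairD G a t := Subgroup.mem_inf.2 ⟨hda, hdb⟩
    have hds : P.s * d * P.s = d⁻¹ := by
      have e : P.s * (P.s * t) * P.s⁻¹ = (P.s * t)⁻¹ := by
        rw [mul_inv_rev, P.tinv, ← mul_assoc, P.E_sq P.s_mem_E, one_mul]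
      calc P.s * d * P.s = P.s * d * P.s⁻¹ := by rw [P.E_inv P.s_mem_E]
        _ = (P.s * (P.s * t) * P.s⁻¹) ^ ℓ := by rw [conj_pow]
        _ = d⁻¹ := by rw [e, inv_pow]
    have hdd : P.s * (d * P.s * d⁻¹) * (d * d) = 1 * 1 := by
      rw [show P.s * (d * P.s * d⁻¹) * (d * d) = P.s * d * P.s * d by group, hds, inv_mul_cancel,
        one_mul]
    have h2 := (RankOne.mul_unique P.hS (mul_mem P.s_mem_Q (RankOne.D_norm_Q P.hS hdD P.s_mem_Q))
      (mul_mem hdD hdD) (one_mem _) (one_mem _) hdd).2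
    exact RankOne.sq_injOn (X := pairD G a t) P.hS.odd_card hdD (one_mem _) (by rw [h2, one_mul])
  refine ⟨ℓ, j, hℓF.out, hℓ2, hj0, by rw [← hcardN, hj],
    orderOf_eq_prime hwℓ (fun h => hst1 ?_), ?_, ?_⟩
  · rw [show (⟨P.s, hsM⟩ * ⟨t, htM⟩ : ↥M) = 1 from Subtype.ext h, map_one]
  -- cyclicity
  · intro X hX hXodd
    let R := φ.range
    let K : Subgroup ↥R := N.map φ.rangeRestrict
    haveI : K.Normal := hNn.map _ φ.rangeRestrict_surjective
    have hXM : X ≤ M := hX.trans inf_le_right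
    let A : Subgroup ↥R := (X.subgroupOf M).map φ.rangeRestrict
    have hK : K ≠ ⊥ := fun h => hn₁o (by
      have : φ.rangeRestrict n₁ = 1 := by
        rw [← Subgroup.mem_bot, ← h]; exact Subgroup.mem_map_of_mem _ hn₁
      rw [show φ n₁ = 1 from congrArg Subtype.val this, Equiv.Perm.one_apply])
    have hfix : ∀ x : ↥M, (x : G) ∈ X → ∀ b : {b : Ω // v • b = b}, φ x b = b → b ≠ o → x = 1 :=
      fun x hx b hb hbo => Subtype.ext (by_contra fun hne => hbo (Subtype.ext
        (RankOne.fixed_eq_of_mem_Q P.hS (Subgroup.mem_inf.1 (hX hx)).1 hne (congrArg Subtype.val hb))))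
    have hfpf : ∀ h ∈ A, h ≠ 1 → K ⊓ Subgroup.centralizer {h} = ⊥ := by
      rintro _ ⟨x, hx, rfl⟩ hne
      refine (Subgroup.eq_bot_iff_forall _).2 fun y hy => ?_
      obtain ⟨⟨m', hm', rfl⟩, hyc⟩ := Subgroup.mem_inf.1 hy
      have hc' : φ m' * φ x = φ x * φ m' :=
        congrArg Subtype.val (Subgroup.mem_centralizer_singleton_iff.1 hyc)
      by_contra hy1
      refine hne ?_
      rw [hfix x hx (φ m' o) ?_ ?_, map_one]
      · rw [← Equiv.Perm.mul_apply, ← hc', Equiv.Perm.mul_apply]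
        congr 1
        exact Subtype.ext (RankOne.Q_smul_a P.hS (Subgroup.mem_inf.1 (hX hx)).1)
      · intro h
        exact hy1 (Subtype.ext (hreg _ (Subgroup.mem_map_of_mem φ hm') _ (one_mem _) h))
    let f : ↥X →* ↥R := φ.rangeRestrict.comp (Subgroup.inclusion hXM)
    have hfi : Function.Injective f := by
      rw [injective_iff_map_eq_one]
      intro x hx
      have h1 : φ (Subgroup.inclusion hXM x) = 1 := congrArg Subtype.val hx
      exact Subtype.ext (RankOne.eq_one_of_smul_ta P.hS (Subgroup.mem_inf.1 (hX x.2)).1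
        (congrArg Subtype.val (Equiv.ext_iff.1 h1 (⟨t • a, P.fix_ta hv⟩ : {b : Ω // v • b = b}))))
    have hfA : f.range ≤ A := by
      rintro _ ⟨x, rfl⟩
      exact ⟨Subgroup.inclusion hXM x, x.2, rfl⟩
    let e : ↥X ≃* ↥f.range := MonoidHom.ofInjective hfi
    haveI := RankOne.isNilpotent_Q P.hS P.h2
    haveI : Group.IsNilpotent ↥X :=
      Group.nilpotent_of_mulEquiv (Subgroup.subgroupOfEquivOfLe (hX.trans inf_le_left))
    haveI : Group.IsNilpotent ↥f.range := Group.nilpotent_of_mulEquiv e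
    haveI : IsZGroup ↥f.range := OddOrder.CN.isZGroup_of_fpf hK hfpf hfA
      (by rwa [← Nat.card_congr e.toEquiv])
    haveI : IsCyclic ↥f.range := inferInstance
    exact isCyclic_of_surjective e.symm.toMonoidHom e.symm.surjective
  -- an element of order `ℓ` on the regular subgroup
  · intro w hw htw hwv hwo
    letI : CommGroup ↥Nb :=
      { (inferInstance : Group ↥Nb) with
        mul_comm := by
          rintro ⟨_, ⟨x, hx, rfl⟩⟩ ⟨_, ⟨y, hy, rfl⟩⟩
          exact Subtype.ext (hcomm x hx y hy) }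
    let wM : ↥M := ⟨w, Subgroup.mem_centralizer_singleton_iff.2 hwv⟩
    have hwo' : φ wM o = o := Subtype.ext (P.fix_a hw)
    have hnorm : ∀ x : ↥Nb, MulAut.conj (φ wM) x.1 ∈ Nb := by
      rintro ⟨_, x, hx, rfl⟩
      rw [MulAut.conj_apply, ← map_inv, ← map_mul, ← map_mul]
      exact Subgroup.mem_map_of_mem φ (hNn.conj_mem _ hx wM)
    let f : ↥Nb →* ↥Nb :=
      MonoidHom.mk' (fun x => ⟨MulAut.conj (φ wM) x.1, hnorm x⟩)
        (fun x y => Subtype.ext (map_mul (MulAut.conj (φ wM)) x.1 y.1))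
    have hiter : ∀ (k : ℕ) (x : ↥Nb), ((f : ↥Nb → ↥Nb)^[k] x).1 = MulAut.conj (φ wM ^ k) x.1 := by
      intro k
      induction k with
      | zero => intro x; simp
      | succ k ih =>
        intro x
        rw [Function.iterate_succ_apply', pow_succ', map_mul, MulAut.mul_apply, ← ih x]
        rfl
    have hle := card_le_fixed_pow hℓF.out hexp f (fun x => Subtype.ext (by
      rw [hiter, ← map_pow, show wM ^ ℓ = 1 from Subtype.ext (hwo ▸ pow_orderOf_eq_one w), map_one,
        map_one]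
      rfl))
    rw [hcardN] at hle
    refine le_trans hle (le_of_eq ?_)
    congr 1
    rw [← P.card_fixed_two hv hw]
    have key : ∀ x : ↥Nb, f x = x ↔ w • (x.1 o).1 = (x.1 o).1 := by
      intro x
      have h1 : (f x).1 o = φ wM (x.1 o) := by
        show (φ wM * x.1 * (φ wM)⁻¹) o = _
        rw [Equiv.Perm.mul_apply, Equiv.Perm.mul_apply,
          show (φ wM)⁻¹ o = o from Equiv.Perm.inv_eq_iff_eq.2 hwo'.symm]
      constructor
      · intro h
        rw [h] at h1
        exact (congrArg Subtype.val h1).symm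
      · intro h
        exact Subtype.ext (hreg _ (f x).2 _ x.2 (h1.trans (Subtype.ext h)))
    refine Nat.card_eq_of_bijective
      (fun x : {x : ↥Nb // f x = x} =>
        (⟨x.1.1 o, (key x.1).1 x.2⟩ : {b : {b : Ω // v • b = b} // w • b.1 = b.1}))
      ⟨fun x y h => Subtype.ext (Subtype.ext (hreg _ x.1.2 _ y.1.2 (congrArg Subtype.val h))),
        fun b => ?_⟩
    obtain ⟨x, hx, hxb⟩ := hsurj b.1
    exact ⟨⟨⟨x, hx⟩, (key _).2 (by show w • (x o).1 = (x o).1; rw [hxb]; exact b.2)⟩,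
      Subtype.ext hxb⟩

/-- Transfer to an abelian image of `G_a`. -/
theorem dvd_fixed_of_hom (hv : v ∈ pairD G a t) (hvt : v * t = t * v) {p : ℕ} (hp : p.Prime)
    (hvp : v ^ p = 1) {A : Type*} [CommGroup A] (ψ : ↥(MulAction.stabilizer G a) →* A)
    (hψ : ψ ⟨v, P.fix_a hv⟩ ≠ 1) (hG : ∀ χ : G →* A, χ = 1) :
    p ∣ Nat.card ↥(Q ⊓ centralizer ({v} : Set G)) + 1 := by
  classical
  haveI : Finite Ω := RankOne.finite_points P.hS
  haveI := Fact.mk hp
  haveI : Fintype G := Fintype.ofFinite G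
  rw [← P.card_fixed hv]
  let c := ψ ⟨v, P.fix_a hv⟩
  have hord : orderOf c = p := orderOf_eq_prime
    (by rw [← map_pow]
        rw [show (⟨v, P.fix_a hv⟩ : ↥(MulAction.stabilizer G a)) ^ p = 1 from Subtype.ext hvp, map_one]) hψ
  have h1 : MonoidHom.transfer ψ v = 1 := by rw [hG ψ.transfer]; rfl
  haveI : Fintype (Quotient (MulAction.orbitRel (Subgroup.zpowers v) (G ⧸ (MulAction.stabilizer G a)))) := Fintype.ofFinite _
  rw [MonoidHom.transfer_eq_prod_quotient_orbitRel_zpowers_quot ψ v] at h1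
  let Fx : Quotient (MulAction.orbitRel (Subgroup.zpowers v) (G ⧸ (MulAction.stabilizer G a))) → Prop := fun q =>
    v • q.out = q.out
  rw [Finset.prod_congr rfl (g := fun q => if Fx q then c else 1) ?hterm] at h1
  case hterm =>
    intro q _
    have hper : ∀ n : ℕ, (v • ·)^[n] q.out = v ^ n • q.out := fun n =>
      smul_iterate_apply v n q.out
    by_cases hq : Fx q
    · rw [if_pos hq]
      replace hq : v • q.out = q.out := hq
      have hk : v • q.out.out • a = q.out.out • a := by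
        have hmem : q.out.out⁻¹ * v * q.out.out ∈ (MulAction.stabilizer G a) := by
          have := hq
          rw [← QuotientGroup.out_eq' q.out] at this
          have e := QuotientGroup.eq.1 (this : ((v * q.out.out : G) : G ⧸ (MulAction.stabilizer G a)) = (q.out.out : G ⧸ (MulAction.stabilizer G a)))
          have e' := inv_mem e
          simp only [smul_eq_mul] at e'
          rwa [show ((v * q.out.out)⁻¹ * q.out.out)⁻¹ = q.out.out⁻¹ * v * q.out.out by group] at e'
        rw [MulAction.mem_stabilizer_iff, mul_smul, mul_smul, inv_smul_eq_iff] at hmem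
        exact hmem
      obtain ⟨g, hg, hgk⟩ := P.exists_centralizer_smul hv hvt hk
      have heH : g⁻¹ * q.out.out ∈ (MulAction.stabilizer G a) := by
        rw [MulAction.mem_stabilizer_iff, mul_smul, ← hgk, inv_smul_smul]
      have hmin : Function.minimalPeriod (v • ·) q.out = 1 :=
        Function.minimalPeriod_eq_one_iff_isFixedPt.2 hq
      have hcv : g⁻¹ * v * g = v := by
        rw [mul_assoc, ← Subgroup.mem_centralizer_singleton_iff.1 hg, inv_mul_cancel_left]
      calc ψ ⟨_, _⟩ = ψ ((⟨_, heH⟩ : ↥(MulAction.stabilizer G a))⁻¹ * ⟨v, P.fix_a hv⟩ * ⟨_, heH⟩) := by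
            congr 1
            refine Subtype.ext ?_
            show q.out.out⁻¹ * v ^ Function.minimalPeriod (v • ·) q.out * q.out.out
              = (g⁻¹ * q.out.out)⁻¹ * v * (g⁻¹ * q.out.out)
            rw [hmin, pow_one]
            calc q.out.out⁻¹ * v * q.out.out
                = q.out.out⁻¹ * (g * (g⁻¹ * v * g) * g⁻¹) * q.out.out := by group
              _ = q.out.out⁻¹ * (g * v * g⁻¹) * q.out.out := by rw [hcv]
              _ = _ := by group
        _ = c := by rw [map_mul, map_mul, map_inv, mul_right_comm, inv_mul_cancel, one_mul]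
    · rw [if_neg hq]
      have hmin : Function.minimalPeriod (v • ·) q.out = p :=
        (Function.minimalPeriod_eq_prime_iff).2
          ⟨by rw [Function.IsPeriodicPt, Function.IsFixedPt, hper, hvp, one_smul], hq⟩
      rw [← map_one ψ]
      congr 1
      refine Subtype.ext ?_
      show q.out.out⁻¹ * v ^ Function.minimalPeriod (v • ·) q.out * q.out.out = 1
      rw [hmin, hvp]; group
  rw [Finset.prod_ite, Finset.prod_const, Finset.prod_const_one, mul_one] at h1
  have hdvd : p ∣ Nat.card {q // Fx q} := by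
    rw [Nat.card_eq_fintype_card, Fintype.card_subtype, ← hord]
    exact orderOf_dvd_of_pow_eq_one h1
  let F : {q // Fx q} → {b : Ω // v • b = b} := fun q =>
    ⟨q.1.out.out • a, by
      have h := q.2
      rw [show Fx q.1 = (v • q.1.out = q.1.out) from rfl, ← QuotientGroup.out_eq' q.1.out] at h
      have e := inv_mem (QuotientGroup.eq.1
        (h : ((v * q.1.out.out : G) : G ⧸ (MulAction.stabilizer G a)) = (q.1.out.out : G ⧸ (MulAction.stabilizer G a))))
      simp only [smul_eq_mul] at e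
      rw [show ((v * q.1.out.out)⁻¹ * q.1.out.out)⁻¹ = q.1.out.out⁻¹ * v * q.1.out.out by group,
        MulAction.mem_stabilizer_iff, mul_smul, mul_smul, inv_smul_eq_iff] at e
      exact e⟩
  have hF : Function.Bijective F := by
    constructor
    · intro q q' h
      have h' : q.1.out.out • a = q'.1.out.out • a := congrArg Subtype.val h
      have hh : (q.1.out.out : G ⧸ (MulAction.stabilizer G a)) = (q'.1.out.out : G ⧸ (MulAction.stabilizer G a)) := QuotientGroup.eq.2 (by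
        rw [MulAction.mem_stabilizer_iff, mul_smul, ← h', inv_smul_smul])
      rw [QuotientGroup.out_eq', QuotientGroup.out_eq'] at hh
      exact Subtype.ext (by rw [← Quotient.out_eq q.1, ← Quotient.out_eq q'.1, hh])
    · intro b
      obtain ⟨g, hg, hgb⟩ := P.exists_centralizer_smul hv hvt b.2
      have hvg : v • (g : G ⧸ (MulAction.stabilizer G a)) = (g : G ⧸ (MulAction.stabilizer G a)) := by
        refine QuotientGroup.eq.2 ?_
        rw [MulAction.mem_stabilizer_iff, mul_smul, inv_smul_eq_iff]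
        show g • a = (v * g) • a
        rw [mul_smul, hgb, b.2]
      let q : Quotient (MulAction.orbitRel (Subgroup.zpowers v) (G ⧸ (MulAction.stabilizer G a))) := Quotient.mk'' (g : G ⧸ (MulAction.stabilizer G a))
      have hq : q.out = (g : G ⧸ (MulAction.stabilizer G a)) := by
        obtain ⟨z, hz⟩ : q.out ∈ MulAction.orbit (Subgroup.zpowers v) (g : G ⧸ (MulAction.stabilizer G a)) :=
          MulAction.orbitRel_apply.1 (Quotient.mk_out (s := MulAction.orbitRel _ _) (g : G ⧸ (MulAction.stabilizer G a)))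
        have hzf : (z : G) ∈ MulAction.stabilizer G (g : G ⧸ (MulAction.stabilizer G a)) :=
          (Subgroup.zpowers_le.2 hvg) z.2
        rw [← hz]
        exact hzf
      refine ⟨⟨q, by show v • q.out = q.out; rw [hq, hvg]⟩, Subtype.ext ?_⟩
      show q.out.out • a = b.1
      have : (q.out.out : G ⧸ (MulAction.stabilizer G a)) = (g : G ⧸ (MulAction.stabilizer G a)) := by rw [QuotientGroup.out_eq', hq]
      have e := QuotientGroup.eq.1 this
      rw [MulAction.mem_stabilizer_iff, mul_smul, inv_smul_eq_iff, hgb] at e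
      exact e.symm
  rw [← Nat.card_congr (Equiv.ofBijective F hF)]
  exact hdvd

/-- A normal subgroup of prime index of `D` and transfer. -/
theorem dvd_fixed_of_normal (hv : v ∈ pairD G a t) (hvt : v * t = t * v) {p : ℕ} (hp : p.Prime)
    (hvp : v ^ p = 1) (M : Subgroup G) (hMn : ∀ d ∈ pairD G a t, ∀ m ∈ M, d * m * d⁻¹ ∈ M)
    (hidx : M.relIndex (pairD G a t) = p) (hvM : v ∉ M)
    (hsimple : ∀ L : Subgroup G, L.Normal → Odd L.index → L = ⊤) :
    p ∣ Nat.card ↥(Q ⊓ centralizer ({v} : Set G)) + 1 := by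
  classical
  haveI := Fact.mk hp
  let D := pairD G a t
  haveI : (M.subgroupOf D).Normal := ⟨fun x hx d => hMn d.1 d.2 x.1 hx⟩
  have hcard : Nat.card (↥D ⧸ M.subgroupOf D) = p := hidx
  haveI : IsCyclic (↥D ⧸ M.subgroupOf D) := isCyclic_of_prime_card hcard
  letI : CommGroup (↥D ⧸ M.subgroupOf D) := IsCyclic.commGroup
  have hex : ∀ g : ↥(MulAction.stabilizer G a), ∃ d : ↥D, ∃ x ∈ Q, (g : G) = x * d := fun g => by
    obtain ⟨x, hx, d, hd, e⟩ := RankOne.exists_mem_mul P.hS g.2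
    exact ⟨⟨d, hd⟩, x, hx, e⟩
  choose π hπ using hex
  have huniq : ∀ (g : ↥(MulAction.stabilizer G a)) (x : G) (d : ↥D), x ∈ Q → (g : G) = x * d →
      π g = d := by
    intro g x d hx e
    obtain ⟨x', hx', e'⟩ := hπ g
    exact Subtype.ext (RankOne.mul_unique P.hS hx' (π g).2 hx d.2 (e'.symm.trans e)).2
  let ρ : ↥(MulAction.stabilizer G a) →* ↥D := MonoidHom.mk' π (by
    intro g g'
    obtain ⟨x, hx, e⟩ := hπ g
    obtain ⟨x', hx', e'⟩ := hπ g'
    refine huniq _ (x * ((π g : G) * x' * (π g : G)⁻¹)) _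
      (mul_mem hx (RankOne.D_norm_Q P.hS (π g).2 hx')) ?_
    show (g : G) * g' = _
    rw [e, e']
    show _ = _ * ((π g : G) * (π g' : G))
    group)
  refine P.dvd_fixed_of_hom hv hvt hp hvp ((QuotientGroup.mk' (M.subgroupOf D)).comp ρ) ?_ ?_
  · show (QuotientGroup.mk (π ⟨v, P.fix_a hv⟩) : ↥D ⧸ M.subgroupOf D) ≠ 1
    rw [huniq _ 1 ⟨v, hv⟩ (one_mem _) (one_mul v).symm, Ne, QuotientGroup.eq_one_iff]
    exact hvM
  · intro χ
    have hker := hsimple χ.ker inferInstance ?_
    · ext g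
      exact (MonoidHom.mem_ker (f := χ)).1 (hker ▸ Subgroup.mem_top g)
    · rw [Subgroup.index_ker]
      refine Odd.of_dvd_nat ?_ (Subgroup.card_subgroup_dvd_card χ.range)
      exact Odd.of_dvd_nat P.hS.odd_card (Subgroup.card_quotient_dvd_card (M.subgroupOf D))

end Frame

/-- The configuration on the fixed points of an element of `D ∩ C(t)` centralising one involution of `Q`. -/
theorem fixed_config [FaithfulSMul G Ω] (P : Frame a t Q) {v : G} (hv : v ∈ pairD G a t)
    (hvt : t * v = v * t) (hE : ∀ e ∈ P.E, v * e = e * v → e = 1 ∨ e = P.s) :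
    ∃ ℓ j : ℕ, ℓ.Prime ∧ Nat.card ↥(Q ⊓ Subgroup.centralizer {v}) + 1 = ℓ ^ j ∧
      orderOf (P.s * t) = ℓ ∧
      (∀ H : Subgroup G, H ≤ Q ⊓ Subgroup.centralizer {v} → Odd (Nat.card H) → IsCyclic H) ∧
      ∀ w ∈ pairD G a t, t * w = w * t → w * v = v * w → orderOf w = ℓ →
        Nat.card ↥(Q ⊓ Subgroup.centralizer {v}) + 1 ≤
          (Nat.card ↥(Q ⊓ Subgroup.centralizer {v} ⊓ Subgroup.centralizer {w}) + 1) ^ ℓ := by
  obtain ⟨ℓ, j, hℓ, -, -, hc, ho, hX, hw⟩ := P.fix_config hv hvt.symm hE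
  exact ⟨ℓ, j, hℓ, hc, ho, hX, hw⟩

/-- Transfer: an element of order `p` outside a normal subgroup of index `p` of `D`. -/
theorem prime_dvd_fixed [FaithfulSMul G Ω] (P : Frame a t Q)
    (hG : ∀ N : Subgroup G, N.Normal → Odd N.index → N = ⊤) {v : G} {p : ℕ} (hp : p.Prime)
    (hv : v ∈ pairD G a t) (hvt : t * v = v * t) (ho : orderOf v = p) (W₀ : Subgroup G)
    (hle : W₀ ≤ pairD G a t) (hK : P.K ≤ W₀) (hn : ∀ d ∈ pairD G a t, ∀ x ∈ W₀, d * x * d⁻¹ ∈ W₀)
    (hidx : Nat.card ↥(pairD G a t) = p * Nat.card W₀) (hvW : v ∉ W₀) :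
    p ∣ Nat.card ↥(Q ⊓ Subgroup.centralizer {v}) + 1 := by
  refine P.dvd_fixed_of_normal hv hvt.symm hp (ho ▸ pow_orderOf_eq_one v) W₀ hn ?_ hvW hG
  have h := Subgroup.card_mul_index (W₀.subgroupOf (pairD G a t))
  rw [Nat.card_congr (Subgroup.subgroupOfEquivOfLe hle).toEquiv, hidx, mul_comm p] at h
  exact Nat.eq_of_mul_eq_mul_left Nat.card_pos h

end CfsgLib.SuzukiThm
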