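import Cfsg.Agent.RankOne.InvertedConsequences
import Cfsg.Agent.S0205
import Mathlib

/-!
# Suzuki's theorem on split groups of rank one: the frame

`Frame a t Q` packages a set-up with faithful action, two commuting involutions, the cyclic group `K` of
elements of `D` inverted by `t`, the group `E` of involutions of `Q` and the structure equation
`t s t = r⁻¹ t r`.  For `x ∈ Q ∖ 1` the parts of `t x t = g x · h x · t · f x` are `P.g x`, `P.h x`, `P.f x`.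
-/

set_option autoImplicit false
set_option linter.unusedSectionVars false
set_option linter.style.haveILetI false

namespace CfsgLib.SuzukiThm

open CfsgLib

universe u v

variable {G : Type u} {Ω : Type v} [Group G] [MulAction G Ω]

/-- The two-point stabiliser. -/
abbrev pairD (G : Type u) {Ω : Type v} [Group G] [MulAction G Ω] (a : Ω) (t : G) : Subgroup G :=
  MulAction.stabilizer G a ⊓ MulAction.stabilizer G (t • a)

/-- A rank-one set-up with its distinguished subgroups and structure equation. -/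
structure Frame (a : Ω) (t : G) (Q : Subgroup G) where
  hS : Cfsg.IsRankOneSetup G Ω a t Q
  h2 : ∃ x y : G, x ≠ 1 ∧ y ≠ 1 ∧ x ≠ y ∧ x * x = 1 ∧ y * y = 1 ∧ x * y = y * x
  /-- The inverted elements of `D`. -/
  K : Subgroup G
  K_eq : (K : Set G) = Cfsg.invertedBy (pairD G a t) t
  K_cyclic : IsCyclic K
  K_normal : ∀ d ∈ pairD G a t, ∀ k ∈ K, d * k * d⁻¹ ∈ K
  /-- The involutions of `Q`, with `1`. -/
  E : Subgroup G
  mem_E_iff : ∀ x : G, x ∈ E ↔ x ∈ MulAction.stabilizer G a ∧ x * x = 1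
  s : G
  r : G
  hs : s ∈ Cfsg.involutionsIn (MulAction.stabilizer G a : Set G)
  hr : r ∈ Q
  est : t * s * t = r⁻¹ * t * r

variable [Finite G] {a : Ω} {t : G} {Q : Subgroup G}

/-- Every set-up with two commuting involutions has a frame. -/
theorem exists_frame (hS : Cfsg.IsRankOneSetup G Ω a t Q)
    (h2 : ∃ x y : G, x ≠ 1 ∧ y ≠ 1 ∧ x ≠ y ∧ x * x = 1 ∧ y * y = 1 ∧ x * y = y * x) :
    Nonempty (Frame a t Q) := by
  have hFT : FT.OddSolvable.{u} := fun K _ _ h => Cfsg.Agent.S0205.result h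
  obtain ⟨K, hK, hKc, hKn⟩ := RankOne.inverted_cyclic hS h2 hFT
  obtain ⟨s, r, hs, hr, e⟩ := RankOne.exists_structure hS
  refine ⟨⟨hS, h2, K, hK, hKc, hKn,
    { carrier := {x | x ∈ MulAction.stabilizer G a ∧ x * x = 1}
      one_mem' := ⟨one_mem _, one_mul 1⟩
      inv_mem' := fun {x} hx => ⟨inv_mem hx.1, by rw [← mul_inv_rev, hx.2, inv_one]⟩
      mul_mem' := fun {x y} hx hy => by
        refine ⟨mul_mem hx.1 hy.1, ?_⟩
        rcases eq_or_ne x 1 with rfl | hx1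
        · rw [one_mul]; exact hy.2
        rcases eq_or_ne y 1 with rfl | hy1
        · rw [mul_one]; exact hx.2
        have e' := (RankOne.involution_central hS h2 ⟨hx.1, hx1, hx.2⟩).2 y
          (RankOne.involution_central hS h2 ⟨hy.1, hy1, hy.2⟩).1
        calc x * y * (x * y) = x * (y * x) * y := by group
          _ = x * x * (y * y) := by rw [← e']; group
          _ = 1 := by rw [hx.2, hy.2, one_mul] },
    fun _ => Iff.rfl, s, r, hs, hr, e⟩⟩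

namespace Frame

variable (P : Frame a t Q)

/-- `|E|`. -/
noncomputable def q : ℕ := Nat.card P.E

include P

theorem tt : t * t = 1 := P.hS.mul_self

theorem tinv : t⁻¹ = t := RankOne.t_inv P.hS

/-! ### `E` -/

theorem E_le : P.E ≤ Q := fun x hx =>
  RankOne.mem_Q_of_sq_eq_one P.hS ((P.mem_E_iff x).1 hx).1 ((P.mem_E_iff x).1 hx).2

theorem E_sq {x : G} (hx : x ∈ P.E) : x * x = 1 := ((P.mem_E_iff x).1 hx).2

theorem E_inv {x : G} (hx : x ∈ P.E) : x⁻¹ = x := inv_eq_of_mul_eq_one_right (P.E_sq hx)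

theorem mem_E_of_mem_Q {x : G} (hx : x ∈ Q) (h : x * x = 1) : x ∈ P.E :=
  (P.mem_E_iff x).2 ⟨P.hS.le hx, h⟩

theorem E_central {x y : G} (hx : x ∈ P.E) (hy : y ∈ Q) : x * y = y * x := by
  rcases eq_or_ne x 1 with rfl | hx1
  · rw [one_mul, mul_one]
  · exact (RankOne.involution_central P.hS P.h2 ⟨((P.mem_E_iff x).1 hx).1, hx1, P.E_sq hx⟩).2 y hy

theorem E_comm {x y : G} (hx : x ∈ P.E) (hy : y ∈ P.E) : x * y = y * x := P.E_central hx (P.E_le hy)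

theorem mem_involutionsIn {x : G} (hx : x ∈ P.E) (h1 : x ≠ 1) :
    x ∈ Cfsg.involutionsIn (MulAction.stabilizer G a : Set G) :=
  ⟨((P.mem_E_iff x).1 hx).1, h1, P.E_sq hx⟩

theorem s_mem_E : P.s ∈ P.E := (P.mem_E_iff _).2 ⟨P.hs.1, P.hs.2.2⟩

theorem s_mem_Q : P.s ∈ Q := P.E_le P.s_mem_E

theorem s_ne_one : P.s ≠ 1 := P.hs.2.1

theorem D_norm_E {d x : G} (hd : d ∈ pairD G a t) (hx : x ∈ P.E) : d * x * d⁻¹ ∈ P.E :=
  P.mem_E_of_mem_Q (RankOne.D_norm_Q P.hS hd (P.E_le hx))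
    (by rw [show d * x * d⁻¹ * (d * x * d⁻¹) = d * (x * x) * d⁻¹ by group, P.E_sq hx]; group)

theorem isPGroup_E : IsPGroup 2 P.E := fun x => ⟨1, Subtype.ext (by
  show ((x : G)) ^ (2 ^ 1) = 1
  rw [pow_one, pow_two, P.E_sq x.2])⟩

/-! ### `K` -/

theorem mem_K_iff {k : G} : k ∈ P.K ↔ k ∈ pairD G a t ∧ t * k * t = k⁻¹ := by
  rw [← SetLike.mem_coe, P.K_eq]
  exact RankOne.mem_inverted_iff P.hS

theorem mem_inverted {k : G} (hk : k ∈ P.K) : k ∈ Cfsg.invertedBy (pairD G a t) t := by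
  rwa [← P.K_eq]

theorem K_le : P.K ≤ pairD G a t := fun _ hk => (P.mem_K_iff.1 hk).1

theorem t_conj_K {k : G} (hk : k ∈ P.K) : t * k * t = k⁻¹ := (P.mem_K_iff.1 hk).2

theorem K_comm {k l : G} (hk : k ∈ P.K) (hl : l ∈ P.K) : k * l = l * k := by
  haveI := P.K_cyclic
  exact congrArg Subtype.val
    ((IsCyclic.isMulCommutative (α := P.K)).is_comm.comm (⟨k, hk⟩ : P.K) ⟨l, hl⟩)

/-- A non-trivial element of `K` fixes only `1` in `Q`. -/
theorem K_fpf {k x : G} (hk : k ∈ P.K) (hk1 : k ≠ 1) (hx : x ∈ Q) (h : k * x = x * k) : x = 1 := by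
  have h' : x ∈ Q ⊓ Subgroup.centralizer {k} :=
    Subgroup.mem_inf.2 ⟨hx, Subgroup.mem_centralizer_singleton_iff.2 h.symm⟩
  rw [RankOne.fpf_of_inverted P.hS (P.mem_inverted hk) hk1] at h'
  exact Subgroup.mem_bot.1 h'

theorem conj_K_injective {k l x : G} (hk : k ∈ P.K) (hl : l ∈ P.K) (hx : x ∈ Q) (hx1 : x ≠ 1)
    (h : k * x * k⁻¹ = l * x * l⁻¹) : k = l := by
  by_contra hne
  refine hx1 (P.K_fpf (mul_mem (inv_mem hl) hk) (fun h1 => hne (inv_mul_eq_one.1 h1).symm) hx ?_)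
  calc l⁻¹ * k * x = l⁻¹ * (k * x * k⁻¹) * k := by group
    _ = l⁻¹ * (l * x * l⁻¹) * k := by rw [h]
    _ = _ := by group

theorem exists_conj_K {e e' : G} (he : e ∈ P.E) (he1 : e ≠ 1) (he' : e' ∈ P.E) (he1' : e' ≠ 1) :
    ∃ k ∈ P.K, k * e * k⁻¹ = e' := by
  obtain ⟨k, hk, hke⟩ := RankOne.conj_inverted_surjective P.hS (P.mem_involutionsIn he he1)
    (P.mem_involutionsIn he' he1')
  refine ⟨k⁻¹, inv_mem ?_, by rw [inv_inv]; exact hke⟩
  rw [← SetLike.mem_coe, P.K_eq]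
  exact hk

theorem card_K_add_one : Nat.card P.K + 1 = P.q := by
  classical
  haveI : Fintype P.E := Fintype.ofFinite _
  have h : Nat.card P.K = Nat.card (Cfsg.involutionsIn (MulAction.stabilizer G a : Set G)) := by
    rw [← RankOne.card_inverted P.hS]
    exact Nat.card_congr (Equiv.setCongr P.K_eq)
  have h' : Nat.card (Cfsg.involutionsIn (MulAction.stabilizer G a : Set G)) =
      Nat.card {e : P.E // e ≠ 1} :=
    Nat.card_congr
      { toFun := fun x => ⟨⟨x, (P.mem_E_iff _).2 ⟨x.2.1, x.2.2.2⟩⟩,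
          fun h => x.2.2.1 (congrArg Subtype.val h)⟩
        invFun := fun e => ⟨e.1, P.mem_involutionsIn e.1.2 fun h => e.2 (Subtype.ext h)⟩
        left_inv := fun _ => rfl
        right_inv := fun _ => rfl }
  rw [h, h', q, Nat.card_eq_fintype_card, Nat.card_eq_fintype_card, Fintype.card_subtype_compl,
    Fintype.card_subtype_eq]
  have : 0 < Fintype.card P.E := Fintype.card_pos
  omega

theorem odd_card_K : Odd (Nat.card P.K) :=
  Odd.of_dvd_nat P.hS.odd_card (Subgroup.card_dvd_of_le P.K_le)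

theorem exists_q_eq : ∃ p, 2 ≤ p ∧ P.q = 2 ^ p := by
  haveI : Fact (Nat.Prime 2) := ⟨Nat.prime_two⟩
  obtain ⟨p, hp⟩ := IsPGroup.iff_card.1 P.isPGroup_E
  refine ⟨p, ?_, hp⟩
  obtain ⟨x, y, hx, hy, hne⟩ := RankOne.exists_two_involutions P.hS P.h2
  have h3 : 2 < Nat.card P.E := by
    classical
    haveI : Fintype P.E := Fintype.ofFinite _
    rw [Nat.card_eq_fintype_card, Fintype.two_lt_card_iff]
    exact ⟨1, ⟨x, (P.mem_E_iff _).2 ⟨hx.1, hx.2.2⟩⟩, ⟨y, (P.mem_E_iff _).2 ⟨hy.1, hy.2.2⟩⟩,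
      fun h => hx.2.1 (congrArg Subtype.val h).symm, fun h => hy.2.1 (congrArg Subtype.val h).symm,
      fun h => hne (congrArg Subtype.val h)⟩
  rw [hp] at h3
  rcases Nat.lt_or_ge p 2 with hlt | hge
  · interval_cases p <;> norm_num at h3
  · exact hge

theorem four_le_q : 4 ≤ P.q := by
  obtain ⟨p, hp, hq⟩ := P.exists_q_eq
  rw [hq]
  calc 4 = 2 ^ 2 := rfl
    _ ≤ 2 ^ p := Nat.pow_le_pow_right (by norm_num) hp

/-! ### The parts of `t x t` -/

theorem exists_parts {x : G} (hx : x ∈ Q) (hx1 : x ≠ 1) :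
    ∃ p : G × G × G, p.1 ∈ Q ∧ p.2.1 ∈ pairD G a t ∧ p.2.2 ∈ Q ∧
      t * x * t = p.1 * p.2.1 * t * p.2.2 := by
  have hn : t * x * t ∉ MulAction.stabilizer G a := fun h => hx1 (by
    rw [MulAction.mem_stabilizer_iff, mul_smul, mul_smul] at h
    have h' := congrArg (t • ·) h
    simp only [← mul_smul t t, P.tt, one_smul] at h'
    exact RankOne.eq_one_of_smul_ta P.hS hx h')
  obtain ⟨y, hy, f, hf, e⟩ := RankOne.exists_canonical P.hS hn
  obtain ⟨g, hg, d, hd, rfl⟩ := RankOne.exists_mem_mul P.hS hy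
  exact ⟨⟨g, d, f⟩, hg, hd, hf, e⟩

open scoped Classical in
/-- `g`-part of `t x t`. -/
noncomputable def g (x : G) : G :=
  if h : x ∈ Q ∧ x ≠ 1 then (P.exists_parts h.1 h.2).choose.1 else 1

open scoped Classical in
/-- `h`-part of `t x t`. -/
noncomputable def h (x : G) : G :=
  if h : x ∈ Q ∧ x ≠ 1 then (P.exists_parts h.1 h.2).choose.2.1 else 1

open scoped Classical in
/-- `f`-part of `t x t`. -/
noncomputable def f (x : G) : G :=
  if h : x ∈ Q ∧ x ≠ 1 then (P.exists_parts h.1 h.2).choose.2.2 else 1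

theorem parts_spec {x : G} (hx : x ∈ Q) (hx1 : x ≠ 1) :
    P.g x ∈ Q ∧ P.h x ∈ pairD G a t ∧ P.f x ∈ Q ∧ t * x * t = P.g x * P.h x * t * P.f x := by
  simp only [g, h, f, dif_pos (And.intro hx hx1)]
  exact (P.exists_parts hx hx1).choose_spec

theorem parts_eq {x g' h' f' : G} (hx : x ∈ Q) (hx1 : x ≠ 1) (hg : g' ∈ Q)
    (hh : h' ∈ pairD G a t) (hf : f' ∈ Q) (e : t * x * t = g' * h' * t * f') :
    P.g x = g' ∧ P.h x = h' ∧ P.f x = f' := by
  obtain ⟨h1, h2, h3, h4⟩ := P.parts_spec hx hx1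
  exact RankOne.gh_unique P.hS h1 h2 h3 hg hh hf (h4.symm.trans e)

theorem g_mem (x : G) : P.g x ∈ Q := by
  by_cases h : x ∈ Q ∧ x ≠ 1
  · exact (P.parts_spec h.1 h.2).1
  · rw [g, dif_neg h]; exact one_mem _

theorem h_mem (x : G) : P.h x ∈ pairD G a t := by
  by_cases h' : x ∈ Q ∧ x ≠ 1
  · exact (P.parts_spec h'.1 h'.2).2.1
  · rw [h, dif_neg h']; exact one_mem _

theorem f_mem (x : G) : P.f x ∈ Q := by
  by_cases h : x ∈ Q ∧ x ≠ 1
  · exact (P.parts_spec h.1 h.2).2.2.1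
  · rw [f, dif_neg h]; exact one_mem _

theorem eq_txt {x : G} (hx : x ∈ Q) (hx1 : x ≠ 1) : t * x * t = P.g x * P.h x * t * P.f x :=
  (P.parts_spec hx hx1).2.2.2

/-- The action of `t` off the two base points. -/
theorem t_smul {x : G} (hx : x ∈ Q) (hx1 : x ≠ 1) : t • x • t • a = P.g x • t • a := by
  rw [← mul_smul, ← mul_smul, P.eq_txt hx hx1, mul_smul, RankOne.Q_smul_a P.hS (P.f_mem x),
    mul_smul, mul_smul, (Subgroup.mem_inf.1 (P.h_mem x)).2]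

theorem g_ne_one {x : G} (hx : x ∈ Q) (hx1 : x ≠ 1) : P.g x ≠ 1 := fun h => by
  have h' := P.t_smul hx hx1
  rw [h, one_smul, smul_left_cancel_iff] at h'
  exact RankOne.ta_ne P.hS
    ((smul_left_cancel_iff x).1 (h'.trans (RankOne.Q_smul_a P.hS hx).symm))

theorem g_g {x : G} (hx : x ∈ Q) (hx1 : x ≠ 1) : P.g (P.g x) = x := by
  refine RankOne.Q_smul_inj P.hS (P.g_mem _) hx ?_
  rw [← P.t_smul (P.g_mem x) (P.g_ne_one hx hx1), ← P.t_smul hx hx1, ← mul_smul, P.tt, one_smul]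

theorem parts_inv {x : G} (hx : x ∈ Q) (hx1 : x ≠ 1) :
    P.g x⁻¹ = (P.f x)⁻¹ ∧ P.h x⁻¹ = t * (P.h x)⁻¹ * t ∧ P.f x⁻¹ = (P.g x)⁻¹ := by
  refine P.parts_eq (inv_mem hx) (inv_ne_one.2 hx1) (inv_mem (P.f_mem x))
    (RankOne.t_norm_D P.hS (inv_mem (P.h_mem x))) (inv_mem (P.g_mem x)) ?_
  calc t * x⁻¹ * t = t⁻¹ * x⁻¹ * t⁻¹ := by rw [P.tinv]
    _ = (t * x * t)⁻¹ := by group
    _ = (P.g x * P.h x * t * P.f x)⁻¹ := by rw [P.eq_txt hx hx1]
    _ = (P.f x)⁻¹ * t⁻¹ * (P.h x)⁻¹ * (P.g x)⁻¹ := by group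
    _ = (P.f x)⁻¹ * t * (P.h x)⁻¹ * (t * t) * (P.g x)⁻¹ := by rw [P.tinv, P.tt, mul_one]
    _ = _ := by group

theorem f_ne_one {x : G} (hx : x ∈ Q) (hx1 : x ≠ 1) : P.f x ≠ 1 := fun h => by
  have h' := (P.parts_inv hx hx1).1
  rw [h, inv_one] at h'
  exact P.g_ne_one (inv_mem hx) (inv_ne_one.2 hx1) h'

theorem parts_f {x : G} (hx : x ∈ Q) (hx1 : x ≠ 1) :
    P.h (P.f x) = (P.h x)⁻¹ ∧ P.f (P.f x) = x := by
  refine (P.parts_eq (g' := (P.h x)⁻¹ * (P.g x)⁻¹ * ((P.h x)⁻¹)⁻¹) (P.f_mem x) (P.f_ne_one hx hx1)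
    (RankOne.D_norm_Q P.hS (inv_mem (P.h_mem x)) (inv_mem (P.g_mem x))) (inv_mem (P.h_mem x)) hx ?_).2
  calc t * P.f x * t = (P.h x)⁻¹ * (P.g x)⁻¹ * (P.g x * P.h x * t * P.f x) * t := by group
    _ = (P.h x)⁻¹ * (P.g x)⁻¹ * (t * x * t) * t := by rw [P.eq_txt hx hx1]
    _ = (P.h x)⁻¹ * (P.g x)⁻¹ * t * x * (t * t) := by group
    _ = _ := by rw [P.tt]; group

theorem parts_conj {x c : G} (hx : x ∈ Q) (hx1 : x ≠ 1) (hc : c ∈ pairD G a t) :
    P.g (c⁻¹ * x * c) = (t * c * t)⁻¹ * P.g x * (t * c * t) ∧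
      P.h (c⁻¹ * x * c) = (t * c * t)⁻¹ * P.h x * c ∧
      P.f (c⁻¹ * x * c) = (t * c * t)⁻¹ * P.f x * (t * c * t) := by
  have hτD := RankOne.t_norm_D P.hS hc
  obtain ⟨τ, hτ⟩ : ∃ τ, τ = t * c * t := ⟨_, rfl⟩
  rw [← hτ] at hτD ⊢
  have hmem : ∀ {y : G}, y ∈ Q → τ⁻¹ * y * τ ∈ Q := fun {y} hy => by
    simpa using RankOne.D_norm_Q P.hS (inv_mem hτD) hy
  refine P.parts_eq (by simpa using RankOne.D_norm_Q P.hS (inv_mem hc) hx)
    (fun h => hx1 (by rw [show x = c * (c⁻¹ * x * c) * c⁻¹ by group, h]; group))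
    (hmem (P.g_mem x)) (mul_mem (mul_mem (inv_mem hτD) (P.h_mem x)) hc) (hmem (P.f_mem x)) ?_
  have hct : c * t = t * τ := by rw [hτ, ← mul_assoc, ← mul_assoc, P.tt, one_mul]
  have hτi : τ⁻¹ = t * c⁻¹ * t := by rw [hτ, mul_inv_rev, mul_inv_rev, P.tinv]; group
  calc t * (c⁻¹ * x * c) * t = t * c⁻¹ * (t * t) * x * (t * t) * c * t := by rw [P.tt]; group
    _ = (t * c⁻¹ * t) * (t * x * t) * (t * c * t) := by group
    _ = τ⁻¹ * (P.g x * P.h x * t * P.f x) * τ := by rw [P.eq_txt hx hx1, hτi, hτ]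
    _ = (τ⁻¹ * P.g x * τ) * (τ⁻¹ * P.h x) * (t * τ) * (τ⁻¹ * P.f x * τ) := by group
    _ = _ := by rw [← hct]; group

/-- Conjugation by an element of `K`. -/
theorem parts_conj_K {x k : G} (hx : x ∈ Q) (hx1 : x ≠ 1) (hk : k ∈ P.K) :
    P.g (k * x * k⁻¹) = k⁻¹ * P.g x * k ∧ P.h (k * x * k⁻¹) = k⁻¹ * P.h x * k⁻¹ ∧
      P.f (k * x * k⁻¹) = k⁻¹ * P.f x * k := by
  have h := P.parts_conj hx hx1 (inv_mem (P.K_le hk))
  rwa [P.t_conj_K (inv_mem hk), inv_inv] at h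

theorem parts_mul {x y : G} (hx : x ∈ Q) (hx1 : x ≠ 1) (hy : y ∈ Q) (hy1 : y ≠ 1) (hxy : x * y ≠ 1) :
    P.f x * P.g y ≠ 1 ∧
      P.g (x * y) = P.g x * (P.h x * P.g (P.f x * P.g y) * (P.h x)⁻¹) ∧
      P.h (x * y) = P.h x * P.h (P.f x * P.g y) * P.h y ∧
      P.f (x * y) = (t * P.h y * t)⁻¹ * P.f (P.f x * P.g y) * (t * P.h y * t) * P.f y := by
  have htt := P.tt
  have e0 : t * (x * y) * t = P.g x * P.h x * t * (P.f x * P.g y) * P.h y * t * P.f y := by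
    calc t * (x * y) * t = t * x * (t * t) * y * t := by rw [htt]; group
      _ = (t * x * t) * (t * y * t) := by group
      _ = _ := by rw [P.eq_txt hx hx1, P.eq_txt hy hy1]; group
  have hz1 : P.f x * P.g y ≠ 1 := fun h1 => hxy (by
    have hA : t * (x * y) * t ∈ MulAction.stabilizer G a := by
      rw [e0, h1, mul_one, show P.g x * P.h x * t * P.h y * t * P.f y =
        P.g x * P.h x * (t * P.h y * t) * P.f y by group]
      exact mul_mem (mul_mem (mul_mem (P.hS.le (P.g_mem x)) (Subgroup.mem_inf.1 (P.h_mem x)).1)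
        (Subgroup.mem_inf.1 (RankOne.t_norm_D P.hS (P.h_mem y))).1) (P.hS.le (P.f_mem y))
    rw [MulAction.mem_stabilizer_iff, mul_smul _ t a, mul_smul, ← eq_inv_smul_iff, P.tinv] at hA
    exact RankOne.eq_one_of_smul_ta P.hS (mul_mem hx hy) hA)
  have hzQ : P.f x * P.g y ∈ Q := mul_mem (P.f_mem x) (P.g_mem y)
  refine ⟨hz1, ?_⟩
  have ez := P.eq_txt hzQ hz1
  obtain ⟨τ, hτ⟩ : ∃ τ, τ = t * P.h y * t := ⟨_, rfl⟩
  rw [← hτ]
  have hτD : τ ∈ pairD G a t := hτ ▸ RankOne.t_norm_D P.hS (P.h_mem y)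
  have hct : P.h y * t = t * τ := by rw [hτ, ← mul_assoc, ← mul_assoc, htt, one_mul]
  refine P.parts_eq (mul_mem hx hy) hxy
    (mul_mem (P.g_mem x) (RankOne.D_norm_Q P.hS (P.h_mem x) (P.g_mem _)))
    (mul_mem (mul_mem (P.h_mem x) (P.h_mem _)) (P.h_mem y))
    (mul_mem (by simpa using RankOne.D_norm_Q P.hS (inv_mem hτD) (P.f_mem _)) (P.f_mem y)) ?_
  calc t * (x * y) * t = P.g x * P.h x * t * (P.f x * P.g y) * (t * t) * P.h y * t * P.f y := by
        rw [e0, htt]; group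
    _ = P.g x * P.h x * (t * (P.f x * P.g y) * t) * τ * P.f y := by rw [hτ]; group
    _ = P.g x * P.h x * (P.g (P.f x * P.g y) * P.h (P.f x * P.g y) * t * P.f (P.f x * P.g y)) * τ
          * P.f y := by rw [ez]
    _ = (P.g x * (P.h x * P.g (P.f x * P.g y) * (P.h x)⁻¹)) * (P.h x * P.h (P.f x * P.g y)) *
          (t * τ) * (τ⁻¹ * P.f (P.f x * P.g y) * τ * P.f y) := by group
    _ = _ := by rw [← hct]; group

/-! ### `s` and `r` -/

theorem r_ne_one : P.r ≠ 1 := fun h => by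
  have e := P.est
  rw [h, inv_one, one_mul, mul_one] at e
  have : P.s = t := by
    calc P.s = t * (t * P.s * t) * t := by
          simp only [← mul_assoc, P.tt, one_mul]; rw [mul_assoc, P.tt, mul_one]
      _ = t := by rw [e, P.tt, one_mul]
  exact P.hS.not_mem (this ▸ P.hs.1)

theorem parts_s : P.g P.s = P.r⁻¹ ∧ P.h P.s = 1 ∧ P.f P.s = P.r :=
  P.parts_eq P.s_mem_Q P.s_ne_one (inv_mem P.hr) (one_mem _) P.hr (by rw [mul_one]; exact P.est)

theorem f_r : P.f P.r = P.s ∧ P.h P.r = 1 := by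
  have h := P.parts_f P.s_mem_Q P.s_ne_one
  rw [P.parts_s.2.2, P.parts_s.2.1, inv_one] at h
  exact ⟨h.2, h.1⟩

/-- The parts at the involution `k s k⁻¹`. -/
theorem parts_E {k : G} (hk : k ∈ P.K) :
    P.g (k * P.s * k⁻¹) = k⁻¹ * P.r⁻¹ * k ∧ P.h (k * P.s * k⁻¹) = k⁻¹ * k⁻¹ ∧
      P.f (k * P.s * k⁻¹) = k⁻¹ * P.r * k := by
  have h := P.parts_conj_K P.s_mem_Q P.s_ne_one hk
  rw [P.parts_s.1, P.parts_s.2.1, P.parts_s.2.2, mul_one] at h
  exact h

theorem s_conj_r : P.r⁻¹ * P.s * P.r = P.s := by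
  rw [mul_assoc, P.E_central P.s_mem_E P.hr, inv_mul_cancel_left]

/-- `r` squares `s t`. -/
theorem r_conj_st : P.r⁻¹ * (P.s * t) * P.r = (P.s * t) * (P.s * t) := by
  calc P.r⁻¹ * (P.s * t) * P.r = (P.r⁻¹ * P.s * P.r) * (P.r⁻¹ * t * P.r) := by group
    _ = P.s * (t * P.s * t) := by rw [P.s_conj_r, P.est]
    _ = _ := by group

/-- `D` is `K` times the centraliser of `t`. -/
theorem exists_K_mul {d : G} (hd : d ∈ pairD G a t) :
    ∃ v ∈ pairD G a t, ∃ k ∈ P.K, t * v = v * t ∧ d = v * k := by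
  obtain ⟨y, hy, z, hz, hty, htz, e⟩ := RankOne.exists_decomp (X := pairD G a t) P.tt P.hS.odd_card
    (fun x hx => RankOne.t_norm_D P.hS hx) hd
  exact ⟨y, hy, z, P.mem_K_iff.2 ⟨hz, htz⟩, hty, e⟩

/-- An element of `D` congruent modulo `K` to the inverse of its `t`-conjugate lies in `K`. -/
theorem mem_K_of_skew {d k : G} (hd : d ∈ pairD G a t) (hk : k ∈ P.K)
    (e : d = k * (t * d⁻¹ * t) * k⁻¹) : d ∈ P.K := by
  obtain ⟨v, hv, l, hl, htv, rfl⟩ := P.exists_K_mul hd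
  have htv' : t * v⁻¹ * t = v⁻¹ := by
    have : t * v * t = v := by rw [htv, mul_assoc, P.tt, mul_one]
    calc t * v⁻¹ * t = t⁻¹ * v⁻¹ * t⁻¹ := by rw [P.tinv]
      _ = (t * v * t)⁻¹ := by group
      _ = v⁻¹ := by rw [this]
  have e2 : t * (v * l)⁻¹ * t = l * v⁻¹ := by
    calc t * (v * l)⁻¹ * t = t * l⁻¹ * (t * t) * v⁻¹ * t := by rw [P.tt]; group
      _ = (t * l⁻¹ * t) * (t * v⁻¹ * t) := by group
      _ = l * v⁻¹ := by rw [P.t_conj_K (inv_mem hl), inv_inv, htv']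
  rw [e2] at e
  have hvv : v * v ∈ P.K := by
    have h1 : v * v * (v⁻¹ * (l * k) * v) = k * l := by
      calc v * v * (v⁻¹ * (l * k) * v) = v * l * k * v := by group
        _ = k * (l * v⁻¹) * k⁻¹ * k * v := by rw [← e]
        _ = _ := by group
    have hm : v⁻¹ * (l * k) * v ∈ P.K := by
      simpa using P.K_normal _ (inv_mem hv) _ (mul_mem hl hk)
    rw [show v * v = (v * v * (v⁻¹ * (l * k) * v)) * (v⁻¹ * (l * k) * v)⁻¹ by group, h1]
    exact mul_mem (mul_mem hk hl) (inv_mem hm)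
  have h2 : v * v * (v * v) = 1 := by
    have hc := P.t_conj_K hvv
    rw [show t * (v * v) * t = v * v by
      rw [show t * (v * v) = v * v * t by rw [← mul_assoc, htv, mul_assoc, htv, ← mul_assoc],
        mul_assoc, P.tt, mul_one]] at hc
    exact mul_eq_one_iff_eq_inv.2 hc
  have hvv1 : v * v = 1 :=
    RankOne.sq_injOn (X := pairD G a t) P.hS.odd_card (mul_mem hv hv) (one_mem _) (by rw [h2, one_mul])
  have hv1 : v = 1 :=
    RankOne.sq_injOn (X := pairD G a t) P.hS.odd_card hv (one_mem _) (by rw [hvv1, one_mul])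
  rw [hv1, one_mul]
  exact hl

/-- `h (r e)` lies in `K` for every `e ∈ E`, and the `f`-part of `r e`. -/
theorem parts_r_mul {k : G} (hk : k ∈ P.K) (hne : P.r * (k * P.s * k⁻¹) ≠ 1) :
    P.h (P.r * (k * P.s * k⁻¹)) ∈ P.K ∧
      P.f (P.r * (k * P.s * k⁻¹)) =
        k⁻¹ * ((P.g (P.r * (k * P.s * k⁻¹)))⁻¹ * P.r) * k := by
  obtain ⟨e, he⟩ : ∃ e, e = k * P.s * k⁻¹ := ⟨_, rfl⟩
  rw [← he] at hne ⊢
  have heE : e ∈ P.E := he ▸ P.D_norm_E (P.K_le hk) P.s_mem_E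
  have he1 : e ≠ 1 := fun h => P.s_ne_one (by rw [show P.s = k⁻¹ * e * k by rw [he]; group, h]; group)
  obtain ⟨hge, hhe, hfe⟩ := P.parts_E hk
  rw [← he] at hge hhe hfe
  obtain ⟨-, -, hh, hf⟩ := P.parts_mul P.hr P.r_ne_one (P.E_le heE) he1 hne
  -- the middle element is a conjugate of `(r e)⁻¹`
  have hz : P.f P.r * P.g e = k⁻¹ * (P.r * e)⁻¹ * k := by
    rw [P.f_r.1, hge]
    calc P.s * (k⁻¹ * P.r⁻¹ * k) = k⁻¹ * (k * P.s * k⁻¹ * P.r⁻¹) * k := by group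
      _ = k⁻¹ * (e * P.r⁻¹) * k := by rw [he]
      _ = k⁻¹ * (e⁻¹ * P.r⁻¹) * k := by rw [P.E_inv heE]
      _ = _ := by group
  have hreQ : P.r * e ∈ Q := mul_mem P.hr (P.E_le heE)
  have hc := P.parts_conj_K (inv_mem hreQ) (inv_ne_one.2 hne) (inv_mem hk)
  rw [inv_inv, (P.parts_inv hreQ hne).2.1, (P.parts_inv hreQ hne).2.2] at hc
  rw [hz, P.f_r.2, one_mul, hc.2.1, hhe] at hh
  rw [hz, hc.2.2, hhe, hfe] at hf
  have hkk : t * (k⁻¹ * k⁻¹) * t = k * k := by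
    calc t * (k⁻¹ * k⁻¹) * t = t * k⁻¹ * (t * t) * k⁻¹ * t := by rw [P.tt]; group
      _ = (t * k⁻¹ * t) * (t * k⁻¹ * t) := by group
      _ = k * k := by rw [P.t_conj_K (inv_mem hk), inv_inv]
  rw [hkk] at hf
  refine ⟨P.mem_K_of_skew (P.h_mem _) hk ?_, ?_⟩
  · conv_lhs => rw [hh]
    group
  · rw [hf]; group

/-- `K` is fixed-point-free on `Q ⧸ E`. -/
theorem K_fpf_coset {k x : G} (hk : k ∈ P.K) (hk1 : k ≠ 1) (hx : x ∈ Q)
    (h : x⁻¹ * (k * x * k⁻¹) ∈ P.E) : x ∈ P.E := by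
  classical
  let φ : P.E → P.E := fun e =>
    ⟨e.1 * (k * e.1 * k⁻¹), mul_mem e.2 (P.D_norm_E (P.K_le hk) e.2)⟩
  have hinj : Function.Injective φ := by
    intro e₁ e₂ he
    have he' : e₁.1 * (k * e₁.1 * k⁻¹) = e₂.1 * (k * e₂.1 * k⁻¹) := congrArg Subtype.val he
    have h12 := mul_mem (inv_mem e₂.2) e₁.2
    refine Subtype.ext (inv_mul_eq_one.1 (P.K_fpf hk hk1 (P.E_le h12) ?_)).symm
    have h3 : k * (e₂.1⁻¹ * e₁.1) * k⁻¹ = e₂.1⁻¹ * e₁.1 := by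
      rw [P.E_inv e₂.2]
      calc k * (e₂.1 * e₁.1) * k⁻¹ = (k * e₂.1 * k⁻¹) * (k * e₁.1 * k⁻¹) := by group
        _ = e₂.1 * (e₂.1 * (k * e₂.1 * k⁻¹)) * (k * e₁.1 * k⁻¹) := by
            rw [← mul_assoc e₂.1, P.E_sq e₂.2, one_mul]
        _ = e₂.1 * (e₁.1 * (k * e₁.1 * k⁻¹)) * (k * e₁.1 * k⁻¹) := by rw [he']
        _ = e₂.1 * e₁.1 * ((k * e₁.1 * k⁻¹) * (k * e₁.1 * k⁻¹)) := by group
        _ = _ := by rw [P.E_sq (P.D_norm_E (P.K_le hk) e₁.2), mul_one]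
    exact mul_inv_eq_iff_eq_mul.1 h3
  obtain ⟨e, he⟩ := Finite.surjective_of_injective hinj ⟨_, h⟩
  have he' : e.1 * (k * e.1 * k⁻¹) = x⁻¹ * (k * x * k⁻¹) := congrArg Subtype.val he
  have hfix : k * (x * e.1) * k⁻¹ = x * e.1 := by
    calc k * (x * e.1) * k⁻¹ = x * (x⁻¹ * (k * x * k⁻¹)) * (k * e.1 * k⁻¹) := by group
      _ = x * e.1 * ((k * e.1 * k⁻¹) * (k * e.1 * k⁻¹)) := by rw [← he']; group
      _ = _ := by rw [P.E_sq (P.D_norm_E (P.K_le hk) e.2), mul_one]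
  have h1 := P.K_fpf hk hk1 (mul_mem hx (P.E_le e.2)) (mul_inv_eq_iff_eq_mul.1 hfix)
  rw [eq_inv_of_mul_eq_one_left h1]
  exact inv_mem e.2

/-- `G` is generated by `Q`, `D` and `t`. -/
theorem mem_closure_all (g : G) :
    g ∈ Subgroup.closure ((Q : Set G) ∪ (pairD G a t : Set G) ∪ {t}) := by
  set C := Subgroup.closure ((Q : Set G) ∪ (pairD G a t : Set G) ∪ {t})
  have hQ : ∀ x ∈ Q, x ∈ C := fun x hx => Subgroup.subset_closure (Or.inl (Or.inl hx))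
  have hA : ∀ x ∈ MulAction.stabilizer G a, x ∈ C := fun x hx => by
    obtain ⟨y, hy, d, hd, rfl⟩ := RankOne.exists_mem_mul P.hS hx
    exact mul_mem (hQ y hy) (Subgroup.subset_closure (Or.inl (Or.inr hd)))
  by_cases hg : g ∈ MulAction.stabilizer G a
  · exact hA g hg
  · obtain ⟨x, hx, y, hy, rfl⟩ := RankOne.exists_canonical P.hS hg
    exact mul_mem (mul_mem (hA x hx) (Subgroup.subset_closure (Or.inr rfl))) (hQ y hy)

/-- A subgroup containing `Q`, `t` and normalised by `D` is normal of odd index. -/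
theorem normal_odd_index {L : Subgroup G} (hQ : Q ≤ L) (ht : t ∈ L)
    (hD : ∀ d ∈ pairD G a t, ∀ x ∈ L, d * x * d⁻¹ ∈ L) : L.Normal ∧ Odd L.index := by
  have hN : ∀ g : G, ∀ x ∈ L, g * x * g⁻¹ ∈ L := by
    have hle : Subgroup.closure ((Q : Set G) ∪ (pairD G a t : Set G) ∪ {t}) ≤
        Subgroup.normalizer (L : Set G) := by
      rw [Subgroup.closure_le]
      rintro g ((hg | hg) | hg)
      · exact Subgroup.le_normalizer (hQ hg)
      · rw [SetLike.mem_coe, Subgroup.mem_normalizer_iff]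
        intro x
        refine ⟨fun hx => hD g hg x hx, fun hx => ?_⟩
        have := hD g⁻¹ (inv_mem hg) _ hx
        rwa [show g⁻¹ * (g * x * g⁻¹) * g⁻¹⁻¹ = x by group] at this
      · rw [Set.mem_singleton_iff] at hg
        subst hg
        exact Subgroup.le_normalizer ht
    intro g x hx
    exact (Subgroup.mem_normalizer_iff.1 (hle (P.mem_closure_all g)) x).1 hx
  refine ⟨⟨fun x hx g => hN g x hx⟩, ?_⟩
  obtain ⟨S, hS⟩ := RankOne.exists_sylow_le P.hS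
  haveI : Fact (Nat.Prime 2) := ⟨Nat.prime_two⟩
  rw [Nat.odd_iff, ← Nat.two_dvd_ne_zero]
  exact fun h => S.not_dvd_index (h.trans (Subgroup.index_dvd_of_le (hS.trans hQ)))

end Frame

end CfsgLib.SuzukiThm
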