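import Cfsg.Agent.SuzukiTheorem.OddPartEigen
import Cfsg.Agent.Turull73.Fix
import Cfsg.Agent.Solvable.Nilpotent
import Cfsg.Agent.BaseThree.Symp
import Mathlib

/-!
# A group of odd order acted on by `C_{2^p-1} : C_p` with cyclic fixed points of the complement

If the kernel is fixed point free then the group is abelian and its order is the `p`-th power of
the number of fixed points of the complement.
-/

set_option autoImplicit false
set_option linter.unusedSectionVars false
set_option linter.style.haveILetI false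

open scoped commutatorElement
open Finset

namespace CfsgLib.SuzukiThm.OddPart

universe u

variable {O : Type u} [Group O]

/-- The hypotheses of `abelian_of_frobenius`, without nilpotency. -/
structure Act (p : ℕ) (k v : MulAut O) : Prop where
  prime : p.Prime
  odd : Odd (Nat.card O)
  cop : (Nat.card O).Coprime p
  pow_k : k ^ (2 ^ p - 1) = 1
  fpf : ∀ i : ℕ, ¬ (2 ^ p - 1) ∣ i → ∀ x : O, (k ^ i) x = x → x = 1
  pow_v : v ^ p = 1
  rel : ∀ x, v (k x) = k (k (v x))
  cyc : ∃ g : O, v g = g ∧ ∀ x : O, v x = x → ∃ i : ℕ, x = g ^ i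

/-- The fixed points of an automorphism. -/
def fixd (v : MulAut O) : Subgroup O := MonoidHom.eqLocus v.toMonoidHom (MonoidHom.id O)

theorem mem_fixd {v : MulAut O} {x : O} : x ∈ fixd v ↔ v x = x := Iff.rfl

/-- The automorphism induced on an invariant subgroup. -/
noncomputable def subAut [Finite O] (φ : MulAut O) (A : Subgroup O) (h : ∀ x ∈ A, φ x ∈ A) : MulAut A :=
  MulEquiv.ofBijective ((φ.toMonoidHom.comp A.subtype).codRestrict A fun x => h _ x.2)
    (Finite.injective_iff_bijective.1 fun _ _ e =>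
      Subtype.ext (φ.injective (congrArg Subtype.val e)))

theorem subAut_val [Finite O] (φ : MulAut O) (A : Subgroup O) (h : ∀ x ∈ A, φ x ∈ A) (x : A) :
    (subAut φ A h x : O) = φ x := rfl

theorem subAut_pow_val [Finite O] (φ : MulAut O) (A : Subgroup O) (h : ∀ x ∈ A, φ x ∈ A) (i : ℕ)
    (x : A) : ((subAut φ A h ^ i) x : O) = (φ ^ i) x := by
  induction i with
  | zero => simp
  | succ i ih =>
    simp only [pow_succ', MulAut.mul_apply, subAut_val, ih]

theorem map_eq_of_invariant [Finite O] (φ : MulAut O) {N : Subgroup O} (h : ∀ x ∈ N, φ x ∈ N) :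
    N.map φ.toMonoidHom = N :=
  Subgroup.eq_of_le_of_card_ge (by rintro _ ⟨x, hx, rfl⟩; exact h x hx)
    (by rw [Subgroup.card_map_of_injective φ.injective])

/-- The automorphism induced on a quotient. -/
noncomputable def quoAut [Finite O] (φ : MulAut O) (N : Subgroup O) [N.Normal] (h : ∀ x ∈ N, φ x ∈ N) :
    MulAut (O ⧸ N) :=
  QuotientGroup.congr N N φ (map_eq_of_invariant φ h)

theorem quoAut_mk [Finite O] (φ : MulAut O) (N : Subgroup O) [N.Normal] (h : ∀ x ∈ N, φ x ∈ N) (x : O) :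
    quoAut φ N h (x : O ⧸ N) = ((φ x : O) : O ⧸ N) :=
  QuotientGroup.congr_mk N N φ _ x

theorem quoAut_pow_mk [Finite O] (φ : MulAut O) (N : Subgroup O) [N.Normal] (h : ∀ x ∈ N, φ x ∈ N)
    (i : ℕ) (x : O) : (quoAut φ N h ^ i) (x : O ⧸ N) = (((φ ^ i) x : O) : O ⧸ N) := by
  induction i with
  | zero => simp
  | succ i ih => rw [pow_succ', pow_succ', MulAut.mul_apply, MulAut.mul_apply, ih, quoAut_mk]

namespace Act

variable {p : ℕ} {k v : MulAut O} (H : Act p k v)
include H

theorem two_le : 2 ≤ p := H.prime.two_le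

theorem n_pos : 0 < 2 ^ p - 1 := by
  have h : 2 ^ 1 ≤ 2 ^ p := Nat.pow_le_pow_right (by norm_num) H.prime.one_lt.le
  omega

theorem exists_exponent {i : ℕ} (hi : ¬ (2 ^ p - 1) ∣ i) :
    ∃ r j : ℕ, r.Prime ∧ r ∣ 2 ^ p - 1 ∧ ¬ (2 ^ p - 1) ∣ i * j ∧ (2 ^ p - 1) ∣ i * j * r := by
  set n := 2 ^ p - 1 with hn
  have hn0 := H.n_pos
  obtain ⟨a, ha⟩ := Nat.gcd_dvd_right i n
  have ha1 : a ≠ 1 := fun h => hi (by rw [ha, h, mul_one]; exact Nat.gcd_dvd_left i n)
  obtain ⟨r, hr, b, hb⟩ := Nat.exists_prime_and_dvd ha1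
  have hg0 : 0 < Nat.gcd i n := Nat.gcd_pos_of_pos_right _ hn0
  have hb0 : 0 < b := Nat.pos_of_ne_zero fun h => by rw [h, mul_zero] at hb; rw [hb, mul_zero] at ha; omega
  obtain ⟨c, hc⟩ := Nat.gcd_dvd_left i n
  refine ⟨r, b, hr, ?_, fun h => ?_, ⟨c, ?_⟩⟩
  · rw [ha, hb]; exact ⟨Nat.gcd i n * b, by ring⟩
  · have h1 : n ∣ Nat.gcd i n * b := by
      rw [← Nat.gcd_mul_right]
      exact Nat.dvd_gcd h (dvd_mul_right n b)
    have h2 := Nat.le_of_dvd (Nat.mul_pos hg0 hb0) h1
    have h3 : Nat.gcd i n * b < n :=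
      calc Nat.gcd i n * b < Nat.gcd i n * (r * b) :=
            Nat.mul_lt_mul_of_pos_left (lt_mul_of_one_lt_left hb0 hr.one_lt) hg0
        _ = n := by rw [← hb, ← ha]
    omega
  · calc i * b * r = (Nat.gcd i n * c) * b * r := by rw [← hc]
      _ = (Nat.gcd i n * (r * b)) * c := by ring
      _ = n * c := by rw [← hb, ← ha]

variable [Finite O]

theorem coprime_n : (2 ^ p - 1).Coprime (Nat.card O) := by
  classical
  refine Nat.coprime_of_dvd fun r hr hrn hrO => ?_
  haveI := Fact.mk hr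
  haveI := Fintype.ofFinite O
  obtain ⟨b, hb⟩ := hrn
  have hb0 : 0 < b := Nat.pos_of_ne_zero fun h => by have := H.n_pos; rw [hb, h, mul_zero] at this; omega
  have hnb : ¬ (2 ^ p - 1) ∣ b := fun h => by
    have := Nat.le_of_dvd hb0 h
    rw [hb] at this
    nlinarith [hr.two_le]
  let σ : Equiv.Perm O := (k ^ b).toEquiv
  have hσ : σ ^ r ^ 1 = 1 := by
    have hval : ∀ (m : ℕ) (x : O), (σ ^ m) x = ((k ^ b) ^ m) x := by
      intro m
      induction m with
      | zero => intro x; rfl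
      | succ m ih => intro x; rw [pow_succ', pow_succ', Equiv.Perm.mul_apply, MulAut.mul_apply, ih]; rfl
    ext x
    rw [pow_one, hval, ← pow_mul, mul_comm, ← hb, H.pow_k]
    rfl
  rw [Nat.card_eq_fintype_card] at hrO
  obtain ⟨x, hx, hx1⟩ := Equiv.Perm.exists_fixed_point_of_prime' hrO hσ (a := (1 : O)) (map_one (k ^ b))
  exact hx1 (H.fpf b hnb x hx)

theorem fixed_lift {N : Subgroup O} (hv : ∀ x ∈ N, v x ∈ N) {x : O} (hx : x⁻¹ * v x ∈ N) :
    ∃ c ∈ fixd v, x⁻¹ * c ∈ N :=
  Turull73.exists_fixed_of_stable_coset H.prime v H.pow_v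
    ((Nat.Prime.coprime_iff_not_dvd H.prime).1 H.cop.symm) hv hx

theorem restrict (A : Subgroup O) (hk : ∀ x ∈ A, k x ∈ A) (hv : ∀ x ∈ A, v x ∈ A) :
    Act p (subAut k A hk) (subAut v A hv) where
  prime := H.prime
  odd := H.odd.of_dvd_nat (Subgroup.card_subgroup_dvd_card A)
  cop := Nat.Coprime.coprime_dvd_left (Subgroup.card_subgroup_dvd_card A) H.cop
  pow_k := MulEquiv.ext fun x => Subtype.ext (by rw [subAut_pow_val, H.pow_k]; rfl)
  fpf := fun i hi x hx => Subtype.ext (H.fpf i hi x (by rw [← subAut_pow_val k A hk]; rw [hx]))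
  pow_v := MulEquiv.ext fun x => Subtype.ext (by rw [subAut_pow_val, H.pow_v]; rfl)
  rel := fun x => Subtype.ext (H.rel x)
  cyc := by
    obtain ⟨g, hg, hgen⟩ := H.cyc
    haveI : IsCyclic (fixd v) := ⟨⟨g, hg⟩, fun x => by
      obtain ⟨i, hi⟩ := hgen x.1 x.2
      exact ⟨i, Subtype.ext (by simp [hi])⟩⟩
    haveI : IsCyclic ↥(A ⊓ fixd v) := isCyclic_of_injective (Subgroup.inclusion inf_le_right)
      (Subgroup.inclusion_injective _)
    obtain ⟨c, hc⟩ := IsCyclic.exists_monoid_generator (α := ↥(A ⊓ fixd v))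
    refine ⟨⟨c.1, c.2.1⟩, Subtype.ext c.2.2, fun x hx => ?_⟩
    obtain ⟨i, hi⟩ := hc ⟨x.1, x.2, congrArg Subtype.val hx⟩
    exact ⟨i, Subtype.ext (by rw [Subgroup.coe_pow]; exact (congrArg (fun z => (z.1 : O)) hi).symm)⟩

theorem quotient (N : Subgroup O) [N.Normal] (hk : ∀ x ∈ N, k x ∈ N) (hv : ∀ x ∈ N, v x ∈ N) :
    Act p (quoAut k N hk) (quoAut v N hv) where
  prime := H.prime
  odd := H.odd.of_dvd_nat (Subgroup.card_quotient_dvd_card N)
  cop := Nat.Coprime.coprime_dvd_left (Subgroup.card_quotient_dvd_card N) H.cop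
  pow_k := MulEquiv.ext fun x => QuotientGroup.induction_on x fun y => by
    rw [quoAut_pow_mk, H.pow_k]; rfl
  fpf := fun i hi x => QuotientGroup.induction_on x fun y hy => by
    rw [quoAut_pow_mk, eq_comm, QuotientGroup.eq] at hy
    obtain ⟨r, j, hr, hrn, hij, hijr⟩ := H.exists_exponent hi
    have hinv : ∀ (m : ℕ), ∀ z ∈ N, (k ^ m) z ∈ N := by
      intro m
      induction m with
      | zero => intro z hz; exact hz
      | succ m ih => intro z hz; rw [pow_succ']; exact hk _ (ih z hz)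
    have hy' : y⁻¹ * (k ^ (i * j)) y ∈ N := by
      clear hij hijr
      induction j with
      | zero => simp
      | succ j ih =>
        rw [Nat.mul_succ, Nat.add_comm, pow_add, MulAut.mul_apply]
        have := mul_mem hy (hinv i _ ih)
        rwa [map_mul, map_inv, mul_assoc, mul_inv_cancel_left] at this
    have hcop : ¬ r ∣ Nat.card O := fun h => hr.one_lt.ne'
      (Nat.dvd_one.1 (H.coprime_n ▸ Nat.dvd_gcd hrn h))
    have hpow : (k ^ (i * j)) ^ r = 1 := by
      rw [← pow_mul]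
      obtain ⟨a, ha⟩ := hijr
      rw [ha, pow_mul, H.pow_k, one_pow]
    obtain ⟨c, hc, hcN⟩ :=
      Turull73.exists_fixed_of_stable_coset hr _ hpow hcop (fun z hz => hinv _ z hz) hy'
    rw [H.fpf _ hij c hc, mul_one, inv_mem_iff] at hcN
    exact (QuotientGroup.eq_one_iff y).2 hcN
  pow_v := MulEquiv.ext fun x => QuotientGroup.induction_on x fun y => by
    rw [quoAut_pow_mk, H.pow_v]; rfl
  rel := fun x => QuotientGroup.induction_on x fun y => by
    simp only [quoAut_mk, H.rel]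
  cyc := by
    obtain ⟨g, hg, hgen⟩ := H.cyc
    refine ⟨(g : O ⧸ N), by rw [quoAut_mk, hg], fun x => QuotientGroup.induction_on x fun y hy => ?_⟩
    rw [quoAut_mk, eq_comm, QuotientGroup.eq] at hy
    obtain ⟨c, hc, hcN⟩ := H.fixed_lift hv hy
    obtain ⟨i, rfl⟩ := hgen c hc
    exact ⟨i, by rw [← QuotientGroup.mk_pow]; exact QuotientGroup.eq.2 hcN⟩

/-- Fixed points multiply along an invariant normal subgroup. -/
theorem card_fixd_quotient (N : Subgroup O) [N.Normal] (hv : ∀ x ∈ N, v x ∈ N) :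
    Nat.card (fixd v) = Nat.card (fixd (subAut v N hv)) * Nat.card (fixd (quoAut v N hv)) := by
  let f : fixd v →* fixd (quoAut v N hv) :=
    ((QuotientGroup.mk' N).comp (fixd v).subtype).codRestrict _ fun x => by
      rw [mem_fixd]
      exact (quoAut_mk v N hv x.1).trans (by rw [mem_fixd.1 x.2]; rfl)
  have hf : Function.Surjective f := fun x => by
    obtain ⟨y, hy⟩ := QuotientGroup.mk_surjective x.1
    have h := mem_fixd.1 x.2
    rw [← hy, quoAut_mk, eq_comm, QuotientGroup.eq] at h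
    obtain ⟨c, hc, hcN⟩ := H.fixed_lift hv h
    exact ⟨⟨c, hc⟩, Subtype.ext ((QuotientGroup.eq.2 hcN).symm.trans hy)⟩
  have hker : Nat.card f.ker = Nat.card (fixd (subAut v N hv)) :=
    Nat.card_congr
      { toFun := fun x => ⟨⟨x.1.1, (QuotientGroup.eq_one_iff _).1 (congrArg Subtype.val x.2)⟩,
          Subtype.ext x.1.2⟩
        invFun := fun x => ⟨⟨x.1.1, congrArg Subtype.val x.2⟩,
          Subtype.ext ((QuotientGroup.eq_one_iff _).2 x.1.2)⟩
        left_inv := fun _ => rfl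
        right_inv := fun _ => rfl }
  rw [← hker, ← Nat.card_congr (QuotientGroup.quotientKerEquivOfSurjective f hf).toEquiv,
    mul_comm, ← Subgroup.card_eq_card_quotient_mul_card_subgroup]

end Act

section Elementary

variable {A : Type u} [CommGroup A] [Finite A] {p ℓ : ℕ} [Fact ℓ.Prime] {k v : MulAut A}

theorem exists_mod [Nontrivial A] (H : Act p k v) (hexp : ∀ x : A, x ^ ℓ = 1) :
    (Nat.card A = ℓ ^ p ∧ Nat.card (fixd v) = ℓ) ∧
      ∀ β : A →* A →* A, (∀ x y, β x y = (β y x)⁻¹) → (∀ x y, β (k x) (k y) = k (β x y)) →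
        ∀ x y, β x y = 1 := by
  classical
  obtain ⟨inst⟩ : Nonempty (Module (ZMod ℓ) (Additive A)) :=
    ⟨AddCommGroup.zmodModule fun x => Additive.toMul.injective (by rw [toMul_nsmul, hexp]; rfl)⟩
  let T : Module.End (ZMod ℓ) (Additive A) := (MonoidHom.toAdditive k.toMonoidHom).toZModLinearMap ℓ
  let U : Module.End (ZMod ℓ) (Additive A) := (MonoidHom.toAdditive v⁻¹.toMonoidHom).toZModLinearMap ℓ
  have hT : ∀ (i : ℕ) (x : A), (T ^ i) (Additive.ofMul x) = Additive.ofMul ((k ^ i) x) := by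
    intro i x
    induction i with
    | zero => simp
    | succ i ih => rw [pow_succ', Module.End.mul_apply, ih, pow_succ']; rfl
  have hU : ∀ (i : ℕ) (x : A), (U ^ i) (Additive.ofMul x) = Additive.ofMul ((v⁻¹ ^ i) x) := by
    intro i x
    induction i with
    | zero => simp
    | succ i ih => rw [pow_succ', Module.End.mul_apply, ih, pow_succ']; rfl
  have hrel : ∀ x, k (v⁻¹ x) = v⁻¹ (k (k x)) := fun x => v.injective (by
    rw [MulAut.apply_inv_self, H.rel, MulAut.apply_inv_self])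
  obtain ⟨g, hg, hgen⟩ := H.cyc
  have hℓn : ¬ ℓ ∣ 2 ^ p - 1 := fun h => (Fact.out : ℓ.Prime).one_lt.ne' (Nat.dvd_one.1 (by
    obtain ⟨a, ha⟩ := exists_ne (1 : A)
    have hdvd : ℓ ∣ Nat.card A := orderOf_eq_prime (hexp a) ha ▸ orderOf_dvd_natCard a
    exact H.coprime_n ▸ Nat.dvd_gcd h hdvd))
  have M : Mod p T U (Additive.ofMul g) := by
    refine ⟨H.two_le, ?_, ?_, ?_, ?_, ?_, ?_⟩
    · exact fun h => hℓn ((ZMod.natCast_eq_zero_iff _ _).1 h)
    · refine LinearMap.ext fun z => ?_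
      obtain ⟨x, rfl⟩ := Additive.ofMul.surjective z
      rw [hT, H.pow_k]; rfl
    · refine LinearMap.ext fun z => ?_
      obtain ⟨x, rfl⟩ := Additive.ofMul.surjective z
      rw [hU, inv_pow, H.pow_v, inv_one]; rfl
    · refine LinearMap.ext fun z => ?_
      obtain ⟨x, rfl⟩ := Additive.ofMul.surjective z
      exact congrArg Additive.ofMul (hrel x)
    · intro i hi z hz
      obtain ⟨x, rfl⟩ := Additive.ofMul.surjective z
      rw [hT] at hz
      rw [H.fpf i hi x (Additive.ofMul.injective hz)]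
      rfl
    · intro z
      set y := ∑ i ∈ range p, (U ^ i) z with hy
      have hUy : U y = y := by
        rw [hy, map_sum]
        have h := (sum_range_succ' (fun i => (U ^ i) z) p).symm.trans (sum_range_succ _ p)
        have hUp : U ^ p = 1 := by
          refine LinearMap.ext fun w => ?_
          obtain ⟨x, rfl⟩ := Additive.ofMul.surjective w
          rw [hU, inv_pow, H.pow_v, inv_one]; rfl
        rw [pow_zero, hUp, add_right_cancel_iff] at h
        exact Eq.trans (sum_congr rfl fun i _ => by rw [← Module.End.mul_apply, ← pow_succ']) h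
      obtain ⟨x, hx⟩ := Additive.ofMul.surjective y
      have hfix : v x = x := by
        rw [← hx] at hUy
        have h1 : v⁻¹ x = x := Additive.ofMul.injective hUy
        conv_lhs => rw [← h1]
        exact MulAut.apply_inv_self _ _ _
      obtain ⟨i, rfl⟩ := hgen x hfix
      exact ⟨(i : ZMod ℓ), by rw [← hx, Nat.cast_smul_eq_nsmul, ofMul_pow]⟩
  haveI : Nontrivial (Additive A) := inferInstance
  haveI : FiniteDimensional (ZMod ℓ) (Additive A) := Module.Finite.of_finite
  refine ⟨⟨?_, ?_⟩, fun β hskew heq x y => ?_⟩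
  · rw [← Nat.card_congr (Additive.ofMul (α := A)).symm,
      Module.natCard_eq_pow_finrank (K := ZMod ℓ), Nat.card_zmod, M.finrank_eq]
  · have heq : fixd v = Subgroup.zpowers g := le_antisymm
      (fun x hx => by obtain ⟨i, rfl⟩ := hgen x hx; exact pow_mem (Subgroup.mem_zpowers g) i)
      (Subgroup.zpowers_le.2 hg)
    have hg1 : g ≠ 1 := fun h => by
      obtain ⟨z, hz⟩ := M.exists_norm_ne_zero
      obtain ⟨a, ha⟩ := M.norm_mem z
      rw [h] at ha
      exact hz (by rw [ha, show Additive.ofMul (1 : A) = 0 from rfl, smul_zero])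
    rw [heq, Nat.card_zpowers, orderOf_eq_prime (hexp g) hg1]
  · have h2 : (2 : ZMod ℓ) ≠ 0 := fun h => by
      have h' : ℓ ∣ 2 := (ZMod.natCast_eq_zero_iff 2 ℓ).1 (by exact_mod_cast h)
      obtain ⟨a, ha⟩ := exists_ne (1 : A)
      have hodd := H.odd.of_dvd_nat (orderOf_eq_prime (hexp a) ha ▸ orderOf_dvd_natCard a)
      rcases (Nat.dvd_prime Nat.prime_two).1 h' with e | e
      · exact (Fact.out : ℓ.Prime).ne_one e
      · rw [e] at hodd; exact absurd hodd (by decide)
    let β' : Additive A →ₗ[ZMod ℓ] Additive A →ₗ[ZMod ℓ] Additive A :=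
      (AddMonoidHom.mk' (fun a => (MonoidHom.toAdditive (β a.toMul)).toZModLinearMap ℓ) fun a b => by
        refine LinearMap.ext fun c => ?_
        exact congrArg Additive.ofMul (by rw [toMul_add, map_mul, MonoidHom.mul_apply]; rfl)).toZModLinearMap ℓ
    have h0 := M.equivariant_eq_zero h2 β' (fun a b => congrArg Additive.ofMul (hskew _ _))
      (fun a b => congrArg Additive.ofMul (heq _ _))
    exact congrArg Additive.toMul
      (LinearMap.congr_fun (LinearMap.congr_fun h0 (Additive.ofMul x)) (Additive.ofMul y))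

end Elementary

/-- The elements of the centre killed by `ℓ`. -/
def omegaCenter (O : Type u) [Group O] (ℓ : ℕ) : Subgroup O where
  carrier := {x | x ∈ Subgroup.center O ∧ x ^ ℓ = 1}
  one_mem' := ⟨one_mem _, one_pow _⟩
  mul_mem' := fun {x y} hx hy => ⟨mul_mem hx.1 hy.1, by
    rw [(show Commute x y from (Subgroup.mem_center_iff.1 hx.1 y).symm).mul_pow, hx.2, hy.2, one_mul]⟩
  inv_mem' := fun {x} hx => ⟨inv_mem hx.1, by rw [inv_pow, hx.2, inv_one]⟩

theorem mem_omegaCenter {ℓ : ℕ} {x : O} :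
    x ∈ omegaCenter O ℓ ↔ x ∈ Subgroup.center O ∧ x ^ ℓ = 1 := Iff.rfl

instance (ℓ : ℕ) : (omegaCenter O ℓ).Normal :=
  ⟨fun x hx g => by
    rw [Subgroup.mem_center_iff.1 hx.1 g, mul_inv_cancel_right]; exact hx⟩

theorem omegaCenter_invariant (φ : MulAut O) {ℓ : ℕ} {x : O} (hx : x ∈ omegaCenter O ℓ) :
    φ x ∈ omegaCenter O ℓ := by
  refine ⟨Subgroup.mem_center_iff.2 fun g => ?_, by rw [← map_pow, hx.2, map_one]⟩
  have h := congrArg φ (Subgroup.mem_center_iff.1 hx.1 (φ⁻¹ g))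
  rwa [map_mul, map_mul, MulAut.apply_inv_self] at h

theorem omegaCenter_ne_bot [Finite O] [Group.IsNilpotent O] {ℓ : ℕ} [Fact ℓ.Prime]
    (h : ℓ ∣ Nat.card O) : omegaCenter O ℓ ≠ ⊥ := by
  intro hbot
  obtain ⟨S⟩ : Nonempty (Sylow ℓ O) := inferInstance
  haveI : (S : Subgroup O).Normal := inferInstance
  have hne : (S : Subgroup O) ⊓ Subgroup.center O ≠ ⊥ :=
    Solvable.inf_center_ne_bot (Sylow.ne_bot_of_dvd_card S h)
  haveI : Nontrivial ↥((S : Subgroup O) ⊓ Subgroup.center O) := (Subgroup.nontrivial_iff_ne_bot _).2 hne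
  obtain ⟨m, hm, hcard⟩ := (S.isPGroup'.to_le inf_le_left).nontrivial_iff_card.1 this
  obtain ⟨x, hx⟩ := exists_prime_orderOf_dvd_card' (G := ↥((S : Subgroup O) ⊓ Subgroup.center O)) ℓ
    (hcard ▸ dvd_pow_self ℓ hm.ne')
  have hx' : (x : O) ∈ omegaCenter O ℓ := ⟨x.2.2, by
    rw [← Subgroup.coe_pow, show x ^ ℓ = 1 from orderOf_dvd_iff_pow_eq_one.1 hx.dvd, Subgroup.coe_one]⟩
  rw [hbot, Subgroup.mem_bot] at hx'
  rw [Subtype.ext (a2 := (1 : ↥((S : Subgroup O) ⊓ Subgroup.center O))) hx', orderOf_one] at hx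
  exact (Fact.out : ℓ.Prime).ne_one hx.symm

section Main

variable [Finite O] [Group.IsNilpotent O] {p ℓ : ℕ} [Fact ℓ.Prime] {k v : MulAut O}

theorem omega_data (H : Act p k v) (h : ℓ ∣ Nat.card O) :
    let W := omegaCenter O ℓ
    let v' := subAut v W fun _ hx => omegaCenter_invariant v hx
    Nat.card W = ℓ ^ p ∧ Nat.card (fixd v') = ℓ := by
  intro W v'
  letI : CommGroup W := { (inferInstance : Group W) with
    mul_comm := fun a b => Subtype.ext (Subgroup.mem_center_iff.1 b.2.1 a.1) }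
  haveI : Nontrivial W := (Subgroup.nontrivial_iff_ne_bot _).2 (omegaCenter_ne_bot h)
  exact (exists_mod (ℓ := ℓ) (H.restrict W (fun _ hx => omegaCenter_invariant k hx)
    fun _ hx => omegaCenter_invariant v hx) fun x => Subtype.ext x.2.2).1

end Main

theorem card_eq_aux {p : ℕ} (n : ℕ) : ∀ (O : Type u) [Group O] [Finite O] [Group.IsNilpotent O]
    (k v : MulAut O), Act p k v → Nat.card O = n → n = Nat.card (fixd v) ^ p := by
  induction n using Nat.strong_induction_on with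
  | _ n ih =>
    intro O _ _ _ k v H hn
    rcases eq_or_ne n 1 with rfl | hn1
    · haveI : Subsingleton O := (Nat.card_eq_one_iff_unique.1 hn).1
      rw [Nat.card_eq_one_iff_unique.2 ⟨inferInstance, inferInstance⟩, one_pow]
    obtain ⟨ℓ, hℓ, hdvd⟩ := Nat.exists_prime_and_dvd hn1
    haveI := Fact.mk hℓ
    obtain ⟨hW, hF⟩ := omega_data (ℓ := ℓ) H (hn ▸ hdvd)
    set W := omegaCenter O ℓ
    have hv : ∀ x ∈ W, v x ∈ W := fun _ hx => omegaCenter_invariant v hx
    have hk : ∀ x ∈ W, k x ∈ W := fun _ hx => omegaCenter_invariant k hx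
    have hcard := Subgroup.card_eq_card_quotient_mul_card_subgroup W
    have hlt : Nat.card (O ⧸ W) < n := by
      rw [← hn, hcard]
      exact lt_mul_right Nat.card_pos (hW ▸ Nat.one_lt_pow H.prime.pos.ne' hℓ.one_lt)
    have hq := ih _ hlt (O ⧸ W) _ _ (H.quotient W hk hv) rfl
    rw [← hn, hcard, H.card_fixd_quotient W hv, hq, hW, hF, mul_pow, mul_comm]

/-- The order of a group with the given action. -/
theorem Act.card_eq [Finite O] [Group.IsNilpotent O] {p : ℕ} {k v : MulAut O} (H : Act p k v) :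
    Nat.card O = Nat.card (fixd v) ^ p :=
  card_eq_aux _ O k v H rfl

theorem comm_aux {p : ℕ} (n : ℕ) : ∀ (O : Type u) [Group O] [Finite O] [Group.IsNilpotent O]
    (k v : MulAut O), Act p k v → Nat.card O = n → ∀ x y : O, x * y = y * x := by
  induction n using Nat.strong_induction_on with
  | _ n ih =>
    intro O _ _ _ k v H hn x₀ y₀
    rcases eq_or_ne n 1 with rfl | hn1
    · haveI : Subsingleton O := (Nat.card_eq_one_iff_unique.1 hn).1
      exact Subsingleton.elim _ _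
    -- commutators lie in every minimal central piece
    have hcomW : ∀ ℓ : ℕ, ℓ.Prime → ℓ ∣ n → ∀ x y : O, ⁅x, y⁆ ∈ omegaCenter O ℓ := by
      intro ℓ hℓ hdvd x y
      haveI := Fact.mk hℓ
      obtain ⟨hW, -⟩ := omega_data (ℓ := ℓ) H (hn ▸ hdvd)
      have hlt : Nat.card (O ⧸ omegaCenter O ℓ) < n := by
        rw [← hn, Subgroup.card_eq_card_quotient_mul_card_subgroup (omegaCenter O ℓ)]
        exact lt_mul_right Nat.card_pos (hW ▸ Nat.one_lt_pow H.prime.pos.ne' hℓ.one_lt)
      have h := ih _ hlt _ _ _ (H.quotient (omegaCenter O ℓ) (fun _ => omegaCenter_invariant k)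
        fun _ => omegaCenter_invariant v) rfl (x : O ⧸ omegaCenter O ℓ) y
      rw [← QuotientGroup.eq_one_iff, commutatorElement_def, QuotientGroup.mk_mul, QuotientGroup.mk_mul,
        QuotientGroup.mk_mul, QuotientGroup.mk_inv, QuotientGroup.mk_inv, h]
      group
    obtain ⟨ℓ, hℓ, hdvd⟩ := Nat.exists_prime_and_dvd hn1
    haveI := Fact.mk hℓ
    have hmk : ⁅x₀, y₀⁆ = 1 → x₀ * y₀ = y₀ * x₀ := commutatorElement_eq_one_iff_mul_comm.1
    by_cases hpp : ∀ m : ℕ, m.Prime → m ∣ n → m = ℓ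
    swap
    · push Not at hpp
      obtain ⟨m, hm, hmn, hne⟩ := hpp
      refine hmk (orderOf_eq_one_iff.1 (Nat.dvd_one.1 ?_))
      rw [← (Nat.coprime_primes hℓ hm).2 hne.symm]
      exact Nat.dvd_gcd (orderOf_dvd_of_pow_eq_one (hcomW ℓ hℓ hdvd x₀ y₀).2)
        (orderOf_dvd_of_pow_eq_one (hcomW m hm hmn x₀ y₀).2)
    set W := omegaCenter O ℓ
    have hWk : ∀ x ∈ W, k x ∈ W := fun _ => omegaCenter_invariant k
    have hWv : ∀ x ∈ W, v x ∈ W := fun _ => omegaCenter_invariant v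
    obtain ⟨hW, hF⟩ := omega_data (ℓ := ℓ) H (hn ▸ hdvd)
    have hcom : ∀ x y : O, ⁅x, y⁆ ∈ W := hcomW ℓ hℓ hdvd
    obtain ⟨g, hg, hgen⟩ := H.cyc
    have hfix : fixd v = Subgroup.zpowers g := le_antisymm
      (fun x hx => by obtain ⟨i, rfl⟩ := hgen x hx; exact pow_mem (Subgroup.mem_zpowers g) i)
      (Subgroup.zpowers_le.2 hg)
    have hordg : ∃ e, orderOf g = ℓ ^ (e + 1) := by
      have h1 : orderOf g ∣ ℓ ^ (n.primeFactorsList.length) := by
        rw [← Nat.eq_prime_pow_of_unique_prime_dvd (by rw [← hn]; exact Nat.card_pos.ne')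
          (fun {d} hd hdn => hpp d hd hdn), ← hn]
        exact orderOf_dvd_natCard g
      obtain ⟨e, -, he⟩ := (Nat.dvd_prime_pow hℓ).1 h1
      rcases e with _ | e
      · exfalso
        have := H.card_eq
        rw [hfix, Nat.card_zpowers, he, pow_zero, one_pow, hn] at this
        exact hn1 this
      · exact ⟨e, he⟩
    obtain ⟨e, he⟩ := hordg
    obtain ⟨q, hq⟩ : ∃ q, q = ℓ ^ e := ⟨_, rfl⟩
    rcases Nat.eq_zero_or_pos e with rfl | he0
    · have htop : W = ⊤ := Subgroup.eq_top_of_le_card W (by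
        rw [H.card_eq, hfix, Nat.card_zpowers, he, hW, zero_add, pow_one])
      exact (Subgroup.mem_center_iff.1 (htop ▸ Subgroup.mem_top x₀ : x₀ ∈ W).1 y₀).symm
    have hℓ2 : Odd ℓ := H.odd.of_dvd_nat (hn ▸ hdvd)
    have hℓq : ℓ ∣ q := hq ▸ dvd_pow_self ℓ he0.ne'
    have hqc : ℓ ∣ q.choose 2 := by
      rw [Nat.choose_two_right]
      have hqo : Odd q := hq ▸ hℓ2.pow
      obtain ⟨a, ha⟩ := hqo
      rw [show q * (q - 1) / 2 = q * a by rw [ha, show 2 * a + 1 - 1 = 2 * a by omega,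
        mul_left_comm, Nat.mul_div_cancel_left _ (by norm_num : 0 < 2)]]
      exact hℓq.mul_right a
    have hcen : ∀ x y z : O, Commute ⁅x, y⁆ z := fun x y z =>
      (Subgroup.mem_center_iff.1 (hcom x y).1 z).symm
    have hpow : ∀ x y : O, (x * y) ^ q = x ^ q * y ^ q := by
      intro x y
      have hyx : y * x = x * y * ⁅y⁻¹, x⁻¹⁆ := by rw [commutatorElement_def]; group
      rw [BaseThree.mul_pow_of_central hyx (hcen _ _ _) (hcen _ _ _)]
      obtain ⟨a, ha⟩ := hqc
      rw [ha, pow_mul, (hcom _ _).2, one_pow, mul_one]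
    let π : O →* O := MonoidHom.mk' (fun x => x ^ q) hpow
    have hgq : g ^ q ∈ W := by
      have h1 : v (g ^ q) = g ^ q := by rw [map_pow, hg]
      haveI : Nontrivial ↥(fixd (subAut v W hWv)) :=
        Finite.one_lt_card_iff_nontrivial.1 (hF ▸ hℓ.one_lt)
      obtain ⟨z, hz1⟩ := exists_ne (1 : ↥(fixd (subAut v W hWv)))
      obtain ⟨i, hi⟩ := hgen z.1.1 (congrArg Subtype.val z.2)
      have hz : (g ^ i) ^ ℓ = 1 := hi ▸ z.1.2.2
      rw [← pow_mul, ← orderOf_dvd_iff_pow_eq_one, he, pow_succ,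
        Nat.mul_dvd_mul_iff_right hℓ.pos] at hz
      obtain ⟨j, rfl⟩ := hz
      rw [← hq, pow_mul] at hi
      have hj : ¬ ℓ ∣ j := by
        rintro ⟨a, rfl⟩
        apply hz1
        have : (z.1.1 : O) = 1 := by
          rw [hi, ← pow_mul, hq, ← mul_assoc, ← pow_succ, ← he, pow_mul, pow_orderOf_eq_one, one_pow]
        exact Subtype.ext (Subtype.ext this)
      obtain ⟨m, hm⟩ := exists_pow_eq_self_of_coprime (x := g ^ q) (n := j) (by
        have : orderOf (g ^ q) ∣ ℓ := orderOf_dvd_of_pow_eq_one (by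
          rw [← pow_mul, hq, ← pow_succ, ← he, pow_orderOf_eq_one])
        exact Nat.Coprime.coprime_dvd_right this ((Nat.Prime.coprime_iff_not_dvd hℓ).2 hj).symm)
      rw [← hm, ← hi]
      exact pow_mem z.1.2 m
    have hgq1 : g ^ q ≠ 1 := fun h => by
      have := Nat.le_of_dvd (by rw [hq]; exact pow_pos hℓ.pos e) (orderOf_dvd_of_pow_eq_one h)
      rw [he, hq, pow_succ] at this
      nlinarith [pow_pos hℓ.pos e, hℓ.two_le]
    -- `x ^ q ∈ W` for all `x`
    let K₀ : Subgroup O := W.comap π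
    have hK₀n : K₀.Normal := inferInstance
    have hK₀ : ∀ φ : MulAut O, ∀ x ∈ K₀, φ x ∈ K₀ := fun φ x hx => by
      show φ x ^ q ∈ W
      rw [← map_pow]
      exact omegaCenter_invariant φ hx
    have hall : ∀ x : O, x ^ q ∈ W := by
      have hQ := (H.quotient K₀ (hK₀ k) (hK₀ v)).card_eq
      have hf : fixd (quoAut v K₀ (hK₀ v)) = ⊥ := by
        rw [eq_bot_iff]
        intro x
        refine QuotientGroup.induction_on x fun y hy => ?_
        rw [mem_fixd, quoAut_mk, eq_comm, QuotientGroup.eq] at hy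
        obtain ⟨c, hc, hcK⟩ := H.fixed_lift (hK₀ v) hy
        obtain ⟨i, rfl⟩ := hgen c hc
        have hgK : g ∈ K₀ := hgq
        have : g ^ i ∈ K₀ := pow_mem hgK i
        rw [Subgroup.mem_bot, QuotientGroup.eq_one_iff]
        have h2 := mul_mem this (inv_mem hcK)
        rwa [mul_inv_rev, inv_inv, mul_inv_cancel_left] at h2
      rw [hf, Subgroup.card_bot, one_pow] at hQ
      intro x
      show x ∈ K₀
      rw [(Subgroup.index_eq_one.1 hQ : K₀ = ⊤)]
      exact Subgroup.mem_top x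
    let ψ : O →* W := MonoidHom.codRestrict π W hall
    have hψ : ∀ x, (ψ x : O) = x ^ q := fun _ => rfl
    have hψi : ∀ φ : MulAut O, ∀ x ∈ ψ.ker, φ x ∈ ψ.ker := fun φ x hx => by
      rw [MonoidHom.mem_ker] at hx ⊢
      exact Subtype.ext (by rw [hψ, ← map_pow, ← hψ, hx, Subgroup.coe_one, map_one])
    have hindex : Nat.card (O ⧸ ψ.ker) = ℓ ^ p ∧ Function.Surjective ψ := by
      have hQ := (H.quotient ψ.ker (hψi k) (hψi v)).card_eq
      have hne : ℓ ≤ Nat.card (fixd (quoAut v ψ.ker (hψi v))) := by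
        have hmem : (g : O ⧸ ψ.ker) ∈ fixd (quoAut v ψ.ker (hψi v)) := by
          rw [mem_fixd, quoAut_mk, hg]
        have h1 : orderOf (g : O ⧸ ψ.ker) ∣ ℓ ^ (e + 1) := he ▸ orderOf_map_dvd (QuotientGroup.mk' ψ.ker) g
        obtain ⟨a, -, ha⟩ := (Nat.dvd_prime_pow hℓ).1 h1
        have ha0 : a ≠ 0 := by
          rintro rfl
          rw [pow_zero, orderOf_eq_one_iff, QuotientGroup.eq_one_iff, MonoidHom.mem_ker] at ha
          exact hgq1 (by rw [← hψ, ha]; rfl)
        calc ℓ ≤ ℓ ^ a := Nat.le_self_pow ha0 ℓ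
          _ = Nat.card (Subgroup.zpowers (g : O ⧸ ψ.ker)) := by rw [Nat.card_zpowers, ha]
          _ ≤ _ := Subgroup.card_le_of_le (Subgroup.zpowers_le.2 hmem)
      have hle : Nat.card (O ⧸ ψ.ker) ≤ ℓ ^ p := by
        rw [Nat.card_congr (QuotientGroup.quotientKerEquivRange ψ).toEquiv, ← hW]
        exact Subgroup.card_le_card_group _
      have hge : ℓ ^ p ≤ Nat.card (O ⧸ ψ.ker) := hQ ▸ Nat.pow_le_pow_left hne p
      refine ⟨le_antisymm hle hge, MonoidHom.range_eq_top.1 (Subgroup.eq_top_of_le_card _ ?_)⟩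
      rw [← Nat.card_congr (QuotientGroup.quotientKerEquivRange ψ).toEquiv, hW]
      exact hge
    -- the kernel is central
    let M : Subgroup O := Subgroup.center O ⊓ ψ.ker
    have hMk : ∀ φ : MulAut O, ∀ x ∈ M, φ x ∈ M := fun φ x hx =>
      ⟨Subgroup.mem_center_iff.2 fun y => by
        have h := congrArg φ (Subgroup.mem_center_iff.1 hx.1 (φ⁻¹ y))
        rwa [map_mul, map_mul, MulAut.apply_inv_self] at h, hψi φ x hx.2⟩
    haveI hMn : M.Normal := ⟨fun x hx y => by
      rw [Subgroup.mem_center_iff.1 hx.1 y, mul_inv_cancel_right]; exact hx⟩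
    have hℓM : ∀ x : O, x ^ ℓ ∈ M := fun x => by
      refine ⟨Subgroup.mem_center_iff.2 fun y => ?_, ?_⟩
      · have hc : y * x * y⁻¹ = ⁅y, x⁆ * x := by rw [commutatorElement_def]; group
        have h1 : y * x ^ ℓ * y⁻¹ = x ^ ℓ := by
          rw [← conj_pow, hc, (hcen y x x).mul_pow, (hcom y x).2, one_mul]
        exact mul_inv_eq_iff_eq_mul.1 h1
      · show x ^ ℓ ∈ ψ.ker
        rw [MonoidHom.mem_ker]
        exact Subtype.ext (by rw [map_pow, Subgroup.coe_pow, (ψ x).2.2]; rfl)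
    have hKZ : ψ.ker ≤ Subgroup.center O := by
      have hQ := (H.quotient M (hMk k) (hMk v)).card_eq
      have hle : Nat.card (fixd (quoAut v M (hMk v))) ≤ ℓ := by
        obtain ⟨g', hg', hgen'⟩ := (H.quotient M (hMk k) (hMk v)).cyc
        have h : fixd (quoAut v M (hMk v)) ≤ Subgroup.zpowers g' := fun x hx => by
          obtain ⟨i, rfl⟩ := hgen' x hx; exact pow_mem (Subgroup.mem_zpowers g') i
        refine (Subgroup.card_le_of_le h).trans ?_
        rw [Nat.card_zpowers]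
        refine Nat.le_of_dvd hℓ.pos (orderOf_dvd_of_pow_eq_one ?_)
        induction g' using QuotientGroup.induction_on with
        | H z => rw [← QuotientGroup.mk_pow, QuotientGroup.eq_one_iff]; exact hℓM z
      have hle' : Nat.card (O ⧸ M) ≤ Nat.card (O ⧸ ψ.ker) := by
        rw [hQ, hindex.1]
        exact Nat.pow_le_pow_left hle p
      have hMle : M ≤ ψ.ker := inf_le_right
      have hMK : M = ψ.ker := by
        refine Subgroup.eq_of_le_of_card_ge hMle ?_
        have h1 := Subgroup.card_eq_card_quotient_mul_card_subgroup M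
        have h2 := Subgroup.card_eq_card_quotient_mul_card_subgroup ψ.ker
        have h3 : 0 < Nat.card (O ⧸ ψ.ker) := Nat.card_pos
        nlinarith [Nat.card_pos (α := M)]
      exact hMK ▸ inf_le_left
    -- the commutator map on `W`
    letI : CommGroup W := { (inferInstance : Group W) with
      mul_comm := fun a b => Subtype.ext (Subgroup.mem_center_iff.1 b.2.1 a.1) }
    obtain ⟨s, hs⟩ := hindex.2.hasRightInverse
    have hwd : ∀ x x' y y' : O, ψ x = ψ x' → ψ y = ψ y' → ⁅x, y⁆ = ⁅x', y'⁆ := by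
      intro x x' y y' hx hy
      have hz : ∀ {a a' : O}, ψ a = ψ a' → a'⁻¹ * a ∈ Subgroup.center O := fun {a a'} h =>
        hKZ (by rw [MonoidHom.mem_ker, map_mul, map_inv, h, inv_mul_cancel])
      obtain ⟨z, hzc, rfl⟩ : ∃ z ∈ Subgroup.center O, x = x' * z := ⟨_, hz hx, by group⟩
      obtain ⟨w, hwc, rfl⟩ : ∃ w ∈ Subgroup.center O, y = y' * w := ⟨_, hz hy, by group⟩
      have h1 := Subgroup.mem_center_iff.1 hzc
      have h2 := Subgroup.mem_center_iff.1 hwc
      rw [commutatorElement_def, commutatorElement_def]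
      calc x' * z * (y' * w) * (x' * z)⁻¹ * (y' * w)⁻¹
          = x' * (z * y') * w * z⁻¹ * x'⁻¹ * w⁻¹ * y'⁻¹ := by group
        _ = x' * y' * (z * w) * z⁻¹ * x'⁻¹ * w⁻¹ * y'⁻¹ := by rw [← h1 y']; group
        _ = x' * y' * (w * z) * z⁻¹ * x'⁻¹ * w⁻¹ * y'⁻¹ := by rw [← h1 w]
        _ = x' * y' * (w * x'⁻¹) * w⁻¹ * y'⁻¹ := by group
        _ = _ := by rw [← h2 x'⁻¹]; group
    have hmul : ∀ x x' y : O, ⁅x * x', y⁆ = ⁅x, y⁆ * ⁅x', y⁆ := fun x x' y => by
      have h : ⁅x * x', y⁆ = x * ⁅x', y⁆ * x⁻¹ * ⁅x, y⁆ := by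
        simp only [commutatorElement_def]; group
      rw [h, ← (hcen x' y x).eq, mul_inv_cancel_right, (hcen x' y _).eq]
    have hskew : ∀ x y : O, ⁅x, y⁆ = ⁅y, x⁆⁻¹ := fun x y => (commutatorElement_inv y x).symm
    let β : W →* W →* W := MonoidHom.mk'
      (fun a => MonoidHom.mk' (fun b => ⟨⁅s a, s b⁆, hcom _ _⟩) fun b b' => Subtype.ext (by
        show ⁅s a, s (b * b')⁆ = ⁅s a, s b⁆ * ⁅s a, s b'⁆
        rw [hwd (s a) (s a) (s (b * b')) (s b * s b') rfl (by rw [hs, map_mul, hs, hs]),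
          hskew, hmul, mul_inv_rev, ← hskew, ← hskew]
        exact (hcen _ _ _).eq))
      fun a a' => MonoidHom.ext fun b => Subtype.ext (by
        show ⁅s (a * a'), s b⁆ = ⁅s a, s b⁆ * ⁅s a', s b⁆
        rw [hwd (s (a * a')) (s a * s a') (s b) (s b) (by rw [hs, map_mul, hs, hs]) rfl, hmul])
    haveI : Nontrivial W := (Subgroup.nontrivial_iff_ne_bot _).2 (omegaCenter_ne_bot (hn ▸ hdvd))
    have h0 := (exists_mod (ℓ := ℓ) (H.restrict W hWk hWv) fun x => Subtype.ext x.2.2).2 β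
      (fun a b => Subtype.ext (hskew _ _))
      (fun a b => Subtype.ext (by
        show ⁅s (subAut k W hWk a), s (subAut k W hWk b)⁆ = k ⁅s a, s b⁆
        rw [map_commutatorElement]
        have hks : ∀ c : W, ψ (k (s c)) = subAut k W hWk c := fun c => Subtype.ext (by
          rw [hψ, ← map_pow, ← hψ, hs, subAut_val])
        exact hwd _ _ _ _ (by rw [hs, hks]) (by rw [hs, hks]))) (ψ x₀) (ψ y₀)
    refine hmk ?_
    rw [hwd x₀ (s (ψ x₀)) y₀ (s (ψ y₀)) (hs _).symm (hs _).symm]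
    exact congrArg Subtype.val h0

/-- A nilpotent group of odd order acted on by a Frobenius group `C_{2^p-1} : C_p`, the kernel without
fixed points and the complement with cyclic fixed points, is abelian of order `|C(v)| ^ p`. -/
theorem abelian_of_frobenius {O : Type*} [Group O] [Finite O] (hnil : Group.IsNilpotent O)
    (hodd : Odd (Nat.card O)) {p : ℕ} (hp : p.Prime) (hp2 : Odd p) (hcop : (Nat.card O).Coprime p)
    (k v : MulAut O) (hk : k ^ (2 ^ p - 1) = 1)
    (hfpf : ∀ i : ℕ, ¬ (2 ^ p - 1) ∣ i → ∀ x : O, (k ^ i) x = x → x = 1)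
    (hv : v ^ p = 1) (hconj : v * k * v⁻¹ = k ^ 2)
    (hcyc : ∃ g : O, v g = g ∧ ∀ x : O, v x = x → ∃ i : ℕ, x = g ^ i) :
    (∀ x y : O, x * y = y * x) ∧ Nat.card O = Nat.card {x : O // v x = x} ^ p := by
  have H : Act p k v := ⟨hp, hodd, hcop, hk, hfpf, hv, fun x => by
    have := congrArg (fun a : MulAut O => a (v x)) hconj
    simpa [pow_two] using this, hcyc⟩
  exact ⟨comm_aux _ O k v H rfl, H.card_eq⟩

end CfsgLib.SuzukiThm.OddPart
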