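import Cfsg.Agent.SuzukiTheorem.Frame
import Cfsg.Agent.RegularLinear.Field
import Cfsg.Agent.FGS.FieldModule
import Mathlib

/-!
# `D` acts on `K` by field automorphisms

With `q = 2 ^ p`: conjugation by an element of `D` raises the elements of `K` to a power `2 ^ i`.
If it fixes only `1` in `K` then `i` is prime to `p` and `p` is odd.
-/

set_option autoImplicit false
set_option linter.unusedSectionVars false
set_option linter.style.haveILetI false

namespace CfsgLib.SuzukiThm

open CfsgLib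

universe u v

variable {G : Type u} {Ω : Type v} [Group G] [MulAction G Ω] [Finite G] {a : Ω} {t : G} {Q : Subgroup G}

private theorem zmod_two : ∀ c : ZMod 2, c = 0 ∨ c = 1 := by decide

namespace Frame

variable (P : Frame a t Q)

include P

/-- Conjugation by `D` on `K` is a power of Frobenius. -/
theorem exists_conj_pow {d : G} (hd : d ∈ pairD G a t) :
    ∃ i : ℕ, ∀ k ∈ P.K, d * k * d⁻¹ = k ^ (2 ^ i) := by
  classical
  haveI : Fact (Nat.Prime 2) := ⟨Nat.prime_two⟩
  letI : CommGroup P.E :=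
    { (inferInstance : Group P.E) with mul_comm := fun x y => Subtype.ext (P.E_comm x.2 y.2) }
  letI : Module (ZMod 2) (Additive P.E) :=
    AddCommGroup.zmodModule (n := 2) fun e => by rw [two_nsmul]; exact Subtype.ext (P.E_sq (Additive.toMul e).2)
  let act : ↥(pairD G a t) →* (Additive P.E ≃ₗ[ZMod 2] Additive P.E) :=
    { toFun := fun x =>
        { toFun := fun e => Additive.ofMul ⟨x * (Additive.toMul e : P.E) * (x : G)⁻¹,
            P.D_norm_E x.2 (Additive.toMul e).2⟩
          map_add' := fun e e' => congrArg Additive.ofMul (Subtype.ext (by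
            show (x : G) * ((Additive.toMul e : P.E) * (Additive.toMul e' : P.E)) * (x : G)⁻¹ = _
            simp [mul_assoc]))
          map_smul' := fun c e => by
            obtain rfl | rfl := zmod_two c
            · simp only [zero_smul, RingHom.id_apply]
              exact congrArg Additive.ofMul (Subtype.ext (by simp))
            · simp only [one_smul, RingHom.id_apply]
          invFun := fun e => Additive.ofMul ⟨(x : G)⁻¹ * (Additive.toMul e : P.E) * x,
            by simpa using P.D_norm_E (inv_mem x.2) (Additive.toMul e).2⟩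
          left_inv := fun e => congrArg Additive.ofMul (Subtype.ext (by simp [mul_assoc]; try rfl))
          right_inv := fun e => congrArg Additive.ofMul (Subtype.ext (by simp [mul_assoc]; try rfl)) }
      map_one' := LinearEquiv.ext fun e => congrArg Additive.ofMul (Subtype.ext (by simp))
      map_mul' := fun x y => LinearEquiv.ext fun e => congrArg Additive.ofMul (Subtype.ext (by
        show (x : G) * y * (Additive.toMul e : P.E) * ((x : G) * y)⁻¹ = _
        simp [mul_assoc]; try rfl)) }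
  let A : Subgroup ↥act.range := (P.K.subgroupOf (pairD G a t)).map act.rangeRestrict
  haveI hKn : (P.K.subgroupOf (pairD G a t)).Normal :=
    ⟨fun k hk x => P.K_normal x x.2 _ hk⟩
  haveI : A.Normal := hKn.map _ act.rangeRestrict_surjective
  have hA : ∀ x ∈ A, ∀ y ∈ A, x * y = y * x := by
    rintro _ ⟨x, hx, rfl⟩ _ ⟨y, hy, rfl⟩
    rw [← map_mul, ← map_mul]
    exact congrArg _ (Subtype.ext (P.K_comm hx hy))
  have htrans : ∀ e e' : Additive P.E, e ≠ 0 → e' ≠ 0 → ∃ g : act.range, act.range.subtype g e = e' := by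
    intro e e' he he'
    obtain ⟨k, hk, hke⟩ := P.exists_conj_K (Additive.toMul e).2 (fun h => he (Subtype.ext h))
      (Additive.toMul e').2 (fun h => he' (Subtype.ext h))
    exact ⟨act.rangeRestrict ⟨k, P.K_le hk⟩, congrArg Additive.ofMul (Subtype.ext hke)⟩
  haveI : Nontrivial (Additive P.E) :=
    ⟨⟨Additive.ofMul ⟨P.s, P.s_mem_E⟩, 0, fun h => P.s_ne_one (congrArg Subtype.val h)⟩⟩
  obtain ⟨F, fF, finF, mF, χ, τ, p, -, hcard, -, -, hχ, hτ, -⟩ :=
    RegLinear.exists_field_data (q := 2) act.range.subtype Subtype.val_injective htrans A hA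
  haveI : CharP F 2 := by
    haveI := Fintype.ofFinite F
    obtain ⟨r, hr⟩ := CharP.exists F
    haveI := hr
    obtain ⟨m, hr', hm⟩ := FiniteField.card F r
    rw [Nat.card_eq_fintype_card, hm] at hcard
    have : r = 2 := by
      have h2 : r ∣ 2 ^ p := hcard ▸ dvd_pow_self r m.ne_zero
      exact (Nat.prime_dvd_prime_iff_eq hr' Nat.prime_two).1 (hr'.dvd_of_dvd_pow h2)
    exact this ▸ hr
  set g := act.rangeRestrict ⟨d, hd⟩ with hg
  obtain ⟨i, hi⟩ := FGS.FieldModule.exists_eq_pow_pow (p := 2) (τ g : F →+* F)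
  refine ⟨i, fun k hk => ?_⟩
  obtain ⟨kA, hkA⟩ : ∃ kA : A, (kA : act.range) = act.rangeRestrict ⟨k, P.K_le hk⟩ :=
    ⟨⟨_, ⟨_, hk, rfl⟩⟩, rfl⟩
  let e₀ : Additive P.E := Additive.ofMul ⟨P.s, P.s_mem_E⟩
  -- both sides have the same value at `d · s`
  have h1 := hτ g ((χ kA : F)) e₀
  rw [hχ kA e₀, show τ g (χ kA : F) = (χ (kA ^ (2 ^ i)) : F) by
    rw [map_pow, Units.val_pow_eq_pow_val]; exact hi _, hχ, SubgroupClass.coe_pow, hkA, hg] at h1
  have h2 : d * (k * P.s * k⁻¹) * d⁻¹ = k ^ 2 ^ i * (d * P.s * d⁻¹) * (k ^ 2 ^ i)⁻¹ := by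
    have h := congrArg (fun e : Additive P.E => ((Additive.toMul e : P.E) : G)) h1
    rw [← map_pow] at h
    exact h
  refine P.conj_K_injective (P.K_normal d hd k hk) (pow_mem hk _) (P.E_le (P.D_norm_E hd P.s_mem_E))
    (fun h => P.s_ne_one (by rw [show P.s = d⁻¹ * (d * P.s * d⁻¹) * d by group, h]; group)) ?_
  rw [← h2]
  group

theorem card_K_eq : ∃ p, 2 ≤ p ∧ P.q = 2 ^ p ∧ Nat.card P.K = 2 ^ p - 1 := by
  obtain ⟨p, hp, hq⟩ := P.exists_q_eq
  exact ⟨p, hp, hq, by have := P.card_K_add_one; omega⟩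

/-- An element of `D` fixing only `1` in `K` gives a generator of the Galois group, and `p` is odd. -/
theorem coprime_of_fpf {d : G} (hd : d ∈ pairD G a t) {i p : ℕ} (hp : P.q = 2 ^ p) (hp2 : 2 ≤ p)
    (hi : ∀ k ∈ P.K, d * k * d⁻¹ = k ^ (2 ^ i)) (hfpf : ∀ k ∈ P.K, d * k = k * d → k = 1) :
    Nat.Coprime i p ∧ Odd p := by
  haveI := P.K_cyclic
  obtain ⟨⟨k₀, hk₀⟩, hgen⟩ := IsCyclic.exists_generator (α := P.K)
  have hord : orderOf k₀ = 2 ^ p - 1 := by
    have := P.card_K_add_one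
    rw [← Subgroup.orderOf_mk k₀ hk₀, orderOf_eq_card_of_forall_mem_zpowers hgen]
    omega
  have hcop : Nat.Coprime i p := by
    by_contra hne
    obtain ⟨l, hl, hli, hlp⟩ := Nat.Prime.not_coprime_iff_dvd.1 hne
    have hdvd : 2 ^ l - 1 ∣ 2 ^ p - 1 := Nat.pow_sub_one_dvd_pow_sub_one _ hlp
    have hdvd' : 2 ^ l - 1 ∣ 2 ^ i - 1 := Nat.pow_sub_one_dvd_pow_sub_one _ hli
    obtain ⟨c, hc⟩ := hdvd
    obtain ⟨c', hc'⟩ := hdvd'
    have h2i : 2 ^ i = 1 + (2 ^ l - 1) * c' := by have := Nat.one_le_two_pow (n := i); omega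
    have hfix : d * (k₀ ^ c) * d⁻¹ = k₀ ^ c := by
      rw [hi _ (pow_mem hk₀ _), ← pow_mul, h2i, mul_add, mul_one, pow_add, ← mul_assoc, mul_comm c,
        ← hc, pow_mul, ← hord, pow_orderOf_eq_one, one_pow, mul_one]
    have h1 := hfpf _ (pow_mem hk₀ _) (mul_inv_eq_iff_eq_mul.1 hfix)
    have h2 : 2 ^ p - 1 ∣ c := hord ▸ orderOf_dvd_of_pow_eq_one h1
    have hl2 : 2 ^ 2 ≤ 2 ^ l := Nat.pow_le_pow_right (by norm_num) hl.two_le
    have hp2' : 2 ^ 2 ≤ 2 ^ p := Nat.pow_le_pow_right (by norm_num) hp2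
    have hcpos : 0 < c := by
      rcases Nat.eq_zero_or_pos c with h | h
      · rw [h, mul_zero] at hc; omega
      · exact h
    have hlt : c < 2 ^ p - 1 := by
      rw [hc]
      calc c = 1 * c := (one_mul c).symm
        _ < _ := Nat.mul_lt_mul_of_pos_right (by omega) hcpos
    exact absurd (Nat.le_of_dvd hcpos h2) (by omega)
  refine ⟨hcop, ?_⟩
  -- the order of `d` is odd
  have hiter : ∀ m : ℕ, ∀ k ∈ P.K, d ^ m * k * (d ^ m)⁻¹ = k ^ (2 ^ (i * m)) := by
    intro m
    induction m with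
    | zero => intro k _; simp
    | succ m ih =>
      intro k hk
      rw [show d ^ (m + 1) * k * (d ^ (m + 1))⁻¹ = d ^ m * (d * k * d⁻¹) * (d ^ m)⁻¹ by group, hi k hk,
        ih _ (pow_mem hk _), ← pow_mul, ← pow_add, show i + i * m = i * (m + 1) by ring]
  obtain ⟨δ, hδ⟩ : ∃ δ, δ = Nat.card ↥(pairD G a t) := ⟨_, rfl⟩
  have hdδ : d ^ δ = 1 := by
    rw [hδ]; exact congrArg Subtype.val (pow_card_eq_one' (G := ↥(pairD G a t)) (x := ⟨d, hd⟩))
  have h1 := hiter δ k₀ hk₀
  rw [hdδ, one_mul, inv_one, mul_one] at h1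
  have h2 : 2 ^ p - 1 ∣ 2 ^ (i * δ) - 1 := by
    rw [← hord]
    refine orderOf_dvd_of_pow_eq_one (mul_right_cancel (b := k₀) ?_)
    rw [← pow_succ, show 2 ^ (i * δ) - 1 + 1 = 2 ^ (i * δ) by
      have := Nat.one_le_two_pow (n := i * δ); omega, ← h1, one_mul]
  have h3 : p ∣ i * δ := by
    have hg := Nat.gcd_eq_left h2
    rw [Nat.pow_sub_one_gcd_pow_sub_one] at hg
    have h4 : 2 ^ (p.gcd (i * δ)) = 2 ^ p := by
      have := Nat.one_le_two_pow (n := p.gcd (i * δ))
      have := Nat.one_le_two_pow (n := p)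
      omega
    exact Nat.gcd_eq_left_iff_dvd.1 (Nat.pow_right_injective (le_refl 2) h4)
  exact P.hS.odd_card.of_dvd_nat (hδ ▸ (Nat.Coprime.symm hcop).dvd_of_dvd_mul_left h3)

end Frame

end CfsgLib.SuzukiThm
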