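import Cfsg.Agent.SuzukiTheorem.CharFamily
import Cfsg.Agent.SuzukiTheorem.ClassSquare
import Cfsg.Agent.Coherence.TIInduction
import Cfsg.Agent.DegreeGraph.Basic
import Cfsg.Agent.RankOne.Witt

/-!
# Characters of `G_a` induced from `Q`
-/

set_option autoImplicit false
set_option linter.unusedSectionVars false
set_option linter.style.haveILetI false

namespace CfsgLib.SuzukiThm

open Cfsg CfsgLib CfsgLib.Characters CfsgLib.OddOrderChar
open scoped ComplexConjugate Classical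

universe u v

variable {G : Type u} {Ω : Type v} [Group G] [MulAction G Ω] [Fintype G] {a : Ω} {t : G} {Q : Subgroup G}

namespace Frame

variable (P : Frame a t Q)
include P

theorem normal_subgroupOf : (Q.subgroupOf (MulAction.stabilizer G a)).Normal :=
  ⟨fun x hx g => by
    rw [Subgroup.mem_subgroupOf]
    exact P.hS.conj_mem (g : G) g.2 _ hx⟩

/-- A function on `Q` as a function on `Q` inside `G_a`. -/
noncomputable def toB (_P : Frame a t Q) (φ : ↥Q → ℂ) : ↥(Q.subgroupOf (MulAction.stabilizer G a)) → ℂ :=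
  fun x => φ ⟨(x : MulAction.stabilizer G a), x.2⟩

/-- Induction from `Q` to `G_a`. -/
noncomputable def indB (φ : ↥Q → ℂ) : ↥(MulAction.stabilizer G a) → ℂ :=
  indFun (Q.subgroupOf (MulAction.stabilizer G a)) (P.toB φ)

theorem toB_irr {φ : ↥Q → ℂ} (h : IsIrrCharacter ↥Q φ) :
    IsIrrCharacter ↥(Q.subgroupOf (MulAction.stabilizer G a)) (P.toB φ) :=
  letI := Fintype.ofFinite ↥Q
  letI := Fintype.ofFinite ↥(Q.subgroupOf (MulAction.stabilizer G a))
  CfsgLib.OddOrderChar.isIrrCharacter_comp_equiv (Subgroup.subgroupOfEquivOfLe P.hS.le) h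

theorem toB_injective {φ ψ : ↥Q → ℂ} (h : P.toB φ = P.toB ψ) : φ = ψ :=
  funext fun x => congrFun h ⟨⟨x, P.hS.le x.2⟩, x.2⟩

theorem card_subgroupOf : Nat.card ↥(Q.subgroupOf (MulAction.stabilizer G a)) = Nat.card ↥Q :=
  Nat.card_congr (Subgroup.subgroupOfEquivOfLe P.hS.le).toEquiv

theorem conjBy_toB {φ : ↥Q → ℂ} (hφ : IsClassFunction ↥Q φ) (x : ↥Q) (d : ↥(pairD G a t))
    (g : ↥(MulAction.stabilizer G a)) (hg : (g : G) = (x : G) * d) :
    haveI := P.normal_subgroupOf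
    conjBy (Q.subgroupOf (MulAction.stabilizer G a)) (P.toB φ) g = P.toB (conjD P d φ) := by
  funext y
  show φ _ = φ _
  have h := hφ ⟨(d : G) * ((y : MulAction.stabilizer G a) : G) * (d : G)⁻¹,
    RankOne.D_norm_Q P.hS d.2 y.2⟩ x
  rw [← h]
  refine congrArg φ (Subtype.ext ?_)
  show (g : G) * _ * (g : G)⁻¹ = (x : G) * ((d : G) * _ * (d : G)⁻¹) * (x : G)⁻¹
  rw [hg]
  group

/-- `G_a = Q D`, uniquely. -/
theorem bijective_stab : Function.Bijective fun xd : ↥Q × ↥(pairD G a t) =>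
    (⟨(xd.1 : G) * xd.2, mul_mem (P.hS.le xd.1.2) (Subgroup.mem_inf.1 xd.2.2).1⟩ :
      ↥(MulAction.stabilizer G a)) := by
  constructor
  · rintro ⟨x, d⟩ ⟨y, e⟩ h
    have h' : (x : G) * d = y * e := congrArg Subtype.val h
    have hxy : (y : G)⁻¹ * x = 1 := RankOne.eq_one_of_smul_ta P.hS (mul_mem (inv_mem y.2) x.2) (by
      rw [show (y : G)⁻¹ * x = (e : G) * (d : G)⁻¹ by
        rw [eq_mul_inv_iff_mul_eq, mul_assoc, h', inv_mul_cancel_left]]
      exact (Subgroup.mem_inf.1 (mul_mem e.2 (inv_mem d.2))).2)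
    obtain rfl : y = x := Subtype.ext (inv_mul_eq_one.1 hxy)
    exact Prod.ext rfl (Subtype.ext (mul_left_cancel h'))
  · intro g
    obtain ⟨x, hx, d, hd, e⟩ := RankOne.exists_mem_mul P.hS g.2
    exact ⟨(⟨x, hx⟩, ⟨d, hd⟩), Subtype.ext e.symm⟩

theorem card_stab_eq : Nat.card ↥(MulAction.stabilizer G a) = Nat.card ↥Q * Nat.card ↥(pairD G a t) := by
  rw [← Nat.card_prod]
  exact (Nat.card_eq_of_bijective _ P.bijective_stab).symm

theorem indB_of_mem {φ : ↥Q → ℂ} (hφ : IsClassFunction ↥Q φ) {g : ↥(MulAction.stabilizer G a)}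
    (hg : (g : G) ∈ Q) : P.indB φ g = ∑ d : ↥(pairD G a t), conjD P d φ ⟨g, hg⟩ := by
  haveI := P.normal_subgroupOf
  show indFun _ _ ((⟨g, hg⟩ : ↥(Q.subgroupOf (MulAction.stabilizer G a))) : ↥(MulAction.stabilizer G a)) = _
  rw [OddOrderChar.indFun_normal_apply, P.card_subgroupOf,
    ← (Equiv.ofBijective _ P.bijective_stab).sum_comp, Fintype.sum_prod_type]
  have e : ∀ (x : ↥Q) (d : ↥(pairD G a t)),
      conjBy (Q.subgroupOf (MulAction.stabilizer G a)) (P.toB φ)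
        (Equiv.ofBijective _ P.bijective_stab (x, d)) ⟨g, hg⟩ = conjD P d φ ⟨g, hg⟩ := fun x d => by
    rw [P.conjBy_toB hφ x d _ rfl]
    rfl
  simp only [e, Finset.sum_const, Finset.card_univ, nsmul_eq_mul]
  rw [← Nat.card_eq_fintype_card, ← mul_assoc, inv_mul_cancel₀ (natCard_ne_zero (G := ↥Q)), one_mul]

theorem indB_one {φ : ↥Q → ℂ} (hφ : IsClassFunction ↥Q φ) :
    P.indB φ 1 = (Nat.card ↥(pairD G a t) : ℂ) * φ 1 := by
  rw [P.indB_of_mem hφ (g := 1) (one_mem Q), Nat.card_eq_fintype_card, ← Finset.card_univ,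
    ← nsmul_eq_mul, ← Finset.sum_const]
  refine Finset.sum_congr rfl fun d _ => congrArg φ (Subtype.ext ?_)
  show (d : G) * 1 * (d : G)⁻¹ = 1
  group

theorem conjD_one (φ : ↥Q → ℂ) : conjD P 1 φ = φ :=
  funext fun x => congrArg φ (Subtype.ext (by show (1 : G) * x * (1 : G)⁻¹ = x; group))

/-- A regular character induces irreducibly. -/
theorem indB_irr {φ : Cfsg.IrrCharacter ↥Q} (hreg : ∀ d, conjD P d φ.1 = φ.1 → d = 1) :
    IsIrrCharacter ↥(MulAction.stabilizer G a) (P.indB φ.1) := by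
  haveI := P.normal_subgroupOf
  refine DegreeGraph.isIrr_indFun_of_stabilizer _ (P.toB_irr φ.2) fun g hg h => hg ?_
  obtain ⟨⟨x, d⟩, rfl⟩ := P.bijective_stab.2 g
  rw [P.conjBy_toB (isClassFunction_of_isIrr φ.2) x d _ rfl] at h
  rw [Subgroup.mem_subgroupOf]
  show (x : G) * (d : G) ∈ Q
  rw [hreg d (P.toB_injective h)]
  exact mul_mem x.2 (one_mem Q)

theorem eq_conjD_of_indB_eq {φ ψ : Cfsg.IrrCharacter ↥Q} (h : P.indB φ.1 = P.indB ψ.1) :
    ∃ d, φ.1 = conjD P d ψ.1 := by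
  haveI := P.normal_subgroupOf
  have h1 := Coherence.conjOrbit_eq_of_ind_eq (Q.subgroupOf (MulAction.stabilizer G a))
    (P.toB_irr ψ.2) (P.toB_irr φ.2) h
  letI := Fintype.ofFinite ↥(Q.subgroupOf (MulAction.stabilizer G a))
  obtain ⟨g, hg⟩ := (mem_conjOrbit _).1 h1
  obtain ⟨⟨x, d⟩, rfl⟩ := P.bijective_stab.2 g
  rw [P.conjBy_toB (isClassFunction_of_isIrr ψ.2) x d _ rfl] at hg
  exact ⟨d, (P.toB_injective hg).symm⟩

theorem indB_mem_above {φ : Cfsg.IrrCharacter ↥Q} (hreg : ∀ d, conjD P d φ.1 = φ.1 → d = 1) :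
    P.indB φ.1 ∈ inducedIrrAbove (Q.subgroupOf (MulAction.stabilizer G a)) ⊥ := by
  refine ⟨_, P.toB_irr φ.2, fun h => ?_, fun x hx => ?_, rfl⟩
  · obtain ⟨k, hk, hk1⟩ : ∃ k ∈ P.K, k ≠ 1 := by
      by_contra h'
      push Not at h'
      have h1 : Nat.card P.K = 1 := Nat.card_eq_one_iff_unique.2
        ⟨⟨fun x y => Subtype.ext ((h' _ x.2).trans (h' _ y.2).symm)⟩, ⟨1⟩⟩
      have := P.card_K_add_one
      have := P.four_le_q
      omega
    refine hk1 (congrArg Subtype.val (hreg ⟨k, P.K_le hk⟩ ?_))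
    have h' : φ.1 = fun _ => 1 := P.toB_injective (h.trans rfl)
    rw [h']
    rfl
  · rw [Subgroup.mem_bot] at hx
    exact congrArg (P.toB φ.1) (Subtype.ext hx)

theorem isTI_Q : IsTISubset (Q : Set G) ∧
    Subgroup.normalizer (Q : Set G) = MulAction.stabilizer G a := by
  have hnorm : Subgroup.normalizer (Q : Set G) = MulAction.stabilizer G a := by
    ext g
    refine ⟨fun hg => ?_, fun hg => Subgroup.mem_normalizer_iff.2 fun x => ⟨P.hS.conj_mem g hg x, fun hx => ?_⟩⟩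
    · have h1 := (Subgroup.mem_normalizer_iff.1 hg P.s).1 P.s_mem_Q
      have h2 : (g * P.s * g⁻¹) • g • a = g • a := by
        rw [← mul_smul, inv_mul_cancel_right, mul_smul, RankOne.Q_smul_a P.hS P.s_mem_Q]
      exact MulAction.mem_stabilizer_iff.2 (RankOne.fixed_eq_of_mem_Q P.hS h1
        (fun h => P.s_ne_one (by rw [show P.s = g⁻¹ * (g * P.s * g⁻¹) * g by group, h]; group)) h2)
    · have := P.hS.conj_mem g⁻¹ (inv_mem hg) _ hx
      rwa [show g⁻¹ * (g * x * g⁻¹) * g⁻¹⁻¹ = x by group] at this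
  refine ⟨fun g hg x hx hgx => ?_, hnorm⟩
  by_contra hx1
  refine hg ?_
  rw [hnorm]
  refine MulAction.mem_stabilizer_iff.2 (RankOne.fixed_eq_of_mem_Q P.hS hgx
    (fun h => hx1 (by rw [show x = g⁻¹ * (g * x * g⁻¹) * g by group, h]; group)) ?_)
  rw [← mul_smul, inv_mul_cancel_right, mul_smul, RankOne.Q_smul_a P.hS hx]

theorem index_stab : (MulAction.stabilizer G a).index = Nat.card ↥Q + 1 := by
  haveI := RankOne.pretransitive P.hS
  rw [MulAction.index_stabilizer_of_transitive, RankOne.card_points P.hS]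

/-- The elements of `D` centralising `s`. -/
noncomputable def Cs : Subgroup G := pairD G a t ⊓ Subgroup.centralizer ({P.s} : Set G)

theorem bijective_D : Function.Bijective fun kc : ↥P.K × ↥P.Cs =>
    (⟨(kc.1 : G) * kc.2, mul_mem (P.K_le kc.1.2) (Subgroup.mem_inf.1 kc.2.2).1⟩ : ↥(pairD G a t)) := by
  constructor
  · rintro ⟨k, c⟩ ⟨l, e⟩ h
    have h' : (k : G) * c = l * e := congrArg Subtype.val h
    have hc : ∀ c : ↥P.Cs, (c : G) * P.s * (c : G)⁻¹ = P.s := fun c =>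
      mul_inv_eq_iff_eq_mul.2 (Subgroup.mem_centralizer_singleton_iff.1 (Subgroup.mem_inf.1 c.2).2)
    obtain rfl : k = l := Subtype.ext (P.conj_K_injective k.2 l.2 P.s_mem_Q P.s_ne_one (by
      calc (k : G) * P.s * (k : G)⁻¹ = (k : G) * ((c : G) * P.s * (c : G)⁻¹) * (k : G)⁻¹ := by rw [hc]
        _ = ((k : G) * c) * P.s * ((k : G) * c)⁻¹ := by group
        _ = (l : G) * ((e : G) * P.s * (e : G)⁻¹) * (l : G)⁻¹ := by rw [h']; group
        _ = _ := by rw [hc]))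
    exact Prod.ext rfl (Subtype.ext (mul_left_cancel h'))
  · intro d
    obtain ⟨k, hk, hks⟩ := P.exists_conj_K P.s_mem_E P.s_ne_one (P.D_norm_E d.2 P.s_mem_E)
      (fun h => P.s_ne_one (by
        rw [show P.s = (d : G)⁻¹ * ((d : G) * P.s * (d : G)⁻¹) * d by group, h]; group))
    refine ⟨(⟨k, hk⟩, ⟨k⁻¹ * d, Subgroup.mem_inf.2 ⟨mul_mem (inv_mem (P.K_le hk)) d.2,
      Subgroup.mem_centralizer_singleton_iff.2 ?_⟩⟩), Subtype.ext (mul_inv_cancel_left k d)⟩
    calc k⁻¹ * (d : G) * P.s = k⁻¹ * ((d : G) * P.s * (d : G)⁻¹) * d := by group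
      _ = P.s * (k⁻¹ * d) := by rw [← hks]; group

theorem card_D_eq : Nat.card ↥(pairD G a t) = Nat.card ↥P.K * Nat.card ↥P.Cs := by
  rw [← Nat.card_prod]
  exact (Nat.card_eq_of_bijective _ P.bijective_D).symm

theorem card_centralizer_s :
    Nat.card ↥(Subgroup.centralizer ({P.s} : Set G)) = Nat.card ↥Q * Nat.card ↥P.Cs := by
  rw [← Nat.card_prod]
  refine (Nat.card_eq_of_bijective (fun xc : ↥Q × ↥P.Cs => (⟨(xc.1 : G) * xc.2, mul_mem
    (Subgroup.mem_centralizer_singleton_iff.2 (P.E_central P.s_mem_E xc.1.2).symm)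
    (Subgroup.mem_inf.1 xc.2.2).2⟩ : ↥(Subgroup.centralizer ({P.s} : Set G)))) ⟨?_, ?_⟩).symm
  · rintro ⟨x, c⟩ ⟨y, e⟩ h
    have hv : (x : G) * c = y * e := congrArg Subtype.val h
    have h' := P.bijective_stab.1 (a₁ := (x, ⟨c, (Subgroup.mem_inf.1 c.2).1⟩))
      (a₂ := (y, ⟨e, (Subgroup.mem_inf.1 e.2).1⟩)) (Subtype.ext hv)
    have h1 : x = y := (Prod.mk.injEq _ _ _ _ ▸ h').1
    exact Prod.ext h1 (Subtype.ext (mul_left_cancel (h1 ▸ hv)))
  · intro g
    have hg := Subgroup.mem_centralizer_singleton_iff.1 g.2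
    have hga : (g : G) ∈ MulAction.stabilizer G a :=
      MulAction.mem_stabilizer_iff.2 (RankOne.fixed_eq_of_mem_Q P.hS P.s_mem_Q P.s_ne_one (by
        rw [← mul_smul, ← hg, mul_smul, RankOne.Q_smul_a P.hS P.s_mem_Q]))
    obtain ⟨⟨x, d⟩, e⟩ := P.bijective_stab.2 ⟨g, hga⟩
    have e' : (x : G) * d = g := congrArg Subtype.val e
    have hd : (d : G) * P.s = P.s * d := by
      have h2 : (x : G) * ((d : G) * P.s) = x * (P.s * d) := by
        rw [← mul_assoc, e', hg, ← mul_assoc, ← P.E_central P.s_mem_E x.2, mul_assoc, e']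
      exact mul_left_cancel h2
    exact ⟨(x, ⟨d, Subgroup.mem_inf.2 ⟨d.2, Subgroup.mem_centralizer_singleton_iff.2 hd⟩⟩), Subtype.ext e'⟩

/-- A character nontrivial on `E` sums to zero there. -/
theorem sum_E_eq_zero (φ : Cfsg.IrrCharacter ↥Q) (h : ¬ TrivE P φ.1) :
    ∑ x : ↥P.E, φ.1 ⟨x, P.E_le x.2⟩ = 0 := by
  obtain ⟨φ, n, ρ, hρ, rfl⟩ := φ
  haveI := hρ
  simp only [TrivE, not_forall] at h
  obtain ⟨z, hz, hne⟩ := h
  obtain ⟨c, hc⟩ := central_scalar ρ (z := z) (Subgroup.mem_center_iff.2 fun y =>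
    Subtype.ext (P.E_central hz y.2).symm)
  have hmul : ∀ y : ↥Q, ρ.character (z * y) = c * ρ.character y := fun y => by
    show LinearMap.trace ℂ _ (ρ (z * y)) = _
    rw [map_mul, hc]
    show LinearMap.trace ℂ _ ((c • LinearMap.id) * ρ y) = _
    rw [show (c • LinearMap.id : (Fin n → ℂ) →ₗ[ℂ] (Fin n → ℂ)) * ρ y = c • ρ y from
      LinearMap.ext fun x => by simp, map_smul]
    rfl
  have hc1 : c ≠ 1 := fun h1 => hne (by
    have h2 := hmul 1
    rwa [mul_one, h1, one_mul] at h2)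
  have hS : ∑ x : ↥P.E, ρ.character (⟨x, P.E_le x.2⟩ : ↥Q) =
      c * ∑ x : ↥P.E, ρ.character (⟨x, P.E_le x.2⟩ : ↥Q) := by
    rw [Finset.mul_sum]
    refine (Fintype.sum_equiv (Equiv.mulLeft (⟨z, hz⟩ : ↥P.E)) _ _ fun x => ?_).symm
    rw [← hmul]
    exact congrArg ρ.character (Subtype.ext rfl)
  have : (c - 1) * ∑ x : ↥P.E, ρ.character (⟨x, P.E_le x.2⟩ : ↥Q) = 0 := by linear_combination -hS
  exact (mul_eq_zero.1 this).resolve_left (sub_ne_zero.2 hc1)

/-- The values of the induced characters at `s`. -/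
theorem indB_s (φ : Cfsg.IrrCharacter ↥Q) :
    P.indB φ.1 ⟨P.s, P.hS.le P.s_mem_Q⟩ =
      if TrivE P φ.1 then (Nat.card ↥(pairD G a t) : ℂ) * φ.1 1 else -((Nat.card ↥P.Cs : ℂ) * φ.1 1) := by
  rw [P.indB_of_mem (isClassFunction_of_isIrr φ.2) P.s_mem_Q]
  split_ifs with h
  · rw [Nat.card_eq_fintype_card, ← Finset.card_univ, ← nsmul_eq_mul, ← Finset.sum_const]
    exact Finset.sum_congr rfl fun d _ => h _ (P.D_norm_E d.2 P.s_mem_E)
  rw [← (Equiv.ofBijective _ P.bijective_D).sum_comp, Fintype.sum_prod_type]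
  have hterm : ∀ (k : ↥P.K) (c : ↥P.Cs),
      conjD P (Equiv.ofBijective _ P.bijective_D (k, c)) φ.1 ⟨P.s, P.s_mem_Q⟩ =
        φ.1 ⟨(k : G) * P.s * (k : G)⁻¹, RankOne.D_norm_Q P.hS (P.K_le k.2) P.s_mem_Q⟩ := fun k c => by
    refine congrArg φ.1 (Subtype.ext ?_)
    show (k : G) * c * P.s * ((k : G) * c)⁻¹ = _
    have hc : (c : G) * P.s = P.s * c :=
      Subgroup.mem_centralizer_singleton_iff.1 (Subgroup.mem_inf.1 c.2).2
    rw [mul_assoc (k : G), hc]
    group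
  simp only [hterm, Finset.sum_const, Finset.card_univ, nsmul_eq_mul, ← Finset.mul_sum,
    ← Nat.card_eq_fintype_card]
  have hK : Function.Bijective fun k : ↥P.K => (⟨⟨(k : G) * P.s * (k : G)⁻¹,
      P.D_norm_E (P.K_le k.2) P.s_mem_E⟩, fun h => P.s_ne_one (by
        have h' : (k : G) * P.s * (k : G)⁻¹ = 1 := congrArg Subtype.val h
        rw [show P.s = (k : G)⁻¹ * ((k : G) * P.s * (k : G)⁻¹) * k by group, h']; group)⟩ :
      {x : ↥P.E // x ≠ 1}) := by
    constructor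
    · intro k l h
      exact Subtype.ext (P.conj_K_injective k.2 l.2 P.s_mem_Q P.s_ne_one
        (congrArg (fun z => (z.1 : G)) h))
    · intro x
      obtain ⟨k, hk, e⟩ := P.exists_conj_K P.s_mem_E P.s_ne_one x.1.2 (fun h => x.2 (Subtype.ext h))
      exact ⟨⟨k, hk⟩, Subtype.ext (Subtype.ext e)⟩
  have h0 := P.sum_E_eq_zero φ h
  rw [← Finset.add_sum_erase _ _ (Finset.mem_univ (1 : ↥P.E)),
    Finset.sum_subtype (Finset.univ.erase (1 : ↥P.E)) (p := fun x => x ≠ 1) (fun x => by simp),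
    ← (Equiv.ofBijective _ hK).sum_comp] at h0
  simp only [Equiv.ofBijective_apply] at h0
  rw [show (⟨((1 : ↥P.E) : G), P.E_le (1 : ↥P.E).2⟩ : ↥Q) = 1 from rfl] at h0
  linear_combination (Nat.card ↥P.Cs : ℂ) * h0

end Frame

end CfsgLib.SuzukiThm
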