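import Cfsg.Agent.SuzukiTheorem.CharFamily
import Cfsg.Agent.SuzukiTheorem.FixedIrr

/-!
# Automorphisms acting on irreducible characters

* `irrConj`: composition with an automorphism;
* `mass_fixed_mul_le`: if translations of the fixed characters are distinct, the fixed ones carry little mass;
* `sum_sq_trivial`: the degrees of the characters trivial on a normal subgroup.
-/

set_option autoImplicit false
set_option linter.unusedSectionVars false
set_option linter.style.haveILetI false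

namespace CfsgLib.SuzukiThm

open Cfsg CfsgLib CfsgLib.Characters
open scoped ComplexConjugate

universe u v

section Generic

variable {X : Type u} [Group X] [Finite X]

/-- The composition of a character with an automorphism. -/
def irrConj (σ : MulAut X) (χ : Cfsg.IrrCharacter X) : Cfsg.IrrCharacter X :=
  ⟨χ.1 ∘ σ, comp_mulAut_irr σ χ.1 χ.2⟩

theorem irrConj_val (σ : MulAut X) (χ : Cfsg.IrrCharacter X) : (irrConj σ χ).1 = χ.1 ∘ σ := rfl

theorem irrConj_one (χ : Cfsg.IrrCharacter X) : irrConj 1 χ = χ := rfl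

theorem irrConj_irrConj (σ τ : MulAut X) (χ : Cfsg.IrrCharacter X) :
    irrConj σ (irrConj τ χ) = irrConj (τ * σ) χ := rfl

theorem irrConj_degree (σ : MulAut X) (χ : Cfsg.IrrCharacter X) : (irrConj σ χ).1 1 = χ.1 1 :=
  congrArg χ.1 (map_one σ)

theorem irrConj_injective (σ : MulAut X) : Function.Injective (irrConj σ) := by
  intro χ χ' h
  have h' := congrArg (irrConj σ⁻¹) h
  rwa [irrConj_irrConj, irrConj_irrConj, mul_inv_cancel, irrConj_one, irrConj_one] at h'

/-- The principal character. -/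
noncomputable def irrOne : Cfsg.IrrCharacter X := ⟨fun _ => 1, isIrr_one⟩

theorem irrConj_eq_one_iff (σ : MulAut X) (χ : Cfsg.IrrCharacter X) :
    irrConj σ χ = irrOne ↔ χ = irrOne := by
  constructor
  · intro h
    exact irrConj_injective σ (h.trans (Subtype.ext rfl))
  · rintro rfl
    exact Subtype.ext rfl

/-- The conjugate character. -/
theorem exists_irr_conjFun (χ : Cfsg.IrrCharacter X) :
    ∃ ψ : Cfsg.IrrCharacter X, ψ.1 = Cfsg.conjFun χ.1 :=
  haveI := Fintype.ofFinite X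
  ⟨⟨_, CfsgLib.Characters.isIrr_conj χ.2⟩, rfl⟩

theorem degree_re_eq (χ : Cfsg.IrrCharacter X) : ∃ n : ℕ, 0 < n ∧ χ.1 1 = n ∧ (χ.1 1).re = n := by
  obtain ⟨n, h, hn⟩ := exists_degree_pos χ.2
  exact ⟨n, h, hn, by rw [hn]; norm_cast⟩

/-- If translations of the characters fixed by `σ` are all distinct, the fixed ones carry little mass. -/
theorem mass_fixed_mul_le {κ : Type*} [Fintype κ] (σ : MulAut X) (k : κ → MulAut X)
    (A : Finset (Cfsg.IrrCharacter X)) [DecidablePred fun π : Cfsg.IrrCharacter X => irrConj σ π = π]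
    (hA : ∀ j, ∀ π ∈ A, irrConj (k j) π ∈ A)
    (hinj : ∀ π ∈ A, ∀ π' ∈ A, irrConj σ π = π → irrConj σ π' = π' →
      ∀ i j, irrConj (k i) π = irrConj (k j) π' → i = j) :
    (Fintype.card κ : ℝ) * ∑ π ∈ A.filter (fun π => irrConj σ π = π), (π.1 1).re ^ 2 ≤
      ∑ π ∈ A, (π.1 1).re ^ 2 := by
  classical
  let f : κ × Cfsg.IrrCharacter X → Cfsg.IrrCharacter X := fun jπ => irrConj (k jπ.1) jπ.2
  set B := (Finset.univ : Finset κ) ×ˢ A.filter (fun π => irrConj σ π = π) with hB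
  have hmem : ∀ x ∈ B, x.2 ∈ A ∧ irrConj σ x.2 = x.2 := fun x hx =>
    (Finset.mem_filter (p := fun π => irrConj σ π = π)).1 (Finset.mem_product.1 hx).2
  have hf : Set.InjOn f B := by
    rintro ⟨i, π⟩ hx ⟨j, π'⟩ hy h
    obtain rfl : i = j := hinj π (hmem _ hx).1 π' (hmem _ hy).1 (hmem _ hx).2 (hmem _ hy).2 i j h
    exact Prod.ext rfl (irrConj_injective (k i) h)
  calc (Fintype.card κ : ℝ) * ∑ π ∈ A.filter (fun π => irrConj σ π = π), (π.1 1).re ^ 2
      = ∑ x ∈ B, ((f x).1 1).re ^ 2 := by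
        rw [hB, Finset.sum_product]
        simp only [f, irrConj_degree, Finset.sum_const, Finset.card_univ, nsmul_eq_mul]
    _ = ∑ χ ∈ B.image f, (χ.1 1).re ^ 2 :=
        (Finset.sum_image (f := fun χ : Cfsg.IrrCharacter X => (χ.1 1).re ^ 2) (fun x hx y hy h => hf hx hy h)).symm
    _ ≤ _ := Finset.sum_le_sum_of_subset_of_nonneg
        (fun χ hχ => by
          obtain ⟨x, hx, rfl⟩ := Finset.mem_image.1 hχ
          exact hA _ _ (hmem x hx).1)
        (fun _ _ _ => sq_nonneg _)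

/-- The characters trivial on a normal subgroup. -/
noncomputable def trivEquiv (N : Subgroup X) [N.Normal] :
    Cfsg.IrrCharacter (X ⧸ N) ≃ {χ : Cfsg.IrrCharacter X // ∀ z ∈ N, χ.1 z = χ.1 1} :=
  Equiv.ofBijective
    (fun ψ => ⟨⟨fun x => ψ.1 x, isIrr_comp (QuotientGroup.mk' N) (QuotientGroup.mk'_surjective N) ψ.2⟩,
      fun z hz => congrArg ψ.1 ((QuotientGroup.eq_one_iff z).2 hz)⟩)
    ⟨fun ψ ψ' h => Subtype.ext (funext fun y => by
      obtain ⟨x, rfl⟩ := QuotientGroup.mk'_surjective N y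
      exact congrFun (congrArg (fun χ => χ.1.1) h) x),
    fun χ => by
      obtain ⟨ψ, hψ, h⟩ := exists_irr_quotient N χ.1.2 χ.2
      exact ⟨⟨ψ, hψ⟩, Subtype.ext (Subtype.ext (funext fun x => (h x).symm))⟩⟩

theorem trivEquiv_apply (N : Subgroup X) [N.Normal] (ψ : Cfsg.IrrCharacter (X ⧸ N)) (x : X) :
    (trivEquiv N ψ).1.1 x = ψ.1 x := rfl

/-- The degrees of the characters trivial on a normal subgroup. -/
theorem sum_sq_trivial (N : Subgroup X) [N.Normal] [DecidablePred fun χ : Cfsg.IrrCharacter X => ∀ z ∈ N, χ.1 z = χ.1 1] :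
    ∑ χ ∈ Finset.univ.filter (fun χ : Cfsg.IrrCharacter X => ∀ z ∈ N, χ.1 z = χ.1 1), (χ.1 1).re ^ 2 =
      (N.index : ℝ) := by
  classical
  rw [Finset.sum_subtype (Finset.univ.filter _) (p := fun χ : Cfsg.IrrCharacter X => ∀ z ∈ N, χ.1 z = χ.1 1)
    (fun x => by simp), ← Equiv.sum_comp (trivEquiv N), Subgroup.index, ← sum_re_sq_degree (X := X ⧸ N)]
  exact Finset.sum_congr rfl fun ψ _ => rfl

/-- With all commutators in `N`, the characters trivial on `N` are counted by the index. -/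
theorem card_trivial (N : Subgroup X) [N.Normal] (hc : ∀ x y : X, x * y * x⁻¹ * y⁻¹ ∈ N)
    [DecidablePred fun χ : Cfsg.IrrCharacter X => ∀ z ∈ N, χ.1 z = χ.1 1] :
    (Finset.univ.filter (fun χ : Cfsg.IrrCharacter X => ∀ z ∈ N, χ.1 z = χ.1 1)).card = N.index := by
  have h := sum_sq_trivial N
  rw [Finset.sum_congr rfl (g := fun _ => (1 : ℝ)) (fun χ hχ => by
    rw [linear_of_trivial N hc χ (Finset.mem_filter.1 hχ).2]; norm_num)] at h
  rw [Finset.sum_const, nsmul_one] at h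
  exact_mod_cast h

end Generic

variable {G : Type u} {Ω : Type v} [Group G] [MulAction G Ω] [Finite G] {a : Ω} {t : G} {Q : Subgroup G}
  {P : Frame a t Q} (S : Split P)

/-- Conjugating a product character conjugates its two factors. -/
theorem Split.conjD_pair (d : ↥(pairD G a t)) (π : Cfsg.IrrCharacter ↥S.T) (ψ : Cfsg.IrrCharacter ↥S.O) :
    conjD P d (pairIrr S.equiv π ψ).1 =
      (pairIrr S.equiv (irrConj (S.autT d) π) (irrConj (S.autO d) ψ)).1 := by
  funext x
  obtain ⟨⟨y, z⟩, rfl⟩ := S.equiv.surjective x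
  have he : (⟨(d : G) * (S.equiv (y, z) : G) * (d : G)⁻¹,
      RankOne.D_norm_Q P.hS d.2 (S.equiv (y, z)).2⟩ : ↥Q) = S.equiv (S.autT d y, S.autO d z) := by
    refine Subtype.ext ?_
    show (d : G) * (S.equiv (y, z) : G) * (d : G)⁻¹ = ((S.equiv (S.autT d y, S.autO d z) : ↥Q) : G)
    simp only [Split.equiv_apply]
    show (d : G) * ((y : G) * z) * (d : G)⁻¹ = (d * y * (d : G)⁻¹) * (d * z * (d : G)⁻¹)
    group
  show (pairIrr S.equiv π ψ).1 _ = _
  rw [he, pairIrr_apply, pairIrr_apply, MulEquiv.symm_apply_apply, MulEquiv.symm_apply_apply]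
  rfl

theorem Split.pair_degree (π : Cfsg.IrrCharacter ↥S.T) (ψ : Cfsg.IrrCharacter ↥S.O) :
    (pairIrr S.equiv π ψ).1 1 = π.1 1 * ψ.1 1 := by
  rw [pairIrr_apply, map_one]; rfl

theorem Split.trivE_pair (π : Cfsg.IrrCharacter ↥S.T) (ψ : Cfsg.IrrCharacter ↥S.O) :
    TrivE P (pairIrr S.equiv π ψ).1 ↔ ∀ z : ↥S.T, (z : G) ∈ P.E → π.1 z = π.1 1 := by
  have hval : ∀ z : ↥S.T, (pairIrr S.equiv π ψ).1 (S.equiv (z, 1)) = π.1 z * ψ.1 1 := fun z => by
    rw [pairIrr_apply, MulEquiv.symm_apply_apply]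
  have hco : ∀ z : ↥S.T, ((S.equiv (z, 1) : ↥Q) : G) = z := fun z => by
    rw [Split.equiv_apply]; exact mul_one _
  constructor
  · intro h z hz
    have h' := h (S.equiv (z, 1)) (by rwa [hco])
    rw [hval, S.pair_degree] at h'
    exact mul_right_cancel₀ (irr_one_ne_zero ψ.2) h'
  · intro h x hx
    have hxe : x = S.equiv (⟨x, S.E_le_T hx⟩, 1) := Subtype.ext (hco ⟨x, S.E_le_T hx⟩).symm
    rw [hxe, hval, S.pair_degree, h _ hx]

end CfsgLib.SuzukiThm
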