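import Cfsg.Agent.RankOne.Deep
import Cfsg.Agent.RankOne.InvertedConsequences
import Cfsg.Agent.Zassenhaus.Basic

/-!
# Suzuki's theorem: the subgroup `L = QK ∪ QKtQ`

In a rank one set-up, if `C` is the subgroup of inverted elements of `D` and all the `D`-parts of
`t x t` (`x ∈ Q∖1`) lie in `C`, then `QC ∪ QCtQ` is a normal subgroup of odd index which is a
Zassenhaus group, hence simple.
-/

set_option autoImplicit false
set_option linter.style.haveILetI false
set_option linter.unusedSectionVars false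

namespace CfsgLib.SuzukiTheorem

open MulAction CfsgLib.RankOne

variable {G Ω : Type*} [Group G] [Finite G] [MulAction G Ω] {a : Ω} {t : G} {Q : Subgroup G}
  (hS : Cfsg.IsRankOneSetup G Ω a t Q)

local notation "stD" => (MulAction.stabilizer G a ⊓ MulAction.stabilizer G (t • a))

/-- The elements inverted by `t` form a subgroup `C` normal in `D`, and all `D`-parts lie in it. -/
structure KData (C : Subgroup G) : Prop where
  carrier : (C : Set G) = Cfsg.invertedBy stD t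
  conj : ∀ d ∈ stD, ∀ c ∈ C, d * c * d⁻¹ ∈ C
  part : ∀ x ∈ Q, x ≠ 1 → ∃ g ∈ Q, ∃ h ∈ C, ∃ f ∈ Q, t * x * t = g * h * t * f

/-- The set `QC ∪ QCtQ`. -/
def lSet (t : G) (Q C : Subgroup G) : Set G :=
  {g | (∃ x ∈ Q, ∃ c ∈ C, g = x * c) ∨ ∃ x ∈ Q, ∃ c ∈ C, ∃ y ∈ Q, g = x * c * t * y}

variable {C : Subgroup G}

include hS

theorem KData.mem_iff (hC : KData (t := t) (a := a) (Q := Q) C) {c : G} :
    c ∈ C ↔ c ∈ stD ∧ t * c * t = c⁻¹ := by
  rw [← mem_inverted_iff hS, ← hC.carrier, SetLike.mem_coe]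

theorem KData.le (hC : KData (t := t) (a := a) (Q := Q) C) {c : G} (hc : c ∈ C) : c ∈ stD :=
  ((hC.mem_iff hS).1 hc).1

theorem KData.comm_t (hC : KData (t := t) (a := a) (Q := Q) C) {c : G} (hc : c ∈ C) :
    t * c = c⁻¹ * t := by
  calc t * c = t * c * (t * t) := by rw [hS.mul_self, mul_one]
    _ = t * c * t * t := by group
    _ = c⁻¹ * t := by rw [((hC.mem_iff hS).1 hc).2]

/-- The subgroup `L`. -/
theorem KData.exists_L (hC : KData (t := t) (a := a) (Q := Q) C) :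
    ∃ L : Subgroup G, Q ≤ L ∧ C ≤ L ∧ t ∈ L ∧ (L : Set G) ⊆ lSet t Q C := by
  refine ⟨Subgroup.closure ((Q : Set G) ∪ C ∪ {t}),
    fun x hx => Subgroup.subset_closure (Or.inl (Or.inl hx)),
    fun x hx => Subgroup.subset_closure (Or.inl (Or.inr hx)),
    Subgroup.subset_closure (Or.inr rfl), ?_⟩
  have hQ : ∀ g ∈ lSet t Q C, ∀ q ∈ Q, g * q ∈ lSet t Q C := by
    rintro g (⟨x, hx, c, hc, rfl⟩ | ⟨x, hx, c, hc, y, hy, rfl⟩) q hq
    · exact Or.inl ⟨x * (c * q * c⁻¹), mul_mem hx (D_norm_Q hS (hC.le hS hc) hq), c, hc, by group⟩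
    · exact Or.inr ⟨x, hx, c, hc, y * q, mul_mem hy hq, by group⟩
  have hK : ∀ g ∈ lSet t Q C, ∀ d ∈ C, g * d ∈ lSet t Q C := by
    rintro g (⟨x, hx, c, hc, rfl⟩ | ⟨x, hx, c, hc, y, hy, rfl⟩) d hd
    · exact Or.inl ⟨x, hx, c * d, mul_mem hc hd, by group⟩
    · refine Or.inr ⟨x, hx, c * d⁻¹, mul_mem hc (inv_mem hd), d⁻¹ * y * d, ?_, ?_⟩
      · simpa using D_norm_Q hS (inv_mem (hC.le hS hd)) hy
      · calc x * c * t * y * d = x * c * (t * d) * (d⁻¹ * y * d) := by group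
          _ = _ := by rw [hC.comm_t hS hd]; group
  have ht : ∀ g ∈ lSet t Q C, g * t ∈ lSet t Q C := by
    rintro g (⟨x, hx, c, hc, rfl⟩ | ⟨x, hx, c, hc, y, hy, rfl⟩)
    · exact Or.inr ⟨x, hx, c, hc, 1, one_mem _, by group⟩
    · by_cases hy1 : y = 1
      · subst hy1
        refine Or.inl ⟨x, hx, c, hc, ?_⟩
        rw [mul_one, mul_assoc (x * c), hS.mul_self, mul_one]
      · obtain ⟨g, hg, h, hh, f, hf, e⟩ := hC.part y hy hy1
        refine Or.inr ⟨x * (c * g * c⁻¹), mul_mem hx (D_norm_Q hS (hC.le hS hc) hg), c * h,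
          mul_mem hc hh, f, hf, ?_⟩
        calc x * c * t * y * t = x * c * (t * y * t) := by group
          _ = _ := by rw [e]; group
  intro g hg
  induction hg using Subgroup.closure_induction_right with
  | one => exact Or.inl ⟨1, one_mem _, 1, one_mem _, (mul_one 1).symm⟩
  | mul_right g _ y hy ih =>
    rcases hy with (hy | hy) | rfl
    · exact hQ g ih y hy
    · exact hK g ih y hy
    · exact ht g ih
  | mul_inv_cancel g _ y hy ih =>
    rcases hy with (hy | hy) | rfl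
    · exact hQ g ih _ (inv_mem (SetLike.mem_coe.1 hy))
    · exact hK g ih _ (inv_mem (SetLike.mem_coe.1 hy))
    · rw [t_inv hS]; exact ht g ih

theorem KData.inf_stab (hC : KData (t := t) (a := a) (Q := Q) C) {L : Subgroup G}
    (hL : (L : Set G) ⊆ lSet t Q C) {g : G} (hg : g ∈ L) (ha : g • a = a) :
    ∃ x ∈ Q, ∃ c ∈ C, g = x * c := by
  rcases hL hg with h | ⟨x, hx, c, hc, y, hy, rfl⟩
  · exact h
  · exfalso
    rw [mul_smul, mul_smul, Q_smul_a hS hy, mul_smul] at ha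
    have h1 : c • t • a = x⁻¹ • a := eq_inv_smul_iff.2 ha
    rw [(Subgroup.mem_inf.1 (hC.le hS hc)).2, Q_smul_a hS (inv_mem hx)] at h1
    exact ta_ne hS h1

/-- `L` is normal and `G = L D`. -/
theorem KData.normal_L (hC : KData (t := t) (a := a) (Q := Q) C) {L : Subgroup G}
    (hQL : Q ≤ L) (hCL : C ≤ L) (htL : t ∈ L) (hL : (L : Set G) ⊆ lSet t Q C) :
    L.Normal ∧ ∀ g : G, ∃ l ∈ L, ∃ d ∈ stD, g = l * d := by
  have hconjt : ∀ d ∈ stD, d * t * d⁻¹ ∈ L := by
    intro d hd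
    obtain ⟨y, hy, z, hz, hyt, hzt, rfl⟩ :=
      exists_decomp hS.mul_self hS.odd_card (fun x hx => t_norm_D hS hx) hd
    have hzC : z ∈ C := (hC.mem_iff hS).2 ⟨hz, hzt⟩
    have e : y * z * t * (y * z)⁻¹ = y * (z * z) * y⁻¹ * t := by
      calc y * z * t * (y * z)⁻¹ = y * z * (t * z⁻¹) * y⁻¹ := by group
        _ = y * z * (z * t) * y⁻¹ := by rw [hC.comm_t hS (inv_mem hzC), inv_inv]
        _ = y * (z * z) * (t * y⁻¹) := by group
        _ = y * (z * z) * (y⁻¹ * t) := by rw [(Commute.inv_right hyt).eq]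
        _ = _ := by group
    rw [e]
    exact mul_mem (hCL (hC.conj y hy _ (mul_mem hzC hzC))) htL
  have hD : ∀ d ∈ stD, ∀ g ∈ L, d * g * d⁻¹ ∈ L := by
    intro d hd g hg
    rcases hL hg with ⟨x, hx, c, hc, rfl⟩ | ⟨x, hx, c, hc, y, hy, rfl⟩
    · rw [show d * (x * c) * d⁻¹ = d * x * d⁻¹ * (d * c * d⁻¹) by group]
      exact mul_mem (hQL (D_norm_Q hS hd hx)) (hCL (hC.conj d hd c hc))
    · rw [show d * (x * c * t * y) * d⁻¹ =
        d * x * d⁻¹ * (d * c * d⁻¹) * (d * t * d⁻¹) * (d * y * d⁻¹) by group]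
      exact mul_mem (mul_mem (mul_mem (hQL (D_norm_Q hS hd hx)) (hCL (hC.conj d hd c hc)))
        (hconjt d hd)) (hQL (D_norm_Q hS hd hy))
  have hfac : ∀ g : G, ∃ l ∈ L, ∃ d ∈ stD, g = l * d := by
    intro g
    by_cases hg : g ∈ stabilizer G a
    · obtain ⟨x, hx, d, hd, rfl⟩ := exists_mem_mul hS hg
      exact ⟨x, hQL hx, d, hd, rfl⟩
    · obtain ⟨z, hz, y, hy, rfl⟩ := exists_canonical hS hg
      obtain ⟨x, hx, d, hd, rfl⟩ := exists_mem_mul hS hz
      refine ⟨x * (d * t * d⁻¹) * (d * y * d⁻¹), mul_mem (mul_mem (hQL hx) (hconjt d hd))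
        (hQL (D_norm_Q hS hd hy)), d, hd, by group⟩
  refine ⟨⟨fun n hn g => ?_⟩, hfac⟩
  obtain ⟨l, hl, d, hd, rfl⟩ := hfac g
  rw [show l * d * n * (l * d)⁻¹ = l * (d * n * d⁻¹) * l⁻¹ by group]
  exact mul_mem (mul_mem hl (hD d hd n hn)) (inv_mem hl)

theorem KData.odd_index (hC : KData (t := t) (a := a) (Q := Q) C) {L : Subgroup G}
    (hQL : Q ≤ L) (hCL : C ≤ L) (htL : t ∈ L) (hL : (L : Set G) ⊆ lSet t Q C) : Odd L.index := by
  obtain ⟨hn, hfac⟩ := hC.normal_L hS hQL hCL htL hL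
  haveI := hn
  have hsurj : Function.Surjective ((QuotientGroup.mk' L).comp (Subgroup.subtype stD)) := by
    intro x
    obtain ⟨g, rfl⟩ := QuotientGroup.mk'_surjective L x
    obtain ⟨l, hl, d, hd, rfl⟩ := hfac g
    refine ⟨⟨d, hd⟩, ?_⟩
    rw [MonoidHom.comp_apply, map_mul]
    simp [(QuotientGroup.eq_one_iff l).2 hl]
  exact hS.odd_card.of_dvd_nat (Subgroup.index_eq_card L ▸ Subgroup.card_dvd_of_surjective _ hsurj)

/-- `L` is a simple Zassenhaus group. -/
theorem KData.zassenhaus [FaithfulSMul G Ω] (hC : KData (t := t) (a := a) (Q := Q) C)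
    (h2 : ∃ x y : G, x ≠ 1 ∧ y ≠ 1 ∧ x ≠ y ∧ x * x = 1 ∧ y * y = 1 ∧ x * y = y * x)
    {L : Subgroup G} (hQL : Q ≤ L) (hCL : C ≤ L) (htL : t ∈ L) (hL : (L : Set G) ⊆ lSet t Q C) :
    Cfsg.IsZassenhausGroup L Ω ∧ IsSimpleGroup L := by
  classical
  haveI : FaithfulSMul L Ω :=
    ⟨fun {g h} e => Subtype.ext (eq_of_smul_eq_smul (α := Ω) fun b => e b)⟩
  have hreach : ∀ b : Ω, ∃ g ∈ L, g • b = a := by
    intro b
    by_cases hb : b = a
    · exact ⟨1, one_mem _, by rw [one_smul, hb]⟩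
    · obtain ⟨x, hx, rfl⟩ := exists_Q_smul hS hb
      exact ⟨t * x⁻¹, mul_mem htL (inv_mem (hQL hx)), by rw [mul_smul, inv_smul_smul, t_ta hS]⟩
  have htwo : ∀ b c : Ω, b ≠ c → ∃ g ∈ L, g • b = a ∧ g • c = t • a := by
    intro b c hbc
    obtain ⟨g, hg, hgb⟩ := hreach b
    obtain ⟨x, hx, hxc⟩ := exists_Q_smul hS (b := g • c)
      (fun e => hbc (smul_left_cancel g (hgb.trans e.symm)))
    exact ⟨x⁻¹ * g, mul_mem (inv_mem (hQL hx)) hg,
      by rw [mul_smul, hgb, Q_smul_a hS (inv_mem hx)],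
      by rw [mul_smul, ← hxc, inv_smul_smul]⟩
  have hstab : ∀ g ∈ L, g • a = a → g • (t • a) = t • a → g ∈ C := by
    intro g hg ha hb
    obtain ⟨x, hx, c, hc, rfl⟩ := hC.inf_stab hS hL hg ha
    rw [mul_smul, (Subgroup.mem_inf.1 (hC.le hS hc)).2] at hb
    rwa [eq_one_of_smul_ta hS hx hb, one_mul]
  have hthree : ∀ g : L, ∀ b c d : Ω, b ≠ c → c ≠ d → b ≠ d →
      g • b = b → g • c = c → g • d = d → g = 1 := by
    intro g b c d hbc hcd hbd hb hc hd
    obtain ⟨w, hw, hwb, hwc⟩ := htwo b c hbc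
    have hgb : (g : G) • b = b := hb
    have hgc : (g : G) • c = c := hc
    have hgd : (g : G) • d = d := hd
    set u := w * g * w⁻¹ with hu
    have hfix : ∀ e : Ω, (g : G) • e = e → u • (w • e) = w • e := fun e he => by
      rw [hu, mul_smul, mul_smul, inv_smul_smul, he]
    have hua : u • a = a := hwb ▸ hfix b hgb
    have hub : u • (t • a) = t • a := hwc ▸ hfix c hgc
    have huC : u ∈ C := hstab u (mul_mem (mul_mem hw g.2) (inv_mem hw)) hua hub
    have hda : w • d ≠ a := fun e => hbd (smul_left_cancel w (hwb.trans e.symm))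
    obtain ⟨q, hq, hqd⟩ := exists_Q_smul hS hda
    have hq' : q⁻¹ * (u * q * u⁻¹) = 1 := by
      refine eq_one_of_smul_ta hS (mul_mem (inv_mem hq) (D_norm_Q hS (hC.le hS huC) hq)) ?_
      rw [mul_smul, mul_smul, mul_smul, inv_smul_eq_iff.2 hub.symm, hqd, hfix d hgd, ← hqd,
        inv_smul_smul]
    by_contra hg1
    have hu1 : u ≠ 1 := fun e => hg1 (Subtype.ext (by
      rw [hu, conj_eq_one_iff] at e; exact e))
    have hmem : q ∈ Q ⊓ Subgroup.centralizer {u} := by
      refine Subgroup.mem_inf.2 ⟨hq, Subgroup.mem_centralizer_singleton_iff.2 ?_⟩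
      rw [inv_mul_eq_one] at hq'
      exact (mul_inv_eq_iff_eq_mul.1 hq'.symm).symm
    rw [fpf_of_inverted hS (by rw [← hC.carrier]; exact huC) hu1, Subgroup.mem_bot] at hmem
    rw [hmem, one_smul, ← hwc] at hqd
    exact hcd (smul_left_cancel w hqd)
  have hZ : Cfsg.IsZassenhausGroup L Ω := by
    refine ⟨inferInstance, ?_, fun g b c d hbc hcd hbd => hthree g b c d hbc hcd hbd, ?_, ?_⟩
    · rw [MulAction.is_two_pretransitive_iff]
      intro b c d e hbc hde
      obtain ⟨g, hg, hgb, hgc⟩ := htwo b c hbc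
      obtain ⟨k, hk, hkd, hke⟩ := htwo d e hde
      exact ⟨⟨k⁻¹ * g, mul_mem (inv_mem hk) hg⟩,
        show (k⁻¹ * g) • b = d by rw [mul_smul, hgb, ← hkd, inv_smul_smul],
        show (k⁻¹ * g) • c = e by rw [mul_smul, hgc, ← hke, inv_smul_smul]⟩
    · obtain ⟨k, hk, hk1⟩ := exists_inverted_ne_one hS h2
      rw [← hC.carrier] at hk
      have hkD := hC.le hS hk
      exact ⟨⟨k, hCL hk⟩, fun e => hk1 (congrArg Subtype.val e), a, t • a, (ta_ne hS).symm,
        (Subgroup.mem_inf.1 hkD).1, (Subgroup.mem_inf.1 hkD).2⟩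
    · intro N hN htr
      by_contra hreg
      push Not at hreg
      haveI := htr
      obtain ⟨u, v, hu, hv, huv⟩ := exists_two_involutions hS h2
      have key : ∀ (w : G), w ∈ Cfsg.involutionsIn (stabilizer G a : Set G) →
          ∀ n ∈ N, w * ((n : L) : G) * w⁻¹ = ((n : L) : G)⁻¹ := by
        intro w hw
        have hwQ : w ∈ Q := mem_Q_of_sq_eq_one hS hw.1 hw.2.2
        haveI := hN
        let φ : N ≃* N := (MulAut.conjNormal (⟨w, hQL hwQ⟩ : L) : MulAut N)
        have hval : ∀ n : N, (((φ n : N) : L) : G) = w * ((n : L) : G) * w⁻¹ := fun n => rfl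
        have hfp : MonoidHom.FixedPointFree φ := by
          intro n hn
          have h1 : w * ((n : L) : G) * w⁻¹ = ((n : L) : G) := by rw [← hval, hn]
          have h1' : w * ((n : L) : G) = ((n : L) : G) * w := mul_inv_eq_iff_eq_mul.1 h1
          have hna : ((n : L) : G) • a = a := fixed_eq_of_involution hS hw.1 hw.2.1 hw.2.2 (by
            rw [← mul_smul, h1', mul_smul, show w • a = a from hw.1])
          have : n ∈ stabilizer N a := hna
          rwa [hreg a, Subgroup.mem_bot] at this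
        have hinv : Function.Involutive φ := fun n => Subtype.ext (Subtype.ext (by
          rw [hval, hval]
          calc w * (w * ((n : L) : G) * w⁻¹) * w⁻¹ = (w * w) * ((n : L) : G) * (w * w)⁻¹ := by group
            _ = _ := by rw [hw.2.2]; group))
        intro n hn
        have := congrFun (hfp.coe_eq_inv_of_involutive hinv) ⟨n, hn⟩
        rw [← hval ⟨n, hn⟩, this]
        rfl
      have hcomm : ∀ n ∈ N, (u * v) * ((n : L) : G) = ((n : L) : G) * (u * v) := by
        intro n hn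
        refine mul_inv_eq_iff_eq_mul.1 ?_
        calc u * v * ((n : L) : G) * (u * v)⁻¹ = u * (v * ((n : L) : G) * v⁻¹) * u⁻¹ := by group
          _ = u * (((n⁻¹ : L)) : G) * u⁻¹ := by rw [key v hv n hn]; rfl
          _ = _ := by rw [key u hu _ (inv_mem hn)]; simp
      have huv1 : u * v ≠ 1 := fun e => huv (by
        rw [eq_inv_of_mul_eq_one_left e, inv_eq_of_mul_eq_one_right hv.2.2])
      have hua : (u * v) • a = a := by rw [mul_smul, show v • a = a from hv.1, show u • a = a from hu.1]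
      refine huv1 (eq_of_smul_eq_smul (α := Ω) fun b => ?_)
      obtain ⟨n, hn⟩ := MulAction.exists_smul_eq N a b
      have hn' : ((n : L) : G) • a = b := hn
      rw [one_smul, ← hn', ← mul_smul, hcomm n n.2, mul_smul, hua]
  haveI := finite_points hS
  refine ⟨hZ, Zassenhaus.isSimpleGroup_of_odd hZ ?_⟩
  rw [card_points hS]
  exact hS.even_card.add_one

end CfsgLib.SuzukiTheorem
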