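import Cfsg.Agent.SuzukiTheorem.Frame

/-!
# Field coordinates for `E` and `K` when `r = s`
-/

set_option autoImplicit false

namespace CfsgLib.SuzukiThm

universe u v

variable {G : Type u} {Ω : Type v} [Group G] [MulAction G Ω] [Finite G] {a : Ω} {t : G} {Q : Subgroup G}

/-- `ι` identifies `F` with `E` and `κ` identifies `Fˣ` with `K`, acting by squares; `t` inverts on `E`. -/
structure LineData (P : Frame a t Q) (F : Type) [Field F] where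
  ι : F → G
  ι_injective : Function.Injective ι
  range_ι : Set.range ι = (P.E : Set G)
  ι_add : ∀ x y : F, ι (x + y) = ι x * ι y
  ι_one : ι 1 = P.s
  κ : Fˣ →* G
  κ_injective : Function.Injective κ
  range_κ : κ.range = P.K
  conj_ι : ∀ (c : Fˣ) (x : F), κ c * ι x * (κ c)⁻¹ = ι ((c : F) * c * x)
  g_ι : ∀ x : F, x ≠ 0 → P.g (ι x) = ι x⁻¹

/-- Row vectors of `SL₂(F)` on the elements of `Q` outside `E`, compatible with `E`, `K` and `t`. -/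
structure RowData {P : Frame a t Q} {F : Type} [Field F] (L : LineData P F) where
  T : G → F × F
  R : G → F × F
  det : ∀ x ∈ Q, x ∉ P.E → (T x).1 * (R x).2 + (T x).2 * (R x).1 = 1
  bij : ∀ v w : F × F, v.1 * w.2 + v.2 * w.1 = 1 → ∃! x, (x ∈ Q ∧ x ∉ P.E) ∧ T x = v ∧ R x = w
  mul_ι : ∀ x ∈ Q, x ∉ P.E → ∀ ν : F, T (L.ι ν * x) = T x + ν • R x ∧ R (L.ι ν * x) = R x
  conj_κ : ∀ x ∈ Q, x ∉ P.E → ∀ c : Fˣ,
    T (L.κ c * x * (L.κ c)⁻¹) = (c : F) • T x ∧ R (L.κ c * x * (L.κ c)⁻¹) = ((c⁻¹ : Fˣ) : F) • R x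
  g_mem : ∀ x ∈ Q, x ∉ P.E → P.g x ∉ P.E
  rows_g : ∀ x ∈ Q, x ∉ P.E → T (P.g x) = R x ∧ R (P.g x) = T x

end CfsgLib.SuzukiThm
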