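import Cfsg.Agent.SuzukiTheorem.LineData
import Cfsg.Agent.SEmbed.ProjectiveLine
import Cfsg.Agent.Linear.Basic

/-!
# The group `⟨E, K, t⟩` when `r = s`

If `r = s` then `E`, `K`, `t` generate a copy of `SL₂(q)`, which stabilises the `q + 1` points
`a`, `x • t • a` (`x ∈ E`) and is semiregular on all the other points.
-/

set_option autoImplicit false
set_option linter.unusedSectionVars false
set_option linter.style.haveILetI false

namespace CfsgLib.SuzukiThm

open CfsgLib MatrixGroups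

universe u v

variable {G : Type u} {Ω : Type v} [Group G] [MulAction G Ω] [Finite G] {a : Ω} {t : G} {Q : Subgroup G}

/-! ### Coordinates -/

theorem exists_lineData [FaithfulSMul G Ω] (P : Frame a t Q) (hr : P.r = P.s) :
    ∃ (F : Type) (_ : Field F) (_ : Fintype F) (_ : CharP F 2),
      Fintype.card F = P.q ∧ Nonempty (LineData P F) := by
  classical
  letI : CommGroup P.E :=
    { (inferInstance : Group P.E) with mul_comm := fun x y => Subtype.ext (P.E_comm x.2 y.2) }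
  let ρ : P.K → AddMonoid.End (Additive P.E) := fun k => AddMonoidHom.mk'
    (fun x => Additive.ofMul
      ⟨(k : G) * ((Additive.toMul x : P.E) : G) * (k : G)⁻¹,
        P.D_norm_E (P.K_le k.2) (Additive.toMul x).2⟩)
    (fun x y => congrArg Additive.ofMul (Subtype.ext (by
      show (k : G) * (((Additive.toMul x : P.E) : G) * ((Additive.toMul y : P.E) : G)) * (k : G)⁻¹ =
        ((k : G) * ((Additive.toMul x : P.E) : G) * (k : G)⁻¹) *
          ((k : G) * ((Additive.toMul y : P.E) : G) * (k : G)⁻¹)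
      group)))
  have hext : ∀ {x y : Additive P.E},
      ((Additive.toMul x : P.E) : G) = ((Additive.toMul y : P.E) : G) → x = y :=
    fun {x y} h => Additive.toMul.injective (Subtype.ext h)
  obtain ⟨F, fF, fFin, τ, hcard, hchar, hτ1, hmul⟩ := SEmbed.exists_field_of_transitive ρ
    (fun i j => AddMonoidHom.ext fun x => hext (by
      show (i : G) * ((j : G) * ((Additive.toMul x : P.E) : G) * (j : G)⁻¹) * (i : G)⁻¹ =
        (j : G) * ((i : G) * ((Additive.toMul x : P.E) : G) * (i : G)⁻¹) * (j : G)⁻¹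
      rw [← mul_assoc, ← mul_assoc, ← mul_assoc, ← mul_assoc, P.K_comm i.2 j.2]
      simp only [mul_assoc, ← mul_inv_rev, P.K_comm i.2 j.2]))
    (fun x => hext (P.E_sq (Additive.toMul x).2))
    (Additive.ofMul (⟨P.s, P.s_mem_E⟩ : P.E))
    (fun h0 => P.s_ne_one (congrArg Subtype.val (congrArg Additive.toMul h0)))
    (fun x hx => by
      obtain ⟨k, hk, hke⟩ := P.exists_conj_K P.s_mem_E P.s_ne_one (Additive.toMul x).2
        (fun h1 => hx (hext h1))
      exact ⟨⟨k, hk⟩, hext hke⟩)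
    (fun k x h => hext (by
      have h1 : (k : G) * ((Additive.toMul x : P.E) : G) * (k : G)⁻¹ = 1 :=
        congrArg (fun b => ((Additive.toMul b : P.E) : G)) h
      rwa [mul_inv_eq_one, mul_eq_left] at h1))
  haveI := hchar
  let ι : F → G := fun x => ((Additive.toMul (τ x) : P.E) : G)
  have hιinj : Function.Injective ι := fun x y h => τ.injective (hext h)
  have hι1 : ι 1 = P.s := by simp only [ι, hτ1]; rfl
  choose α hα0 hα using hmul
  have hconj : ∀ (k : P.K) (x : F), ι (α k * x) = (k : G) * ι x * (k : G)⁻¹ := fun k x => by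
    simp only [ι, hα]; rfl
  have hA : ∀ k l : P.K, α (k * l) = α k * α l := fun k l => hιinj (by
    conv_lhs => rw [← mul_one (α (k * l))]
    conv_rhs => rw [← mul_one (α k * α l)]
    rw [hconj, mul_assoc (α k), hconj, hconj, hι1]
    simp [mul_assoc])
  let A : P.K →* Fˣ :=
    MonoidHom.mk' (fun k => Units.mk0 (α k) (hα0 k)) fun k l => Units.ext (hA k l)
  have hAinj : Function.Injective A := fun k l h => Subtype.ext
    (P.conj_K_injective k.2 l.2 P.s_mem_Q P.s_ne_one (by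
      rw [← hι1, ← hconj, ← hconj, show α k = α l from congrArg Units.val h]))
  have hcardF : Fintype.card F = P.q := by
    rw [← Nat.card_eq_fintype_card, hcard]; rfl
  have hAbij : Function.Bijective A := (Nat.bijective_iff_injective_and_card _).2 ⟨hAinj, by
    rw [Nat.card_units, Nat.card_eq_fintype_card (α := F), hcardF, ← P.card_K_add_one, Nat.add_sub_cancel]⟩
  let e : P.K ≃* Fˣ := MulEquiv.ofBijective A hAbij
  have he : ∀ c : Fˣ, α (e.symm c) = c := fun c => congrArg Units.val (e.apply_symm_apply c)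
  have hsqinj : Function.Injective (powMonoidHom 2 : Fˣ →* Fˣ) := fun c d h => Units.ext (by
    have h' := congrArg Units.val h
    simp only [powMonoidHom_apply, Units.val_pow_eq_pow_val] at h'
    rcases sq_eq_sq_iff_eq_or_eq_neg.1 h' with h1 | h1
    · exact h1
    · rwa [CharTwo.neg_eq] at h1)
  have hsqsurj : Function.Surjective (powMonoidHom 2 : Fˣ →* Fˣ) :=
    Finite.surjective_of_injective hsqinj
  refine ⟨F, fF, fFin, hchar, hcardF, ⟨{
    ι := ι
    ι_injective := hιinj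
    range_ι := Set.ext fun x => ⟨by rintro ⟨y, rfl⟩; exact (Additive.toMul (τ y)).2, fun hx =>
      ⟨τ.symm (Additive.ofMul ⟨x, hx⟩), by simp [ι]⟩⟩
    ι_add := fun x y => by simp only [ι, map_add]; rfl
    ι_one := hι1
    κ := P.K.subtype.comp (e.symm.toMonoidHom.comp (powMonoidHom 2))
    κ_injective := P.K.subtype_injective.comp (e.symm.injective.comp hsqinj)
    range_κ := by
      apply SetLike.ext
      intro x
      refine ⟨?_, fun hx => ?_⟩
      · rintro ⟨c, rfl⟩; exact (e.symm _).2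
      · obtain ⟨c, hc⟩ := hsqsurj (e ⟨x, hx⟩)
        exact ⟨c, by simp [hc]⟩
    conj_ι := fun c x => ?_
    g_ι := fun x hx => ?_ }⟩⟩
  · show (e.symm (c ^ 2) : G) * ι x * (e.symm (c ^ 2) : G)⁻¹ = ι ((c : F) * c * x)
    rw [← hconj, he, Units.val_pow_eq_pow_val, sq]
  · obtain ⟨k, hk⟩ : ∃ k : P.K, α k = x := ⟨e.symm (Units.mk0 x hx), he _⟩
    have h1 : ι x = (k : G) * P.s * (k : G)⁻¹ := by rw [← hι1, ← hconj, hk, mul_one]
    have h2 : α k⁻¹ = x⁻¹ := by
      have : A k⁻¹ = (A k)⁻¹ := map_inv A k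
      have h3 := congrArg Units.val this
      simp only [A, MonoidHom.mk'_apply, Units.val_mk0, Units.val_inv_eq_inv_val] at h3
      rw [h3, hk]
    rw [h1, (P.parts_E k.2).1, hr, P.E_inv P.s_mem_E, ← mul_one x⁻¹, ← h2, hconj, hι1,
      Subgroup.coe_inv, inv_inv]

namespace LineData

variable {P : Frame a t Q} {F : Type} [Field F] (L : LineData P F)

theorem ι_mem (x : F) : L.ι x ∈ P.E := by
  rw [← SetLike.mem_coe, ← L.range_ι]; exact ⟨x, rfl⟩

theorem ι_mem_Q (x : F) : L.ι x ∈ Q := P.E_le (L.ι_mem x)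

theorem exists_ι {x : G} (hx : x ∈ P.E) : ∃ y : F, L.ι y = x := by
  rw [← SetLike.mem_coe, ← L.range_ι] at hx; exact hx

theorem ι_zero : L.ι 0 = 1 := by
  have h := L.ι_add 0 0
  rw [add_zero] at h
  exact mul_eq_left.1 h.symm

theorem ι_eq_one {x : F} (h : L.ι x = 1) : x = 0 := L.ι_injective (h.trans L.ι_zero.symm)

theorem ι_inv (x : F) : (L.ι x)⁻¹ = L.ι x := P.E_inv (L.ι_mem x)

include L in
theorem finite_field : Finite F := Finite.of_injective L.ι L.ι_injective

include L in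
theorem card_eq : Nat.card F = P.q := by
  show Nat.card F = Nat.card P.E
  rw [← SetLike.coe_sort_coe, ← L.range_ι]
  exact Nat.card_congr (Equiv.ofInjective L.ι L.ι_injective)

open scoped Classical in
/-- `κ` on field elements. -/
noncomputable def k (x : F) : G := if h : x = 0 then 1 else L.κ (Units.mk0 x h)

theorem k_of_ne {x : F} (h : x ≠ 0) : L.k x = L.κ (Units.mk0 x h) := dif_neg h

theorem k_mem (x : F) : L.k x ∈ P.K := by
  unfold k
  split
  · exact one_mem _
  · rw [← L.range_κ]; exact ⟨_, rfl⟩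

theorem k_mem_D (x : F) : L.k x ∈ pairD G a t := P.K_le (L.k_mem x)

theorem k_val (c : Fˣ) : L.k (c : F) = L.κ c := by
  rw [L.k_of_ne c.ne_zero]; simp

theorem k_one : L.k 1 = 1 := by rw [L.k_of_ne one_ne_zero]; simp

theorem k_mul {x y : F} (hx : x ≠ 0) (hy : y ≠ 0) : L.k (x * y) = L.k x * L.k y := by
  rw [L.k_of_ne hx, L.k_of_ne hy, L.k_of_ne (mul_ne_zero hx hy), ← map_mul]
  congr 1
  exact Units.ext rfl

theorem k_inv {x : F} (hx : x ≠ 0) : (L.k x)⁻¹ = L.k x⁻¹ := by
  rw [inv_eq_iff_mul_eq_one, ← L.k_mul hx (inv_ne_zero hx), mul_inv_cancel₀ hx, L.k_one]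

theorem k_eq_one {x : F} (hx : x ≠ 0) (h : L.k x = 1) : x = 1 := by
  rw [L.k_of_ne hx] at h
  exact congrArg Units.val (L.κ_injective (h.trans (map_one _).symm))

theorem conj_k {c : F} (hc : c ≠ 0) (x : F) : L.k c * L.ι x = L.ι (c * c * x) * L.k c := by
  rw [L.k_of_ne hc, ← mul_inv_eq_iff_eq_mul, L.conj_ι, Units.val_mk0]

theorem t_k {c : F} (hc : c ≠ 0) : t * L.k c = L.k c⁻¹ * t := by
  rw [← L.k_inv hc, ← P.t_conj_K (L.k_mem c), mul_assoc _ t t, P.tt, mul_one]

variable [CharP F 2]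

include L in
theorem exists_sqrt (x : F) : ∃ c : F, c * c = x := by
  haveI := L.finite_field
  obtain ⟨c, hc⟩ := FiniteField.isSquare_of_char_two (ringChar.eq F 2) x
  exact ⟨c, hc.symm⟩

/-- The structure equation at `ι x`. -/
theorem t_ι (hr : P.r = P.s) {x : F} (hx : x ≠ 0) :
    t * L.ι x * t = L.ι x⁻¹ * L.k x⁻¹ * t * L.ι x⁻¹ := by
  obtain ⟨c, rfl⟩ := L.exists_sqrt x
  have hc : c ≠ 0 := fun h => hx (by rw [h, mul_zero])
  have h1 : L.k c * P.s * (L.k c)⁻¹ = L.ι (c * c) := by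
    rw [← L.ι_one, L.conj_k hc, mul_one, mul_inv_cancel_right]
  obtain ⟨hg, hh, hf⟩ := P.parts_E (L.k_mem c)
  have hι : L.ι (c * c) ≠ 1 := fun h => hx (L.ι_eq_one h)
  rw [h1] at hg hh hf
  rw [P.eq_txt (L.ι_mem_Q _) hι, hg, hh, hf, hr, P.E_inv P.s_mem_E, ← L.ι_one, L.k_inv hc,
    ← L.k_mul (inv_ne_zero hc) (inv_ne_zero hc), L.conj_k (inv_ne_zero hc), mul_one, mul_assoc,
    mul_assoc (L.ι (c⁻¹ * c⁻¹)) (L.k c⁻¹) (L.k c), ← L.k_mul (inv_ne_zero hc) hc,
    inv_mul_cancel₀ hc, L.k_one, mul_one, mul_inv]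
  simp only [mul_assoc]

open scoped Classical in
/-- The image of `!![p, q; r, s]`. -/
noncomputable def phi4 (p q r s : F) : G :=
  if r = 0 then L.ι (p * q) * L.k p else L.ι (p / r) * L.k r⁻¹ * t * L.ι (s / r)

theorem phi4_zero (p q s : F) : L.phi4 p q 0 s = L.ι (p * q) * L.k p := if_pos rfl

theorem phi4_ne {r : F} (hr' : r ≠ 0) (p q s : F) :
    L.phi4 p q r s = L.ι (p / r) * L.k r⁻¹ * t * L.ι (s / r) := if_neg hr'

theorem phi4_u {p q r s : F} (h : p * s + q * r = 1) (x : F) :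
    L.phi4 p (p * x + q) r (r * x + s) = L.phi4 p q r s * L.ι x := by
  rcases eq_or_ne r 0 with rfl | hr'
  · have hp : p ≠ 0 := by rintro rfl; simp at h
    rw [phi4_zero, phi4_zero, mul_assoc, L.conj_k hp, ← mul_assoc, ← L.ι_add]
    congr 2
    ring
  · rw [L.phi4_ne hr', L.phi4_ne hr', mul_assoc (L.ι (p / r) * L.k r⁻¹ * t), ← L.ι_add]
    congr 2
    field_simp
    ring

theorem phi4_k {p q r s e : F} (h : p * s + q * r = 1) (he : e ≠ 0) :
    L.phi4 (p * e) (q / e) (r * e) (s / e) = L.phi4 p q r s * L.k e := by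
  rcases eq_or_ne r 0 with rfl | hr'
  · have hp : p ≠ 0 := by rintro rfl; simp at h
    rw [zero_mul, phi4_zero, phi4_zero, L.k_mul hp he, ← mul_assoc]
    congr 3
    field_simp
  · have hre : r * e ≠ 0 := mul_ne_zero hr' he
    rw [L.phi4_ne hre, L.phi4_ne hr']
    have h1 : L.ι (s / r) * L.k e = L.k e * L.ι (s / e / (r * e)) := by
      rw [L.conj_k he]
      congr 2
      field_simp
    rw [mul_assoc (L.ι (p / r) * L.k r⁻¹ * t), h1, ← mul_assoc, mul_assoc (L.ι (p / r) * L.k r⁻¹) t,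
      L.t_k he, ← mul_assoc, mul_assoc (L.ι (p / r)), ← L.k_mul (inv_ne_zero hr') (inv_ne_zero he),
      ← mul_inv]
    congr 4
    field_simp

theorem phi4_w (hr : P.r = P.s) {p q r s : F} (h : p * s + q * r = 1) :
    L.phi4 q p s r = L.phi4 p q r s * t := by
  rcases eq_or_ne r 0 with rfl | hr'
  · have hps : p * s = 1 := by rw [← h]; ring
    have hs : s ≠ 0 := right_ne_zero_of_mul_eq_one hps
    have hp : p = s⁻¹ := eq_inv_of_mul_eq_one_left hps
    rw [L.phi4_ne hs, phi4_zero, zero_div, L.ι_zero, mul_one]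
    congr 3
    · rw [hp]; field_simp
    · exact hp.symm
  · rcases eq_or_ne s 0 with rfl | hs
    · have hqr : q * r = 1 := by rw [← h]; ring
      have hq : q = r⁻¹ := eq_inv_of_mul_eq_one_left hqr
      rw [L.phi4_ne hr', phi4_zero, zero_div, L.ι_zero, mul_one, mul_assoc _ t t, P.tt, mul_one]
      congr 2
      · rw [hq]; field_simp
    · rw [L.phi4_ne hs, L.phi4_ne hr',
        show L.ι (p / r) * L.k r⁻¹ * t * L.ι (s / r) * t =
          L.ι (p / r) * L.k r⁻¹ * (t * L.ι (s / r) * t) by group,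
        L.t_ι hr (div_ne_zero hs hr'), inv_div,
        show L.ι (p / r) * L.k r⁻¹ * (L.ι (r / s) * L.k (r / s) * t * L.ι (r / s)) =
          L.ι (p / r) * (L.k r⁻¹ * L.ι (r / s)) * L.k (r / s) * t * L.ι (r / s) by group,
        L.conj_k (inv_ne_zero hr'), ← mul_assoc, ← L.ι_add,
        mul_assoc (L.ι _) (L.k r⁻¹), ← L.k_mul (inv_ne_zero hr') (div_ne_zero hr' hs)]
      congr 4
      · field_simp
        have h' : p * s + 1 = q * r := by
          rw [← h, ← add_assoc, CharTwo.add_self_eq_zero, zero_add]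
        linear_combination -h'
      · field_simp

theorem phi4_mul (hr : P.r = P.s) {p q r s p' q' r' s' : F} (h : p * s + q * r = 1)
    (h' : p' * s' + q' * r' = 1) :
    L.phi4 (p * p' + q * r') (p * q' + q * s') (r * p' + s * r') (r * q' + s * s') =
      L.phi4 p q r s * L.phi4 p' q' r' s' := by
  rcases eq_or_ne r' 0 with rfl | hr'
  · have hp' : p' ≠ 0 := by rintro rfl; simp at h'
    have hs' : s' = 1 / p' := by
      rw [eq_div_iff hp', mul_comm, ← h']; ring
    set y := p' * q' with hy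
    have h1 : p * (r * y + s) + (p * y + q) * r = 1 := by
      calc _ = p * s + q * r + ((p * r * y) + (p * r * y)) := by ring
        _ = 1 := by rw [h, CharTwo.add_self_eq_zero, add_zero]
    rw [L.phi4_zero, ← mul_assoc, ← L.phi4_u h y, ← L.phi4_k h1 hp']
    congr 1
    · ring
    · rw [hy, hs']; field_simp
    · ring
    · rw [hy, hs']; field_simp
  · -- four steps
    have aux : ∀ {p q r s : F}, p * s + q * r = 1 → ∀ y : F,
        p * (r * y + s) + (p * y + q) * r = 1 := fun {p q r s} h y => by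
      calc _ = p * s + q * r + ((p * r * y) + (p * r * y)) := by ring
        _ = 1 := by rw [h, CharTwo.add_self_eq_zero, add_zero]
    set y := p' / r' with hy
    set e := r'⁻¹ with he'
    have he : e ≠ 0 := inv_ne_zero hr'
    have h1 := aux h y
    have h2 : p * e * ((r * y + s) / e) + (p * y + q) / e * (r * e) = 1 := by
      rw [← h1]; field_simp
    have h3 : (p * y + q) / e * (r * e) + p * e * ((r * y + s) / e) = 1 := by rw [add_comm]; exact h2
    rw [L.phi4_ne hr', ← mul_assoc, ← mul_assoc, ← mul_assoc, ← hy, ← he', ← L.phi4_u h y,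
      ← L.phi4_k h1 he, ← L.phi4_w hr h2, ← L.phi4_u h3 (s' / r')]
    have hq' : q' = (1 + p' * s') / r' := by
      rw [eq_div_iff hr']
      linear_combination h' - CharTwo.add_self_eq_zero (p' * s')
    congr 1
    · rw [hy, he']; field_simp
    · rw [hy, he', hq']; field_simp; ring
    · rw [hy, he']; field_simp
    · rw [hy, he', hq']; field_simp; ring

/-- The matrix `!![p, q; r, s]`. -/
def mat (p q r s : F) (h : p * s + q * r = 1) : SL(2, F) :=
  ⟨!![p, q; r, s], by rw [Matrix.det_fin_two_of, CharTwo.sub_eq_add]; exact h⟩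

omit [CharP F 2] in
theorem det_entries [CharP F 2] (M : SL(2, F)) : M 0 0 * M 1 1 + M 0 1 * M 1 0 = 1 := by
  rw [← CharTwo.sub_eq_add, ← Matrix.det_fin_two]
  exact M.2

/-- The homomorphism onto `⟨E, K, t⟩`. -/
noncomputable def phi (hr : P.r = P.s) : SL(2, F) →* G :=
  MonoidHom.mk' (fun M => L.phi4 (M 0 0) (M 0 1) (M 1 0) (M 1 1)) fun M N => by
    simp only [Matrix.SpecialLinearGroup.coe_mul, Matrix.mul_apply, Fin.sum_univ_two]
    exact L.phi4_mul hr (det_entries M) (det_entries N)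

theorem phi_apply (hr : P.r = P.s) (M : SL(2, F)) :
    L.phi hr M = L.phi4 (M 0 0) (M 0 1) (M 1 0) (M 1 1) := rfl

theorem phi_mat (hr : P.r = P.s) {p q r s : F} (h : p * s + q * r = 1) :
    L.phi hr (mat p q r s h) = L.phi4 p q r s := rfl

/-- The translation matrix. -/
def uMat (x : F) : SL(2, F) := mat 1 x 0 1 (by ring)

/-- The diagonal matrix. -/
def dMat (c : Fˣ) : SL(2, F) := mat c 0 0 ((c⁻¹ : Fˣ) : F) (by simp)

/-- The Weyl matrix. -/
def wMat : SL(2, F) := mat 0 1 1 0 (by ring)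

theorem phi_uMat (hr : P.r = P.s) (x : F) : L.phi hr (uMat x) = L.ι x := by
  rw [uMat, phi_mat, phi4_zero, one_mul, k_one, mul_one]

theorem phi_dMat (hr : P.r = P.s) (c : Fˣ) : L.phi hr (dMat c) = L.κ c := by
  rw [dMat, phi_mat, phi4_zero, mul_zero, ι_zero, one_mul, k_val]

theorem phi_wMat (hr : P.r = P.s) : L.phi hr wMat = t := by
  rw [wMat, phi_mat, L.phi4_ne one_ne_zero, zero_div, ι_zero, inv_one, k_one, one_mul, one_mul,
    mul_one]

theorem phi4_notMem {r : F} (hr' : r ≠ 0) (p q s : F) :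
    L.phi4 p q r s • a = L.ι (p / r) • t • a := by
  rw [L.phi4_ne hr', mul_smul, mul_smul, mul_smul, RankOne.Q_smul_a P.hS (L.ι_mem_Q _),
    show L.k r⁻¹ • t • a = t • a from (Subgroup.mem_inf.1 (L.k_mem_D _)).2]

theorem phi4_zero_smul (p q s : F) : L.phi4 p q 0 s • a = a := by
  rw [phi4_zero, mul_smul, show L.k p • a = a from (Subgroup.mem_inf.1 (L.k_mem_D _)).1,
    RankOne.Q_smul_a P.hS (L.ι_mem_Q _)]

theorem phi_injective (hr : P.r = P.s) : Function.Injective (L.phi hr) := by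
  refine (injective_iff_map_eq_one _).2 fun M hM => ?_
  have hdet := det_entries M
  rw [phi_apply] at hM
  have hr0 : M 1 0 = 0 := by
    by_contra h
    have h1 := L.phi4_notMem h (M 0 0) (M 0 1) (M 1 1)
    rw [hM, one_smul] at h1
    exact RankOne.ta_ne P.hS ((smul_left_cancel_iff (L.ι (M 0 0 / M 1 0))).1
      (h1.symm.trans (RankOne.Q_smul_a P.hS (L.ι_mem_Q _)).symm))
  rw [hr0, phi4_zero] at hM
  rw [hr0, mul_zero, add_zero] at hdet
  have hp : M 0 0 ≠ 0 := left_ne_zero_of_mul_eq_one hdet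
  obtain ⟨h1, h2⟩ := RankOne.mul_unique P.hS (L.ι_mem_Q _) (L.k_mem_D _) (one_mem Q) (one_mem _)
    (hM.trans (one_mul 1).symm)
  have hp1 := L.k_eq_one hp h2
  have hq := L.ι_eq_one h1
  rw [hp1, one_mul] at hq hdet
  apply Matrix.SpecialLinearGroup.ext
  intro i j
  fin_cases i <;> fin_cases j <;> simp [hp1, hq, hr0, hdet]

/-! ### The line and the points off it -/

/-- The orbit of `a`. -/
def OnLine (z : Ω) : Prop := z = a ∨ ∃ x : F, L.ι x • t • a = z

theorem onLine_iff (hr : P.r = P.s) {z : Ω} : L.OnLine z ↔ ∃ M, L.phi hr M • a = z := by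
  constructor
  · rintro (rfl | ⟨x, rfl⟩)
    · exact ⟨1, by rw [map_one, one_smul]⟩
    · exact ⟨uMat x * wMat, by rw [map_mul, phi_uMat, phi_wMat, mul_smul]⟩
  · rintro ⟨M, rfl⟩
    rw [phi_apply]
    rcases eq_or_ne (M 1 0) 0 with h | h
    · rw [h]; exact Or.inl (L.phi4_zero_smul _ _ _)
    · exact Or.inr ⟨_, (L.phi4_notMem h _ _ _).symm⟩

theorem onLine_smul (hr : P.r = P.s) {z : Ω} (h : L.OnLine z) (M : SL(2, F)) :
    L.OnLine (L.phi hr M • z) := by
  obtain ⟨N, rfl⟩ := (L.onLine_iff hr).1 h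
  exact (L.onLine_iff hr).2 ⟨M * N, by rw [map_mul, mul_smul]⟩

theorem not_onLine_smul (hr : P.r = P.s) {z : Ω} (h : ¬ L.OnLine z) (M : SL(2, F)) :
    ¬ L.OnLine (L.phi hr M • z) := fun h' => h (by
  have := L.onLine_smul hr h' M⁻¹
  rwa [map_inv, inv_smul_smul] at this)

theorem not_onLine_of_Q {x : G} (hx : x ∈ Q) (hxE : x ∉ P.E) : ¬ L.OnLine (x • t • a) := by
  rintro (h | ⟨y, hy⟩)
  · exact RankOne.ta_ne P.hS
      ((smul_left_cancel_iff x).1 (h.trans (RankOne.Q_smul_a P.hS hx).symm))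
  · exact hxE (RankOne.Q_smul_inj P.hS (L.ι_mem_Q y) hx hy ▸ L.ι_mem y)

theorem exists_of_not_onLine {z : Ω} (h : ¬ L.OnLine z) :
    ∃ x ∈ Q, x ∉ P.E ∧ x • t • a = z := by
  obtain ⟨x, hx, rfl⟩ := RankOne.exists_Q_smul P.hS fun h' => h (Or.inl h')
  refine ⟨x, hx, fun hxE => h ?_, rfl⟩
  obtain ⟨y, rfl⟩ := L.exists_ι hxE
  exact Or.inr ⟨y, rfl⟩

theorem k_fixes {p : F} (hp : p ≠ 0) (hp1 : p ≠ 1) {z : Ω} (hz : ¬ L.OnLine z) :
    L.k p • z ≠ z := by
  intro h
  obtain ⟨x, hx, hxE, rfl⟩ := L.exists_of_not_onLine hz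
  have h1 : (L.k p * x * (L.k p)⁻¹) • t • a = x • t • a := by
    rw [mul_smul, mul_smul,
      show (L.k p)⁻¹ • t • a = t • a from (Subgroup.mem_inf.1 (inv_mem (L.k_mem_D p))).2]
    exact h
  have h2 := RankOne.Q_smul_inj P.hS (RankOne.D_norm_Q P.hS (L.k_mem_D p) hx) hx h1
  exact hxE ((P.K_fpf (L.k_mem p) (fun h => hp1 (L.k_eq_one hp h)) hx
    (mul_inv_eq_iff_eq_mul.1 h2)) ▸ one_mem _)

theorem free_upper (hr : P.r = P.s) {M : SL(2, F)} (h0 : M 1 0 = 0) {z : Ω} (hz : ¬ L.OnLine z)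
    (h : L.phi hr M • z = z) : M = 1 := by
  have hdet := det_entries M
  rw [h0, mul_zero, add_zero] at hdet
  have hp : M 0 0 ≠ 0 := left_ne_zero_of_mul_eq_one hdet
  rw [phi_apply, h0, phi4_zero] at h
  by_cases hp1 : M 0 0 = 1
  · rw [hp1, one_mul, k_one, mul_one] at h
    rw [hp1, one_mul] at hdet
    have hq : M 0 1 = 0 := L.ι_eq_one (by
      by_contra hne
      exact hz (Or.inl (RankOne.fixed_eq_of_mem_Q P.hS (L.ι_mem_Q _) hne h)))
    apply Matrix.SpecialLinearGroup.ext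
    intro i j
    fin_cases i <;> fin_cases j <;> simp [hp1, hq, h0, hdet]
  · exfalso
    set p := M 0 0
    have hpp : 1 + p * p ≠ 0 := fun h1 => hp1 (by
      rw [CharTwo.add_eq_zero] at h1
      rcases mul_self_eq_one_iff.1 h1.symm with h2 | h2
      · exact h2
      · rwa [CharTwo.neg_eq] at h2)
    set w := p * M 0 1 / (1 + p * p) with hw
    have e : L.ι (p * M 0 1) * L.k p = L.ι w * L.k p * L.ι w := by
      rw [mul_assoc (L.ι w), L.conj_k hp, ← mul_assoc, ← L.ι_add]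
      congr 2
      rw [show w + p * p * w = w * (1 + p * p) by ring, hw, div_mul_cancel₀ _ hpp]
    have hz' : ¬ L.OnLine (L.ι w • z) := by
      rw [← L.phi_uMat hr]; exact L.not_onLine_smul hr hz _
    refine L.k_fixes hp hp1 hz' ?_
    rw [e, mul_smul, mul_smul, ← eq_inv_smul_iff, L.ι_inv] at h
    exact h

theorem free_of_root (hr : P.r = P.s) {M : SL(2, F)} {x : F}
    (hx : M 1 0 * x * x + (M 0 0 + M 1 1) * x + M 0 1 = 0) {z : Ω} (hz : ¬ L.OnLine z)
    (h : L.phi hr M • z = z) : M = 1 := by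
  set N : SL(2, F) := mat x 1 1 0 (by ring)
  set N' : SL(2, F) := mat 0 1 1 x (by ring)
  have hNN : N' * N = 1 := by
    apply Matrix.SpecialLinearGroup.ext
    intro i j
    rw [Matrix.SpecialLinearGroup.coe_mul]
    fin_cases i <;> fin_cases j <;>
      simp [N, N', mat, Matrix.mul_apply, Fin.sum_univ_two, CharTwo.add_self_eq_zero]
  have hN : N' = N⁻¹ := eq_inv_of_mul_eq_one_left hNN
  have h1 : (N' * M * N) 1 0 = 0 := by
    rw [← hx, Matrix.SpecialLinearGroup.coe_mul, Matrix.SpecialLinearGroup.coe_mul]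
    simp [N, N', mat, Matrix.mul_apply, Fin.sum_univ_two, Matrix.vecMul, dotProduct]
    ring
  have h2 := L.free_upper hr h1 (L.not_onLine_smul hr hz N') (by
    rw [hN, map_mul, map_mul, map_inv, mul_smul, mul_smul, smul_inv_smul, h])
  rw [hN, mul_assoc, inv_mul_eq_iff_eq_mul, mul_one, mul_eq_right] at h2
  exact h2

theorem sq_eq_one_of_trace {M : SL(2, F)} (h : M 0 0 + M 1 1 = 0) : M * M = 1 := by
  have hd := det_entries M
  rw [CharTwo.add_eq_zero] at h
  apply Matrix.SpecialLinearGroup.ext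
  intro i j
  rw [Matrix.SpecialLinearGroup.coe_mul]
  fin_cases i <;> fin_cases j <;> simp [Matrix.mul_apply, Fin.sum_univ_two]
  · linear_combination hd + M 0 0 * h
  · rw [h, mul_comm (M 0 1), CharTwo.add_self_eq_zero]
  · rw [h, mul_comm (M 1 0), CharTwo.add_self_eq_zero]
  · linear_combination hd - M 1 1 * h

include L in
/-- An involution attached to a point of the line and to a matrix without fixed point on it. -/
theorem exists_inverting {M : SL(2, F)} (hM10 : M 1 0 ≠ 0)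
    (hM : ∀ x : F, M 1 0 * x * x + (M 0 0 + M 1 1) * x + M 0 1 ≠ 0) (x : F) :
    ∃ N : SL(2, F), N 1 0 ≠ 0 ∧ N 0 0 / N 1 0 = x ∧ N 1 1 = N 0 0 ∧ N * N = 1 ∧
      N * M * N = M⁻¹ := by
  set A := M 0 0; set B := M 0 1; set C := M 1 0; set D := M 1 1
  have hC : C ≠ 0 := hM10
  obtain ⟨l, hl⟩ := L.exists_sqrt (C / (C * x * x + (A + D) * x + B))
  set r' := ((A + D) * (l * x) + B * l) / C with hr'
  have hdet : l * x * (l * x) + r' * l = 1 := by
    calc l * x * (l * x) + r' * l = l * l * (C * x * x + (A + D) * x + B) / C := by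
          rw [hr']; field_simp; ring
      _ = 1 := by rw [hl, div_mul_cancel₀ _ (hM x), div_self hC]
  have hl0 : l ≠ 0 := by rintro rfl; simp at hdet
  refine ⟨mat (l * x) r' l (l * x) hdet, ?_, ?_, rfl, sq_eq_one_of_trace ?_, ?_⟩
  · exact hl0
  · show l * x / l = x
    field_simp
  · exact CharTwo.add_self_eq_zero (l * x)
  · set N := mat (l * x) r' l (l * x) hdet
    have h1 : M * N * (M * N) = 1 := sq_eq_one_of_trace (by
      rw [Matrix.SpecialLinearGroup.coe_mul]
      simp [N, mat, Matrix.mul_apply, Fin.sum_univ_two]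
      show A * (l * x) + B * l + (C * r' + D * (l * x)) = 0
      rw [hr', mul_div_cancel₀ _ hC]
      rw [show A * (l * x) + B * l + ((A + D) * (l * x) + B * l + D * (l * x)) =
        (A * (l * x) + B * l + D * (l * x)) + (A * (l * x) + B * l + D * (l * x)) by ring]
      exact CharTwo.add_self_eq_zero _)
    rw [eq_inv_iff_mul_eq_one]
    calc N * M * N * M = M⁻¹ * (M * N * (M * N)) * M := by group
      _ = 1 := by rw [h1, mul_one, inv_mul_cancel]

/-- No matrix without fixed point on the line fixes a point off it. -/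
theorem not_fixes_of_noroot (hr : P.r = P.s) {M : SL(2, F)} (hM10 : M 1 0 ≠ 0)
    (hM : ∀ x : F, M 1 0 * x * x + (M 0 0 + M 1 1) * x + M 0 1 ≠ 0) {z : Ω} (hz : ¬ L.OnLine z) :
    L.phi hr M • z ≠ z := by
  intro h
  choose N hN10 hNx hNd hN2 hNM using L.exists_inverting hM10 hM
  obtain ⟨m, hm⟩ : ∃ m, m = L.phi hr M := ⟨_, rfl⟩
  let v : F → G := fun x => L.phi hr (N x)
  have hv1 : ∀ x, v x ≠ 1 := fun x h1 => hN10 x (by
    rw [L.phi_injective hr (h1.trans (map_one _).symm)]; simp)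
  have hv2 : ∀ x, v x * v x = 1 := fun x => by rw [← map_mul, hN2, map_one]
  have hvm : ∀ x, v x * m * v x = m⁻¹ := fun x => by
    rw [hm, ← map_mul, ← map_mul, hNM, map_inv]
  have hvinj : Function.Injective v := fun x y hxy => by
    rw [← hNx x, ← hNx y, L.phi_injective hr hxy]
  have hvz : ∀ x, v x • z ≠ z := fun x hx => by
    obtain ⟨y, hy⟩ := L.exists_sqrt (N x 0 1 / N x 1 0)
    have h1 := L.free_of_root hr (M := N x) (x := y) (by
      rw [hNd, CharTwo.add_self_eq_zero, zero_mul, add_zero, mul_assoc, hy,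
        mul_div_cancel₀ _ (hN10 x), CharTwo.add_self_eq_zero]) hz hx
    exact hN10 x (by rw [h1]; simp)
  rw [← hm] at h
  have hmv : ∀ x, m • v x • z = v x • z := fun x => by
    rw [smul_smul, show m * v x = v x * m⁻¹ by
      rw [← hvm x, ← mul_assoc, ← mul_assoc, hv2, one_mul], mul_smul, inv_smul_eq_iff.2 h.symm]
  obtain ⟨g, hga, hgb⟩ := MulAction.is_two_pretransitive_iff.1 P.hS.two_transitive
    (hvz 0).symm (RankOne.ta_ne P.hS).symm
  obtain ⟨μ, hμ⟩ : ∃ μ, μ = g * m * g⁻¹ := ⟨_, rfl⟩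
  have hgi : g⁻¹ • a = z := inv_smul_eq_iff.2 hga.symm
  have hgib : g⁻¹ • t • a = v 0 • z := inv_smul_eq_iff.2 hgb.symm
  have hμD : μ ∈ pairD G a t := Subgroup.mem_inf.2
    ⟨MulAction.mem_stabilizer_iff.2 (by rw [hμ, mul_smul, mul_smul, hgi, h, hga]),
     MulAction.mem_stabilizer_iff.2 (by rw [hμ, mul_smul, mul_smul, hgib, hmv, hgb])⟩
  have hw : ∀ x, g * v x * g⁻¹ ≠ 1 ∧ g * v x * g⁻¹ * (g * v x * g⁻¹) = 1 ∧
      (g * v x * g⁻¹) * μ * (g * v x * g⁻¹) = μ⁻¹ := fun x =>
    ⟨fun h1 => hv1 x (conj_eq_one_iff.1 h1),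
     by rw [show g * v x * g⁻¹ * (g * v x * g⁻¹) = g * (v x * v x) * g⁻¹ by group, hv2]; group,
     by rw [hμ, show g * v x * g⁻¹ * (g * m * g⁻¹) * (g * v x * g⁻¹) =
          g * (v x * m * v x) * g⁻¹ by group, hvm]; group⟩
  -- `μ` is inverted by `t`
  obtain ⟨k₀, hk₀, hw₀⟩ := (RankOne.swap_iff P.hS).1
    ⟨(hw 0).1, (hw 0).2.1, by rw [mul_smul, mul_smul, hgi, hgb]⟩
  have hk₀K : k₀ ∈ P.K := by rw [← SetLike.mem_coe, P.K_eq]; exact hk₀
  have hμK : μ ∈ P.K := P.mem_K_of_skew hμD (inv_mem hk₀K) (by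
    have h3 := (hw 0).2.2
    rw [hw₀] at h3
    rw [inv_inv, ← h3]
    calc μ = k₀⁻¹ * (k₀ * μ * k₀⁻¹) * k₀ := by group
      _ = k₀⁻¹ * (t * t * k₀ * μ * (t * k₀ * t)) * k₀ := by
          rw [P.t_conj_K hk₀K, P.tt, one_mul]
      _ = _ := by group)
  have hμ1 : μ ≠ 1 := fun h1 => hM 0 (by
    rw [hμ, conj_eq_one_iff, hm] at h1
    rw [L.phi_injective hr (h1.trans (map_one _).symm)]; simp)
  have hfix : ∀ c, μ • c = c → c = a ∨ c = t • a := fun c hc => by
    rcases eq_or_ne c a with hca | hca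
    · exact Or.inl hca
    obtain ⟨y, hy, rfl⟩ := RankOne.exists_Q_smul P.hS hca
    right
    have h1 : (μ * y * μ⁻¹) • t • a = y • t • a := by
      rw [mul_smul, mul_smul,
        show μ⁻¹ • t • a = t • a from (Subgroup.mem_inf.1 (inv_mem hμD)).2, hc]
    rw [P.K_fpf hμK hμ1 hy (mul_inv_eq_iff_eq_mul.1
      (RankOne.Q_smul_inj P.hS (RankOne.D_norm_Q P.hS hμD hy) hy h1)), one_smul]
  have hswap : ∀ x, (g * v x * g⁻¹) • a = t • a := fun x => by
    refine (hfix _ ?_).resolve_left fun h1 => hvz x ?_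
    · simp only [hμ, mul_smul, hgi, inv_smul_smul, hmv]
    · rw [mul_smul, hgi, mul_smul, ← eq_inv_smul_iff, hgi] at h1
      exact h1
  have hk : ∀ x, t * (g * v x * g⁻¹) ∈ P.K := fun x => by
    obtain ⟨k', hk', e⟩ := (RankOne.swap_iff P.hS).1 ⟨(hw x).1, (hw x).2.1, hswap x⟩
    rw [e, ← mul_assoc, P.tt, one_mul, ← SetLike.mem_coe, P.K_eq]
    exact hk'
  have hinj : Function.Injective fun x : F => (⟨_, hk x⟩ : P.K) := fun x y hxy => hvinj (by
    have := congrArg Subtype.val hxy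
    simpa using this)
  have hle := Nat.card_le_card_of_injective _ hinj
  rw [L.card_eq, ← P.card_K_add_one] at hle
  omega

/-- `⟨E, K, t⟩` is semiregular off the line. -/
theorem free (hr : P.r = P.s) {M : SL(2, F)} {z : Ω} (hz : ¬ L.OnLine z)
    (h : L.phi hr M • z = z) : M = 1 := by
  by_cases h0 : M 1 0 = 0
  · exact L.free_upper hr h0 hz h
  by_cases hroot : ∃ x : F, M 1 0 * x * x + (M 0 0 + M 1 1) * x + M 0 1 = 0
  · obtain ⟨x, hx⟩ := hroot
    exact L.free_of_root hr hx hz h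
  · exact absurd h (L.not_fixes_of_noroot hr h0 (fun x hx => hroot ⟨x, hx⟩) hz)

/-- The points off the line are the `x • t • a`, `x ∈ Q ∖ E`. -/
noncomputable def outerEquiv : {x : Q // (x : G) ∉ P.E} ≃ {z : Ω // ¬ L.OnLine z} :=
  Equiv.ofBijective (fun x => ⟨(x.1 : G) • t • a, L.not_onLine_of_Q x.1.2 x.2⟩)
    ⟨fun x y h => Subtype.ext (Subtype.ext
        (RankOne.Q_smul_inj P.hS x.1.2 y.1.2 (congrArg Subtype.val h))),
     fun z => by
      obtain ⟨x, hx, hxE, e⟩ := L.exists_of_not_onLine z.2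
      exact ⟨⟨⟨x, hx⟩, hxE⟩, Subtype.ext e⟩⟩

theorem card_outer : Nat.card {z : Ω // ¬ L.OnLine z} = Nat.card Q - P.q := by
  classical
  haveI : Fintype Q := Fintype.ofFinite _
  have h1 : Nat.card {x : Q // (x : G) ∈ P.E} = P.q :=
    Nat.card_congr (Subgroup.subgroupOfEquivOfLe P.E_le).toEquiv
  rw [← h1, ← Nat.card_congr L.outerEquiv, Nat.card_eq_fintype_card, Nat.card_eq_fintype_card,
    Nat.card_eq_fintype_card, Fintype.card_subtype_compl]

include L in
theorem card_SL : Nat.card SL(2, F) = P.q * (P.q ^ 2 - 1) := by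
  haveI := L.finite_field
  haveI := Fintype.ofFinite F
  rw [Linear.card_SL_two, ← Nat.card_eq_fintype_card, L.card_eq]

theorem card_SL_dvd (hr : P.r = P.s) : Nat.card SL(2, F) ∣ Nat.card {z : Ω // ¬ L.OnLine z} := by
  letI : MulAction SL(2, F) {z : Ω // ¬ L.OnLine z} :=
    { smul := fun M z => ⟨L.phi hr M • z.1, L.not_onLine_smul hr z.2 M⟩
      one_smul := fun z => Subtype.ext (show L.phi hr 1 • z.1 = z.1 by rw [map_one, one_smul])
      mul_smul := fun M N z => Subtype.ext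
        (show L.phi hr (M * N) • z.1 = L.phi hr M • L.phi hr N • z.1 by rw [map_mul, mul_smul]) }
  have hfree : ∀ z : {z : Ω // ¬ L.OnLine z}, MulAction.stabilizer SL(2, F) z = ⊥ := fun z =>
    (Subgroup.eq_bot_iff_forall _).2 fun M hM => L.free hr z.2 (congrArg Subtype.val hM)
  rw [Nat.card_congr (MulAction.selfEquivOrbitsQuotientProd hfree), Nat.card_prod]
  exact Dvd.intro_left _ rfl

end LineData

theorem line_dvd [FaithfulSMul G Ω] (P : Frame a t Q) (hr : P.r = P.s) :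
    P.q * (P.q ^ 2 - 1) ∣ Nat.card Q - P.q := by
  obtain ⟨F, _, _, _, -, ⟨L⟩⟩ := exists_lineData P hr
  rw [← L.card_SL, ← L.card_outer]
  exact L.card_SL_dvd hr

end CfsgLib.SuzukiThm
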