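import Cfsg.Agent.SuzukiTheorem.Frame
import Cfsg.Agent.NilpotentCover.Basic
import Cfsg.Agent.S1138
import Mathlib

/-!
# `Q` as the product of its 2-part and its odd part
-/

set_option autoImplicit false
set_option linter.unusedSectionVars false
set_option linter.style.haveILetI false

namespace CfsgLib.SuzukiThm

open CfsgLib

universe u v

variable {G : Type u} {Ω : Type v} [Group G] [MulAction G Ω] {a : Ω} {t : G} {Q : Subgroup G}

/-- `Q = T × O` with `T` a 2-group and `O` of odd order. -/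
structure Split (P : Frame a t Q) where
  T : Subgroup G
  O : Subgroup G
  T_le : T ≤ Q
  O_le : O ≤ Q
  T_two : IsPGroup 2 T
  O_odd : Odd (Nat.card O)
  commute : ∀ x ∈ T, ∀ y ∈ O, x * y = y * x
  decomp : ∀ z ∈ Q, ∃ x ∈ T, ∃ y ∈ O, z = x * y

variable [Finite G]

theorem exists_split (P : Frame a t Q) : Nonempty (Split P) := by
  classical
  haveI : Fact (Nat.Prime 2) := ⟨Nat.prime_two⟩
  haveI := RankOne.isNilpotent_Q P.hS P.h2
  let S : Sylow 2 Q := default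
  haveI : (S : Subgroup Q).Normal := inferInstance
  obtain ⟨H, hH⟩ := Subgroup.exists_right_complement'_of_coprime (N := (S : Subgroup Q)) S.card_coprime_index
  have hHodd : Odd (Nat.card H) := by
    rw [← hH.symm.index_eq_card]
    exact Nat.odd_iff.2 (Nat.two_dvd_ne_zero.1 S.not_dvd_index)
  refine ⟨⟨(S : Subgroup Q).map Q.subtype, H.map Q.subtype, Subgroup.map_subtype_le _,
    Subgroup.map_subtype_le _, S.isPGroup'.map _, ?_, ?_, ?_⟩⟩
  · rwa [Subgroup.card_map_of_injective Q.subtype_injective]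
  · rintro _ ⟨x, hx, rfl⟩ _ ⟨y, hy, rfl⟩
    obtain ⟨i, hi⟩ := IsPGroup.iff_orderOf.1 S.isPGroup' ⟨x, hx⟩
    rw [Subgroup.orderOf_mk] at hi
    have hy' : Odd (orderOf y) := hHodd.of_dvd_nat (Subgroup.orderOf_dvd_natCard _ hy)
    exact congrArg Subtype.val (NilpotentCover.commute_of_coprime x y
      (hi ▸ (Nat.coprime_two_left.2 hy').pow_left i)).eq
  · intro z hz
    obtain ⟨⟨⟨x, hx⟩, ⟨y, hy⟩⟩, h⟩ := hH.2 ⟨z, hz⟩
    exact ⟨x, ⟨x, hx, rfl⟩, y, ⟨y, hy, rfl⟩, (congrArg Subtype.val h).symm⟩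

namespace Split

variable {P : Frame a t Q} (S : Split P)

include S

theorem eq_one_of_mem {x : G} (hT : x ∈ S.T) (hO : x ∈ S.O) : x = 1 := by
  obtain ⟨i, hi⟩ := IsPGroup.iff_orderOf.1 S.T_two ⟨x, hT⟩
  rw [Subgroup.orderOf_mk] at hi
  have hodd : Odd (orderOf x) := S.O_odd.of_dvd_nat (Subgroup.orderOf_dvd_natCard _ hO)
  rw [hi] at hodd
  rcases Nat.eq_zero_or_pos i with h | h
  · rw [h, pow_zero] at hi; exact orderOf_eq_one_iff.1 hi
  · exact absurd hodd (by rw [Nat.not_odd_iff_even]; exact Nat.even_pow.2 ⟨even_two, h.ne'⟩)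

theorem decomp_unique {x y x' y' : G} (hx : x ∈ S.T) (hy : y ∈ S.O) (hx' : x' ∈ S.T) (hy' : y' ∈ S.O)
    (h : x * y = x' * y') : x = x' ∧ y = y' := by
  have h1 : x'⁻¹ * x = y' * y⁻¹ := by
    rw [eq_mul_inv_iff_mul_eq, mul_assoc, h, inv_mul_cancel_left]
  have h2 : x'⁻¹ * x = 1 := S.eq_one_of_mem (mul_mem (inv_mem hx') hx) (h1 ▸ mul_mem hy' (inv_mem hy))
  have hxx : x = x' := (inv_mul_eq_one.1 h2).symm
  exact ⟨hxx, mul_left_cancel (hxx ▸ h)⟩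

theorem mem_O_iff {z : G} : z ∈ S.O ↔ z ∈ Q ∧ Odd (orderOf z) := by
  refine ⟨fun h => ⟨S.O_le h, S.O_odd.of_dvd_nat (Subgroup.orderOf_dvd_natCard _ h)⟩, fun ⟨hz, hodd⟩ => ?_⟩
  obtain ⟨x, hx, y, hy, rfl⟩ := S.decomp z hz
  have hc : Commute x y := S.commute x hx y hy
  have h1 : (x * y) ^ orderOf (x * y) = 1 := pow_orderOf_eq_one _
  rw [hc.mul_pow] at h1
  have h2 := (S.decomp_unique (pow_mem hx _) (pow_mem hy _) (one_mem _) (one_mem _)
    (by rw [h1, one_mul])).1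
  obtain ⟨i, hi⟩ := IsPGroup.iff_orderOf.1 S.T_two ⟨x, hx⟩
  rw [Subgroup.orderOf_mk] at hi
  have h3 : orderOf x ∣ orderOf (x * y) := orderOf_dvd_of_pow_eq_one h2
  have h4 := hodd.of_dvd_nat h3
  rw [hi] at h4
  rcases Nat.eq_zero_or_pos i with h | h
  · rw [h, pow_zero] at hi; rw [orderOf_eq_one_iff.1 hi, one_mul]; exact hy
  · exact absurd h4 (by rw [Nat.not_odd_iff_even]; exact Nat.even_pow.2 ⟨even_two, h.ne'⟩)

theorem mem_T_iff {z : G} : z ∈ S.T ↔ z ∈ Q ∧ ∃ i, z ^ (2 ^ i) = 1 := by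
  refine ⟨fun h => ⟨S.T_le h, ?_⟩, fun ⟨hz, i, hi⟩ => ?_⟩
  · obtain ⟨i, hi⟩ := S.T_two ⟨z, h⟩
    exact ⟨i, congrArg Subtype.val hi⟩
  obtain ⟨x, hx, y, hy, rfl⟩ := S.decomp z hz
  rw [(show Commute x y from S.commute x hx y hy).mul_pow] at hi
  have h2 := (S.decomp_unique (pow_mem hx _) (pow_mem hy _) (one_mem _) (one_mem _) (by rw [hi, one_mul])).2
  have h3 : orderOf y ∣ 2 ^ i := orderOf_dvd_of_pow_eq_one h2
  have h4 : Odd (orderOf y) := S.O_odd.of_dvd_nat (Subgroup.orderOf_dvd_natCard _ hy)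
  have h5 : orderOf y = 1 := ((Nat.coprime_two_right.2 h4).pow_right i).eq_one_of_dvd h3
  rw [orderOf_eq_one_iff.1 h5, mul_one]
  exact hx

theorem T_conj {d x : G} (hd : d ∈ pairD G a t) (hx : x ∈ S.T) : d * x * d⁻¹ ∈ S.T := by
  obtain ⟨hxQ, i, hi⟩ := S.mem_T_iff.1 hx
  exact S.mem_T_iff.2 ⟨RankOne.D_norm_Q P.hS hd hxQ, i, by rw [conj_pow, hi]; group⟩

theorem O_conj {d x : G} (hd : d ∈ pairD G a t) (hx : x ∈ S.O) : d * x * d⁻¹ ∈ S.O := by
  obtain ⟨hxQ, hodd⟩ := S.mem_O_iff.1 hx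
  refine S.mem_O_iff.2 ⟨RankOne.D_norm_Q P.hS hd hxQ, ?_⟩
  rwa [show d * x * d⁻¹ = MulAut.conj d x from rfl, MulEquiv.orderOf_eq]

theorem E_le_T : P.E ≤ S.T := fun x hx =>
  S.mem_T_iff.2 ⟨P.E_le hx, 1, by rw [pow_one, pow_two]; exact P.E_sq hx⟩

/-- The isomorphism `T × O ≃* Q`. -/
noncomputable def equiv : S.T × S.O ≃* Q :=
  MulEquiv.ofBijective
    ({ toFun := fun xy => ⟨xy.1 * xy.2, mul_mem (S.T_le xy.1.2) (S.O_le xy.2.2)⟩
       map_one' := Subtype.ext (by simp)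
       map_mul' := fun u w => Subtype.ext (by
        show (u.1 : G) * w.1 * ((u.2 : G) * w.2) = (u.1 : G) * u.2 * ((w.1 : G) * w.2)
        rw [mul_assoc, ← mul_assoc (w.1 : G), S.commute _ w.1.2 _ u.2.2]
        group) } : S.T × S.O →* Q)
    ⟨fun u w h => by
      obtain ⟨h1, h2⟩ := S.decomp_unique u.1.2 u.2.2 w.1.2 w.2.2 (congrArg Subtype.val h)
      exact Prod.ext (Subtype.ext h1) (Subtype.ext h2),
     fun z => by
      obtain ⟨x, hx, y, hy, h⟩ := S.decomp z z.2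
      exact ⟨(⟨x, hx⟩, ⟨y, hy⟩), Subtype.ext h.symm⟩⟩

theorem equiv_apply (xy : S.T × S.O) : ((S.equiv xy : Q) : G) = xy.1 * xy.2 := rfl

theorem equiv_symm_mul {x y : G} (hx : x ∈ S.T) (hy : y ∈ S.O) (h : x * y ∈ Q) :
    S.equiv.symm ⟨x * y, h⟩ = (⟨x, hx⟩, ⟨y, hy⟩) :=
  S.equiv.symm_apply_eq.2 (Subtype.ext (S.equiv_apply (⟨x, hx⟩, ⟨y, hy⟩)).symm)

theorem card_eq : Nat.card Q = Nat.card S.T * Nat.card S.O := by
  rw [← Nat.card_congr S.equiv.toEquiv, Nat.card_prod]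

/-- `T` is abelian or a Suzuki 2-group over `E`. -/
theorem T_shape : (∀ x ∈ S.T, ∀ y ∈ S.T, x * y = y * x) ∨
    ((∀ x ∈ S.T, x * x ∈ P.E) ∧ (∀ x ∈ S.T, ∀ y ∈ S.T, x * y * x⁻¹ * y⁻¹ ∈ P.E) ∧
      (∀ x ∈ S.T, x ^ 4 = 1) ∧ (∃ x ∈ S.T, ∃ y ∈ S.T, x * y ≠ y * x) ∧
      (Nat.card S.T = P.q ^ 2 ∨ Nat.card S.T = P.q ^ 3)) := by
  by_cases hab : ∀ x ∈ S.T, ∀ y ∈ S.T, x * y = y * x
  · exact Or.inl hab
  refine Or.inr ?_
  push Not at hab
  obtain ⟨x₀, hx₀, y₀, hy₀, hne⟩ := hab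
  haveI : Fact (Nat.Prime 2) := ⟨Nat.prime_two⟩
  let act : ↥P.K →* MulAut ↥S.T :=
    { toFun := fun k =>
        { toFun := fun x => ⟨k * x * (k : G)⁻¹, S.T_conj (P.K_le k.2) x.2⟩
          invFun := fun x => ⟨(k : G)⁻¹ * x * k, by simpa using S.T_conj (P.K_le (inv_mem k.2)) x.2⟩
          left_inv := fun x => Subtype.ext (by group)
          right_inv := fun x => Subtype.ext (by group)
          map_mul' := fun x y => Subtype.ext (by
            show (k : G) * (x * y) * (k : G)⁻¹ = (k * x * (k : G)⁻¹) * (k * y * (k : G)⁻¹)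
            group) }
      map_one' := MulEquiv.ext fun x => Subtype.ext (by
        show (1 : G) * x * (1 : G)⁻¹ = x
        group)
      map_mul' := fun c d => MulEquiv.ext fun x => Subtype.ext (by
        show ((c : G) * d) * x * ((c : G) * d)⁻¹ = c * (d * x * (d : G)⁻¹) * (c : G)⁻¹
        group) }
  have hmemE : ∀ x : S.T, x * x = 1 → (x : G) ∈ P.E := fun x hx =>
    P.mem_E_of_mem_Q (S.T_le x.2) (congrArg Subtype.val hx)
  haveI := P.K_cyclic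
  have hSuz : Cfsg.IsSuzukiTwoGroup ↥S.T := by
    refine ⟨inferInstance, S.T_two, ⟨⟨x₀, hx₀⟩, ⟨y₀, hy₀⟩, fun h => hne (congrArg Subtype.val h)⟩,
      ?_, act.range, isCyclic_of_surjective _ act.rangeRestrict_surjective, fun x y hx hx2 hy hy2 => ?_⟩
    · obtain ⟨x, y, hx, hy, hxy⟩ := RankOne.exists_two_involutions P.hS P.h2
      have hx' := S.E_le_T ((P.mem_E_iff x).2 ⟨hx.1, hx.2.2⟩)
      have hy' := S.E_le_T ((P.mem_E_iff y).2 ⟨hy.1, hy.2.2⟩)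
      exact ⟨⟨x, hx'⟩, ⟨y, hy'⟩, fun h => hxy (congrArg Subtype.val h),
        fun h => hx.2.1 (congrArg Subtype.val h), Subtype.ext hx.2.2,
        fun h => hy.2.1 (congrArg Subtype.val h), Subtype.ext hy.2.2⟩
    · obtain ⟨k, hk, hkxy⟩ := P.exists_conj_K (hmemE x hx2) (fun h => hx (Subtype.ext h))
        (hmemE y hy2) (fun h => hy (Subtype.ext h))
      refine ⟨⟨act ⟨k, hk⟩, MonoidHom.mem_range.2 ⟨_, rfl⟩⟩, Subtype.ext hkxy, ?_⟩
      rintro ⟨_, ⟨c, rfl⟩⟩ hc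
      have hc' : (c : G) * x * (c : G)⁻¹ = y := congrArg Subtype.val hc
      have : (c : G) = k := P.conj_K_injective c.2 hk (S.T_le x.2) (fun h => hx (Subtype.ext h))
        (by rw [hc', hkxy])
      exact Subtype.ext (congrArg act (Subtype.ext this))
  obtain ⟨hsq, hcomm, hcard, hexp⟩ := Cfsg.Agent.S1138.result hSuz
  have hc2 := SuzukiTwoGroup.center_sq hSuz
  have hcenter : ∀ z : S.T, z ∈ Subgroup.center ↥S.T ↔ (z : G) ∈ P.E := fun z =>
    ⟨fun h => hmemE z (hc2 z h), fun h => SuzukiTwoGroup.involution_central' hSuz (Subtype.ext (P.E_sq h))⟩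
  have hq : Nat.card (Subgroup.center ↥S.T) = P.q :=
    Nat.card_congr
      { toFun := fun z => ⟨(z.1 : G), (hcenter z.1).1 z.2⟩
        invFun := fun e => ⟨⟨(e : G), S.E_le_T e.2⟩, (hcenter _).2 e.2⟩
        left_inv := fun _ => rfl
        right_inv := fun _ => rfl }
  refine ⟨fun x hx => (hcenter _).1 (hsq ⟨x, hx⟩), fun x hx y hy => ?_, fun x hx => ?_,
    ⟨x₀, hx₀, y₀, hy₀, hne⟩, by rwa [← hq]⟩
  · have h := (hcenter _).1 (hcomm ⟨x, hx⟩⁻¹ ⟨y, hy⟩⁻¹)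
    simpa [mul_assoc] using h
  · exact congrArg Subtype.val (hexp ▸ Monoid.pow_exponent_eq_one (G := ↥S.T) ⟨x, hx⟩)

end Split

end CfsgLib.SuzukiThm
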