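import Cfsg.Agent.SuzukiTheorem.Frame
import Cfsg.Agent.SuzukiTheorem.KSubgroup
import Cfsg.Agent.SuzukiUnique.Main
import Cfsg.Agent.S0205

/-!
# Suzuki's theorem, the case `|Q| = q²`, `r² ≠ 1`: a Suzuki group

`K` is transitive on `(Q / E)#`, so every `D`-part `h(x)` lies in `K`; hence `QK ∪ QKtQ` is a simple
Zassenhaus group with a non-abelian 2-group kernel.
-/

set_option autoImplicit false
set_option linter.style.haveILetI false
set_option linter.unusedSectionVars false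

namespace CfsgLib.SuzukiTheorem

open MulAction CfsgLib.RankOne

universe u v

variable {G : Type u} {Ω : Type v} [Group G] [Finite G] [MulAction G Ω] {a : Ω} {t : G}
  {Q : Subgroup G} (hS : Cfsg.IsRankOneSetup G Ω a t Q)

local notation "stD" => (MulAction.stabilizer G a ⊓ MulAction.stabilizer G (t • a))

include hS

/-- Every nontrivial element of `Q` has a decomposition `t x t = g h t f`. -/
theorem exists_part {x : G} (hx : x ∈ Q) (hx1 : x ≠ 1) :
    ∃ g ∈ Q, ∃ h ∈ stD, ∃ f ∈ Q, t * x * t = g * h * t * f := by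
  have hst : t * x * t ∉ stabilizer G a := fun h => by
    rw [mem_stabilizer_iff, mul_smul, mul_smul] at h
    refine hx1 (eq_one_of_smul_ta hS hx (smul_left_cancel t ?_))
    rw [h, t_ta hS]
  obtain ⟨z, hz, f, hf, e⟩ := exists_canonical hS hst
  obtain ⟨g, hg, h, hh, rfl⟩ := exists_mem_mul hS hz
  exact ⟨g, hg, h, hh, f, hf, e⟩

/-- The decomposition of a `K`-conjugate. -/
theorem conj_part {x g h f k : G} (hkt : t * k * t = k⁻¹) (e : t * x * t = g * h * t * f) :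
    t * (k * x * k⁻¹) * t = (k⁻¹ * g * k) * (k⁻¹ * h * k⁻¹) * t * (k⁻¹ * f * k) := by
  have h1 : t * k⁻¹ = k * t := by
    have := congrArg (·⁻¹) hkt
    simp only [mul_inv_rev, inv_inv, t_inv hS] at this
    calc t * k⁻¹ = t * k⁻¹ * (t * t) := by rw [hS.mul_self, mul_one]
      _ = t * (k⁻¹ * t) * t := by group
      _ = k * t := by rw [this]
  have h2 : t * k = k⁻¹ * t := by
    calc t * k = t * k * (t * t) := by rw [hS.mul_self, mul_one]
      _ = t * k * t * t := by group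
      _ = k⁻¹ * t := by rw [hkt]
  calc t * (k * x * k⁻¹) * t = (t * k) * x * (k⁻¹ * t) := by group
    _ = k⁻¹ * t * x * (t * k) := by rw [h2]
    _ = k⁻¹ * (t * x * t) * k := by group
    _ = k⁻¹ * g * h * (t * k) * (k⁻¹ * f * k) := by rw [e]; group
    _ = _ := by rw [h2]; group

/-- For an involution `e = k s k⁻¹` with `r e` not 1, the `D`-part `h` of `r e` satisfies
`h = k (t h⁻¹ t) k⁻¹`. -/
theorem part_re {s r : G} (hs : s ∈ Q) (hr : r ∈ Q) (e₀ : t * s * t = r⁻¹ * t * r) {k : G}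
    (hk : k ∈ stD) (hkt : t * k * t = k⁻¹) {g h f : G} (hg : g ∈ Q) (hh : h ∈ stD) (hf : f ∈ Q)
    (e : t * (r * (k * s * k⁻¹)) * t = g * h * t * f) (hss : s * s = 1) :
    h = k * (t * h⁻¹ * t) * k⁻¹ := by
  have hsi : s⁻¹ = s := inv_eq_of_mul_eq_one_right hss
  have htk : t * k = k⁻¹ * t := by
    calc t * k = t * k * (t * t) := by rw [hS.mul_self, mul_one]
      _ = t * k * t * t := by group
      _ = k⁻¹ * t := by rw [hkt]
  have htk' : t * k⁻¹ = k * t := by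
    calc t * k⁻¹ = (k * (k⁻¹ * t)) * k⁻¹ := by group
      _ = k * (t * k) * k⁻¹ := by rw [htk]
      _ = k * t := by group
  have htrt : t * r * t = r * t * s := by
    calc t * r * t = t * r * t * (s * s) := by rw [hss, mul_one]
      _ = t * r * (t * s * t) * t * s := by
          rw [show t * r * (t * s * t) * t * s = t * r * (t * s) * (t * t) * s by group, hS.mul_self]
          group
      _ = (t * r * r⁻¹ * t) * (r * t * s) := by rw [e₀]; group
      _ = _ := by rw [show t * r * r⁻¹ * t = t * t by group, hS.mul_self, one_mul]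
  have hte : t * (k * s * k⁻¹) * t = k⁻¹ * r⁻¹ * k * (k⁻¹ * k⁻¹) * t * (k⁻¹ * r * k) := by
    calc t * (k * s * k⁻¹) * t = (t * k) * s * (k⁻¹ * t) := by group
      _ = k⁻¹ * t * s * (t * k) := by rw [htk]
      _ = k⁻¹ * (t * s * t) * k := by group
      _ = k⁻¹ * r⁻¹ * (t * r * k) := by rw [e₀]; group
      _ = k⁻¹ * r⁻¹ * ((t * k) * (k⁻¹ * r * k)) := by group
      _ = _ := by rw [htk]; group
  set x := r * (k * s * k⁻¹) with hx
  have hz : s * (k⁻¹ * r⁻¹ * k) = k⁻¹ * x⁻¹ * k := by rw [hx, mul_inv_rev, mul_inv_rev, mul_inv_rev, hsi]; group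
  have htxt : t * x⁻¹ * t = f⁻¹ * (t * h⁻¹ * t) * t * g⁻¹ := by
    have := congrArg (·⁻¹) e
    simp only [mul_inv_rev, t_inv hS] at this
    calc t * x⁻¹ * t = f⁻¹ * (t * (h⁻¹ * g⁻¹)) := by rw [mul_assoc t, this]
      _ = f⁻¹ * (t * h⁻¹ * (t * t) * g⁻¹) := by rw [hS.mul_self]; group
      _ = _ := by group
  have hh' : t * h⁻¹ * t ∈ stD := t_norm_D hS (inv_mem hh)
  have hD1 : k * (t * h⁻¹ * t) * k⁻¹ ∈ stD := mul_mem (mul_mem hk hh') (inv_mem hk)
  have hg' : r * (k * f⁻¹ * k⁻¹) ∈ Q := mul_mem hr (D_norm_Q hS hk (inv_mem hf))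
  have hf' : k⁻¹ * g⁻¹ * k * (k⁻¹ * r * k) ∈ Q := by
    refine mul_mem ?_ ?_
    · simpa using D_norm_Q hS (inv_mem hk) (inv_mem hg)
    · simpa using D_norm_Q hS (inv_mem hk) hr
  refine (gh_unique hS hg hh hf hg' hD1 hf' ?_).2.1
  calc g * h * t * f = (t * r * t) * (t * (k * s * k⁻¹) * t) := by
        rw [← e, hx]
        rw [show t * r * t * (t * (k * s * k⁻¹) * t) = t * r * (t * t) * (k * s * k⁻¹) * t by group,
          hS.mul_self]
        group
    _ = r * t * (s * (k⁻¹ * r⁻¹ * k)) * (k⁻¹ * k⁻¹) * t * (k⁻¹ * r * k) := by rw [htrt, hte]; group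
    _ = r * ((t * k⁻¹) * x⁻¹) * (k⁻¹ * t) * (k⁻¹ * r * k) := by rw [hz]; group
    _ = r * (k * t * x⁻¹) * (t * k) * (k⁻¹ * r * k) := by rw [htk', htk]
    _ = r * k * (t * x⁻¹ * t) * r * k := by group
    _ = r * k * f⁻¹ * (t * h⁻¹ * t) * t * g⁻¹ * r * k := by rw [htxt]; group
    _ = r * (k * f⁻¹ * k⁻¹) * (k * (t * h⁻¹ * t)) * (t * k) * (k⁻¹ * g⁻¹ * r * k) := by group
    _ = _ := by rw [htk]; group

/-- **The Suzuki case.** -/
theorem exists_sz [FaithfulSMul G Ω]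
    (h2 : ∃ x y : G, x ≠ 1 ∧ y ≠ 1 ∧ x ≠ y ∧ x * x = 1 ∧ y * y = 1 ∧ x * y = y * x)
    (hQ2 : IsPGroup 2 Q) (hna : ∃ x ∈ Q, ∃ y ∈ Q, x * y ≠ y * x) {s r : G}
    (hs : s ∈ Cfsg.involutionsIn (stabilizer G a : Set G)) (hr : r ∈ Q)
    (e₀ : t * s * t = r⁻¹ * t * r) (hr2 : r * r ≠ 1)
    (hn : Nat.card Q = (Nat.card (Cfsg.involutionsIn (stabilizer G a : Set G)) + 1) ^ 2) :
    ∃ L : Subgroup G, L.Normal ∧ Odd L.index ∧ Cfsg.Lie.IsoSuzuki L := by
  classical
  obtain ⟨C, hC, -, hCn⟩ := inverted_cyclic hS h2 fun K _ _ h => Cfsg.Agent.S0205.result h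
  have hmem : ∀ c, c ∈ C ↔ c ∈ stD ∧ t * c * t = c⁻¹ := fun c => by
    rw [← mem_inverted_iff hS, ← hC, SetLike.mem_coe]
  set I := Cfsg.involutionsIn (stabilizer G a : Set G) with hI
  have hsQ : s ∈ Q := mem_Q_of_sq_eq_one hS hs.1 hs.2.2
  have hcent : ∀ e ∈ I, ∀ x ∈ Q, e * x = x * e := fun e he => (involution_central hS h2 he).2
  have hIQ : ∀ e ∈ I, e ∈ Q := fun e he => mem_Q_of_sq_eq_one hS he.1 he.2.2
  have hIk : ∀ e ∈ I, ∃ k ∈ C, e = k * s * k⁻¹ := by
    intro e he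
    obtain ⟨k, hk, h⟩ := conj_inverted_surjective hS hs he
    rw [← hC] at hk
    exact ⟨k⁻¹, inv_mem hk, by rw [inv_inv, h]⟩
  -- the `D`-parts of the involutions
  have hpartI : ∀ e ∈ I, ∃ g ∈ Q, ∃ h ∈ C, ∃ f ∈ Q, t * e * t = g * h * t * f := by
    intro e he
    obtain ⟨k, hk, rfl⟩ := hIk e he
    have hkD := ((hmem k).1 hk).1
    refine ⟨k⁻¹ * r⁻¹ * k, by simpa using D_norm_Q hS (inv_mem hkD) (inv_mem hr), k⁻¹ * k⁻¹,
      mul_mem (inv_mem hk) (inv_mem hk), k⁻¹ * r * k, by simpa using D_norm_Q hS (inv_mem hkD) hr, ?_⟩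
    rw [conj_part hS ((hmem k).1 hk).2 (g := r⁻¹) (h := 1) (f := r) (by rw [e₀, mul_one]), mul_one]
  -- the `D`-part of `r e`
  have hpartR : ∀ e : G, e = 1 ∨ e ∈ I → ∃ g ∈ Q, ∃ h ∈ C, ∃ f ∈ Q, t * (r * e) * t = g * h * t * f := by
    rintro e (rfl | he)
    · refine ⟨r, hr, 1, one_mem _, s, hsQ, ?_⟩
      simp only [mul_one]
      calc t * r * t = (t * r) * t * (s * s) := by rw [hs.2.2, mul_one]
        _ = r * (r⁻¹ * t * r) * t * (s * s) := by
            rw [show r * (r⁻¹ * t * r) = t * r by group]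
        _ = r * t * s * (t * t) * (s * s) := by rw [← e₀]; group
        _ = r * t * s := by rw [hS.mul_self, hs.2.2]; group
    · obtain ⟨k, hk, rfl⟩ := hIk e he
      obtain ⟨hkD, hkt⟩ := (hmem k).1 hk
      have hne : r * (k * s * k⁻¹) ≠ 1 := fun h => hr2 (by
        rw [eq_inv_of_mul_eq_one_left h, ← mul_inv_rev, inv_eq_one]
        calc k * s * k⁻¹ * (k * s * k⁻¹) = k * (s * s) * k⁻¹ := by group
          _ = 1 := by rw [hs.2.2]; group)
      obtain ⟨g, hg, h, hh, f, hf, e⟩ := exists_part hS (mul_mem hr (hIQ _ he)) hne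
      refine ⟨g, hg, h, ?_, f, hf, e⟩
      have hA := part_re hS hsQ hr e₀ hkD hkt hg hh hf e hs.2.2
      obtain ⟨y, hy, z, hz, hyt, hzt, rfl⟩ :=
        exists_decomp hS.mul_self hS.odd_card (fun x hx => t_norm_D hS hx) hh
      have hzC : z ∈ C := (hmem z).2 ⟨hz, hzt⟩
      have hth : t * (y * z)⁻¹ * t = z * y⁻¹ := by
        have h1 : t * z⁻¹ * t = z := by
          have := congrArg (·⁻¹) hzt
          simp only [mul_inv_rev, inv_inv, t_inv hS] at this
          rw [mul_assoc]; exact this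
        calc t * (y * z)⁻¹ * t = t * z⁻¹ * (t * t) * y⁻¹ * t := by rw [hS.mul_self]; group
          _ = t * z⁻¹ * t * (t * y⁻¹) * t := by group
          _ = z * y⁻¹ * (t * t) := by rw [h1, (Commute.inv_right hyt).eq]; group
          _ = z * y⁻¹ := by rw [hS.mul_self, mul_one]
      rw [hth] at hA
      have hy2 : y * y = k * z * (y⁻¹ * k⁻¹ * y) * (y⁻¹ * z⁻¹ * y) := by
        calc y * y = y * z * (z⁻¹ * y) := by group
          _ = k * (z * y⁻¹) * k⁻¹ * (z⁻¹ * y) := by rw [← hA]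
          _ = k * z * (y⁻¹ * k⁻¹ * y) * (y⁻¹ * z⁻¹ * y) := by group
      have hconj : ∀ c ∈ C, y⁻¹ * c * y ∈ C := fun c hc => by
        simpa using hCn y⁻¹ (inv_mem hy) c hc
      have hy2C : y * y ∈ C := hy2 ▸ mul_mem (mul_mem (mul_mem hk hzC) (hconj _ (inv_mem hk)))
        (hconj _ (inv_mem hzC))
      obtain ⟨j, hj⟩ := exists_sqrt (X := stD) hS.odd_card hy
      refine mul_mem ?_ hzC
      rw [← hj, ← pow_add, ← two_mul, pow_mul, pow_two]
      exact pow_mem hy2C j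
  -- `C` is transitive on the rest
  have hcov : ∀ x ∈ Q, x * x ≠ 1 → ∃ k ∈ C, ∃ e : G, (e = 1 ∨ e ∈ I) ∧ x = k * (r * e) * k⁻¹ := by
    let E : Set G := insert 1 I
    have hEQ : ∀ e ∈ E, e ∈ Q := by
      rintro e (rfl | he)
      exacts [one_mem _, hIQ e he]
    have hE2 : ∀ e ∈ E, e * e = 1 ∧ e * r = r * e := by
      rintro e (rfl | he)
      · simp
      · exact ⟨he.2.2, hcent e he r hr⟩
    have hsq : ∀ e ∈ E, r * e * (r * e) = r * r := fun e he => by
      calc r * e * (r * e) = r * (e * r) * e := by group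
        _ = r * r * (e * e) := by rw [(hE2 e he).2]; group
        _ = r * r := by rw [(hE2 e he).1, mul_one]
    let T : Set G := {x | x ∈ Q ∧ x * x ≠ 1}
    let φ : C × E → T := fun p => ⟨(p.1 : G) * (r * p.2) * (p.1 : G)⁻¹,
      D_norm_Q hS ((hmem _).1 p.1.2).1 (mul_mem hr (hEQ _ p.2.2)), fun h => hr2 (by
        rw [← hsq _ p.2.2]
        calc r * (p.2 : G) * (r * p.2) = (p.1 : G)⁻¹ * ((p.1 : G) * (r * p.2) * (p.1 : G)⁻¹ *
              ((p.1 : G) * (r * p.2) * (p.1 : G)⁻¹)) * p.1 := by group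
          _ = 1 := by rw [h]; group)⟩
    have hinj : Function.Injective φ := by
      rintro ⟨⟨k, hk⟩, ⟨e, he⟩⟩ ⟨⟨k', hk'⟩, ⟨e', he'⟩⟩ h
      have h' : k * (r * e) * k⁻¹ = k' * (r * e') * k'⁻¹ := congrArg Subtype.val h
      have h2' : k * (r * r) * k⁻¹ = k' * (r * r) * k'⁻¹ := by
        calc k * (r * r) * k⁻¹ = k * (r * e) * k⁻¹ * (k * (r * e) * k⁻¹) := by
              rw [← hsq e he]; group
          _ = k' * (r * e') * k'⁻¹ * (k' * (r * e') * k'⁻¹) := by rw [h']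
          _ = k' * (r * r) * k'⁻¹ := by rw [← hsq e' he']; group
      have hj : k'⁻¹ * k = 1 := by
        by_contra hj
        have hjI : k'⁻¹ * k ∈ Cfsg.invertedBy stD t := hC ▸ mul_mem (inv_mem hk') hk
        have hm : r * r ∈ Q ⊓ Subgroup.centralizer {k'⁻¹ * k} := by
          refine Subgroup.mem_inf.2 ⟨mul_mem hr hr, Subgroup.mem_centralizer_singleton_iff.2 ?_⟩
          calc r * r * (k'⁻¹ * k) = k'⁻¹ * (k' * (r * r) * k'⁻¹) * k := by group
            _ = k'⁻¹ * (k * (r * r) * k⁻¹) * k := by rw [h2']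
            _ = k'⁻¹ * k * (r * r) := by group
        rw [fpf_of_inverted hS hjI hj, Subgroup.mem_bot] at hm
        exact hr2 hm
      have hkk : k' = k := inv_mul_eq_one.1 hj
      subst hkk
      have : e = e' := mul_left_cancel (mul_left_cancel (mul_right_cancel h'))
      subst this
      rfl
    have hcard : Nat.card T ≤ Nat.card (C × E) := by
      have h1 : Nat.card C = Nat.card I := by
        rw [← card_inverted hS, ← hC]; rfl
      have h1' : (1 : G) ∉ I := fun h => h.2.1 rfl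
      have hE : Nat.card E = Nat.card I + 1 := by
        simp only [Nat.card_coe_set_eq, E]
        exact Set.ncard_insert_of_notMem h1' (Set.toFinite _)
      have hsub : E ⊆ (Q : Set G) := hEQ
      have hT : T = (Q : Set G) \ E := by
        ext x
        simp only [T, Set.mem_setOf_eq, Set.mem_diff, SetLike.mem_coe]
        refine and_congr_right fun hx => ⟨fun h he => h (hE2 x he).1, fun h h' => h ?_⟩
        by_cases hx1 : x = 1
        · exact Or.inl hx1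
        · exact Or.inr ⟨hS.le hx, hx1, h'⟩
      rw [Nat.card_prod, h1, hE, Nat.card_coe_set_eq, hT, Set.ncard_diff hsub (Set.toFinite _),
        ← Nat.card_coe_set_eq (Q : Set G)]
      have hE' : E.ncard = Nat.card I + 1 := by rw [← Nat.card_coe_set_eq]; exact hE
      rw [hE', show Nat.card ↥(Q : Set G) = (Nat.card I + 1) ^ 2 from hn]
      refine le_of_eq (Nat.sub_eq_of_eq_add ?_)
      ring
    have hbij := hinj.bijective_of_nat_card_le hcard
    intro x hx hx2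
    obtain ⟨⟨⟨k, hk⟩, ⟨e, he⟩⟩, h⟩ := hbij.2 ⟨x, hx, hx2⟩
    exact ⟨k, hk, e, he, (congrArg Subtype.val h).symm⟩
  have hpart : ∀ x ∈ Q, x ≠ 1 → ∃ g ∈ Q, ∃ h ∈ C, ∃ f ∈ Q, t * x * t = g * h * t * f := by
    intro x hx hx1
    by_cases hx2 : x * x = 1
    · exact hpartI x ⟨hS.le hx, hx1, hx2⟩
    obtain ⟨k, hk, e, he, rfl⟩ := hcov x hx hx2
    obtain ⟨g, hg, h, hh, f, hf, e'⟩ := hpartR e he
    obtain ⟨hkD, hkt⟩ := (hmem k).1 hk
    exact ⟨k⁻¹ * g * k, by simpa using D_norm_Q hS (inv_mem hkD) hg, k⁻¹ * h * k⁻¹,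
      mul_mem (mul_mem (inv_mem hk) hh) (inv_mem hk), k⁻¹ * f * k,
      by simpa using D_norm_Q hS (inv_mem hkD) hf, conj_part hS hkt e'⟩
  have hK : KData (a := a) (t := t) (Q := Q) C := ⟨hC, hCn, hpart⟩
  obtain ⟨L, hQL, hCL, htL, hL⟩ := hK.exists_L hS
  obtain ⟨hZ, hsimp⟩ := hK.zassenhaus hS h2 hQL hCL htL hL
  refine ⟨L, (hK.normal_L hS hQL hCL htL hL).1, hK.odd_index hS hQL hCL htL hL, ?_⟩
  haveI := hsimp
  haveI := finite_points hS
  refine SuzukiUnique.isoSuzuki hZ (Q.subgroupOf L) (a := a) (fun g hg => hS.le hg)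
    (fun h hh u hu => hS.conj_mem h hh u hu) ?_ (hQ2.comap_of_injective _ L.subtype_injective) ?_
  · intro c d hc hd
    obtain ⟨x, hx, huniq⟩ := regular_Q hS hc hd
    refine ⟨⟨⟨x, hQL x.2⟩, x.2⟩, hx, fun y hy => ?_⟩
    have := huniq ⟨((y : L) : G), y.2⟩ hy
    exact Subtype.ext (Subtype.ext (show ((y : L) : G) = (x : G) from congrArg Subtype.val this))
  · obtain ⟨x, hx, y, hy, hxy⟩ := hna
    exact ⟨⟨x, hQL hx⟩, hx, ⟨y, hQL hy⟩, hy, fun h => hxy (congrArg Subtype.val h)⟩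

end CfsgLib.SuzukiTheorem

namespace CfsgLib.SuzukiThm

universe u v

variable {G : Type u} {Ω : Type v} [Group G] [MulAction G Ω] [Finite G] {a : Ω} {t : G}
  {Q : Subgroup G}

/-- The Suzuki case, stated for a frame. -/
theorem suzuki_case [FaithfulSMul G Ω] (P : Frame a t Q) (hQ2 : IsPGroup 2 Q)
    (_hsq : ∀ x ∈ Q, x * x ∈ P.E) (hn : Nat.card Q = P.q ^ 2) (hr : P.r ∉ P.E)
    (hnc : ∃ u ∈ Q, ∃ v ∈ Q, u * v ≠ v * u) :
    ∃ L : Subgroup G, L.Normal ∧ Odd L.index ∧ Cfsg.Lie.IsoSuzuki L := by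
  refine SuzukiTheorem.exists_sz P.hS P.h2 hQ2 hnc P.hs P.hr P.est
    (fun h => hr (P.mem_E_of_mem_Q P.hr h)) ?_
  rw [hn, ← P.card_K_add_one, ← RankOne.card_inverted P.hS]
  congr 2
  exact Nat.card_congr (Equiv.setCongr P.K_eq)

end CfsgLib.SuzukiThm
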