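import Mathlib

/-!
# The quadratic extension attached to an anisotropic binary form in characteristic two
-/

set_option autoImplicit false
set_option linter.unusedSimpArgs false
set_option linter.style.haveILetI false

namespace CfsgLib.SuzukiCoords

open Polynomial

/-- The norm form `α x² + x y + γ y²`. -/
def normForm {F : Type*} [Field F] (α γ : F) (v : F × F) : F :=
  α * v.1 * v.1 + v.1 * v.2 + γ * v.2 * v.2

/-- A binary form `α x² + x y + γ y²` without zeros is the norm of a quadratic extension. -/
theorem exists_normExt {F : Type} [Field F] [Fintype F] [CharP F 2] {α γ : F}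
    (h : ∀ v : F × F, v ≠ 0 → normForm α γ v ≠ 0) :
    ∃ (K2 : Type) (_ : Field K2) (_ : Fintype K2),
      Fintype.card K2 = Fintype.card F ^ 2 ∧ CharP K2 2 ∧
      ∃ (ι : F →+* K2) (φ : K2 →+* K2) (e : F × F → K2),
        (∀ z, φ z = z ^ Fintype.card F) ∧ (∀ c, φ (ι c) = ι c) ∧
        (∀ z, φ z = z → ∃ c, z = ι c) ∧ Function.Bijective e ∧
        (∀ v w, e (v + w) = e v + e w) ∧ (∀ (c : F) v, e (c • v) = ι c * e v) ∧
        (∀ v, e v * φ (e v) = ι (normForm α γ v)) ∧
        ∀ v w, e v * φ (e w) + e w * φ (e v) = ι (v.1 * w.2 + v.2 * w.1) := by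
  classical
  have hα : α ≠ 0 := fun h0 => h (1, 0) (by simp) (by simp [normForm, h0])
  have hnoroot : ∀ r : F, r * r + r + α * γ ≠ 0 := by
    intro r hr
    refine h (r / α, 1) (by simp) ?_
    simp only [normForm]
    field_simp
    linear_combination hr
  set p : F[X] := X ^ 2 + X + C (α * γ) with hp
  have hmonic : p.Monic := by rw [hp]; monicity!
  have hdeg : p.natDegree = 2 := by rw [hp]; compute_degree!
  haveI : Fact (Irreducible p) := ⟨by
    rw [hmonic.irreducible_iff_roots_eq_zero_of_degree_le_three (by omega) (by omega)]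
    refine Multiset.eq_zero_of_forall_notMem fun r hr => ?_
    rw [mem_roots hmonic.ne_zero, IsRoot.def, hp] at hr
    simp at hr
    exact hnoroot r (by linear_combination hr)⟩
  haveI : Module.Finite F (AdjoinRoot p) := (AdjoinRoot.powerBasis hmonic.ne_zero).finite
  haveI : Finite (AdjoinRoot p) := Module.finite_of_finite F
  letI : Fintype (AdjoinRoot p) := Fintype.ofFinite _
  have hcard : Fintype.card (AdjoinRoot p) = Fintype.card F ^ 2 := by
    rw [Module.card_eq_pow_finrank (K := F), PowerBasis.finrank (AdjoinRoot.powerBasis hmonic.ne_zero),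
      AdjoinRoot.powerBasis_dim, hdeg]
  set ι : F →+* AdjoinRoot p := algebraMap F (AdjoinRoot p) with hι
  haveI hchar : CharP (AdjoinRoot p) 2 := charP_of_injective_algebraMap ι.injective 2
  set ω := AdjoinRoot.root p with hω
  have hωeq : ω * ω + ω + ι α * ι γ = 0 := by
    have := AdjoinRoot.eval₂_root p
    simp only [hp, eval₂_add, eval₂_pow, eval₂_X, eval₂_C] at this
    rw [map_mul] at this
    rw [hι, AdjoinRoot.algebraMap_eq, hω]
    linear_combination this
  set φ : AdjoinRoot p →+* AdjoinRoot p :=
    (FiniteField.frobeniusAlgHom F (AdjoinRoot p)).toRingHom with hφ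
  have hφz : ∀ z, φ z = z ^ Fintype.card F := fun z => rfl
  have hφι : ∀ c, φ (ι c) = ι c := fun c => (FiniteField.frobeniusAlgHom F (AdjoinRoot p)).commutes c
  -- coordinates
  obtain ⟨s, hs⟩ := isSquare_of_charTwo' α
  have hs0 : s ≠ 0 := fun h0 => hα (by rw [hs, h0, mul_zero])
  have hωnot : ∀ c : F, ω ≠ ι c := fun c hc => hnoroot c (ι.injective (by
    rw [hc] at hωeq
    simp only [map_add, map_mul, map_zero]
    exact hωeq))
  set e : F × F → AdjoinRoot p := fun v => ι (s * v.1) + ι (v.2 / s) * ω with he
  have hinj : Function.Injective e := by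
    intro v w hvw
    simp only [he] at hvw
    have h2 : v.2 = w.2 := by
      by_contra hne
      refine hωnot ((s * w.1 - s * v.1) / (v.2 / s - w.2 / s)) ?_
      have hd : ι (v.2 / s - w.2 / s) ≠ 0 := by
        rw [_root_.map_ne_zero, sub_ne_zero]
        exact fun h' => hne ((div_left_inj' hs0).1 h')
      rw [map_div₀, eq_div_iff hd, map_sub, map_sub]
      linear_combination hvw
    have h1 : v.1 = w.1 := by
      rw [h2, add_left_inj] at hvw
      exact mul_left_cancel₀ hs0 (ι.injective hvw)
    exact Prod.ext h1 h2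
  have hbij : Function.Bijective e :=
    (Fintype.bijective_iff_injective_and_card e).2 ⟨hinj, by rw [hcard, Fintype.card_prod, pow_two]⟩
  have hφω : φ ω = ω + 1 := by
    have h1 := congrArg φ hωeq
    simp only [map_add, map_mul, map_zero, hφι] at h1
    have h2 : (φ ω + ω) * (φ ω + ω + 1) = 0 := by
      linear_combination h1 + hωeq + (φ ω * ω - ι α * ι γ) * CharTwo.two_eq_zero (R := AdjoinRoot p)
    rcases mul_eq_zero.1 h2 with h3 | h3
    · exfalso
      have hfix : ∀ z : AdjoinRoot p, z ^ Fintype.card F = z := by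
        intro z
        obtain ⟨v, rfl⟩ := hbij.2 z
        rw [← hφz]
        simp only [he, map_add, map_mul, hφι]
        rw [CharTwo.add_eq_zero.1 h3]
      have hq : 1 < Fintype.card F := Fintype.one_lt_card
      have hsub : (Finset.univ : Finset (AdjoinRoot p)).val ⊆
          (X ^ Fintype.card F - X : (AdjoinRoot p)[X]).roots := fun z _ => by
        rw [mem_roots (FiniteField.X_pow_card_sub_X_ne_zero _ hq)]
        simp [hfix z]
      have hle := card_le_degree_of_subset_roots (Z := Finset.univ)
        (p := (X ^ Fintype.card F - X : (AdjoinRoot p)[X])) hsub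
      rw [Finset.card_univ, hcard, FiniteField.X_pow_card_sub_X_natDegree_eq _ hq] at hle
      nlinarith
    · linear_combination h3 - (ω + 1) * CharTwo.two_eq_zero (R := AdjoinRoot p)
  refine ⟨AdjoinRoot p, inferInstance, inferInstance, hcard, hchar, ι, φ, e, hφz, hφι, ?_, hbij,
    ?_, ?_, ?_, ?_⟩
  · intro z hz
    obtain ⟨v, rfl⟩ := hbij.2 z
    refine ⟨s * v.1, ?_⟩
    simp only [he, map_add, map_mul, hφι, hφω] at hz ⊢
    have h0 : ι (v.2 / s) = 0 := by linear_combination hz
    rw [h0]
    ring
  · intro v w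
    simp only [he, Prod.fst_add, Prod.snd_add, mul_add, add_div, map_add]
    ring
  · intro c v
    simp only [he, Prod.smul_fst, Prod.smul_snd, smul_eq_mul]
    rw [show s * (c * v.1) = c * (s * v.1) by ring, show c * v.2 / s = c * (v.2 / s) by ring,
      map_mul ι c (s * v.1), map_mul ι c (v.2 / s)]
    ring
  · intro v
    have hN : ι (normForm α γ v) = ι (s * v.1) * ι (s * v.1) + ι (s * v.1) * ι (v.2 / s) +
        ι (v.2 / s) * ι (v.2 / s) * (ι α * ι γ) := by
      simp only [← map_mul, ← map_add]
      congr 1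
      rw [normForm, hs]
      field_simp
    have hφe : φ (e v) = ι (s * v.1) + ι (v.2 / s) * (ω + 1) := by
      simp only [he, map_add, map_mul φ, hφι, hφω]
    rw [hφe, hN]
    simp only [he]
    generalize ι (s * v.1) = x
    generalize ι (v.2 / s) = y
    linear_combination (y * y) * hωeq +
      (x * y * ω - y * y * (ι α * ι γ)) * CharTwo.two_eq_zero (R := AdjoinRoot p)
  · intro v w
    have hB : ι (v.1 * w.2 + v.2 * w.1) =
        ι (s * v.1) * ι (w.2 / s) + ι (v.2 / s) * ι (s * w.1) := by
      simp only [← map_mul, ← map_add]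
      congr 1
      field_simp
    have hφe : ∀ u, φ (e u) = ι (s * u.1) + ι (u.2 / s) * (ω + 1) := fun u => by
      simp only [he, map_add, map_mul φ, hφι, hφω]
    rw [hφe, hφe, hB]
    simp only [he]
    generalize ι (s * v.1) = x
    generalize ι (v.2 / s) = y
    generalize ι (s * w.1) = x'
    generalize ι (w.2 / s) = y'
    linear_combination (x * x' + x * y' * ω + x' * y * ω + y * y' * (ω * ω + ω)) *
      CharTwo.two_eq_zero (R := AdjoinRoot p)

end CfsgLib.SuzukiCoords
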