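import Cfsg.Agent.SuzukiTheorem.UnitalShapes
import Cfsg.Agent.SuzukiTheorem.UnitalField

/-!
# The norm form of the shapes, and additivity of `w ↦ cls (rep (w / N w))`
-/

set_option autoImplicit false
set_option linter.unusedSectionVars false
set_option linter.unusedSimpArgs false
set_option linter.style.haveILetI false

namespace CfsgLib.SuzukiCoords

open CfsgLib.SuzukiThm CfsgLib.SuzukiCircles

universe u v

variable {G : Type u} {Ω : Type v} [Group G] [MulAction G Ω] [Finite G] {a : Ω} {t : G}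
  {Q : Subgroup G} {P : Frame a t Q} {F : Type} [Field F] [Fintype F] [CharP F 2]
  {L : LineData P F} (R : RowData L) (hsq : ∀ x ∈ Q, x * x ∈ P.E)

include hsq

theorem exists_normForm :
    ∃ α γ : F, (∀ v : F × F, v ≠ 0 → normForm α γ v ≠ 0) ∧
      ∀ v : F × F, v ≠ 0 → sqv R hsq v * normForm α γ v = 1 := by
  classical
  set T₀ : F × F := (1, 0) with hT₀
  have hT0 : T₀ ≠ 0 := by simp [hT₀]
  set S := shapeClass R T₀ with hS
  have hmem0 : T₀ ∈ S := ⟨hT0, 1, by simp⟩
  -- the class has a point on every ray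
  let j : F → F × F := fun c => T₀ + sqv R hsq (c, 1) • (c, 1)
  have hd : ∀ c : F, rdet T₀ (c, 1) = 1 := fun c => by simp [hT₀, rdet]
  have hj : Function.Injective j := by
    intro c c' h
    have h1 := C_translate R hsq (hd c)
    rw [show T₀ + sqv R hsq (c, 1) • ((c, 1) : F × F) = j c from rfl, h] at h1
    rw [C_translate R hsq (hd c')] at h1
    have h2 : (fun X => (pt R (c, 1) * pt R (c', 1)) * X) '' C R T₀ = C R T₀ := by
      have h3 := congrArg (Set.image fun X => pt R (c, 1) * X) h1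
      rw [← Set.image_comp, ← Set.image_comp] at h3
      refine (Set.image_congr fun X _ => mul_assoc _ _ _).trans (h3.trans ?_)
      conv_rhs => rw [← Set.image_id (C R T₀)]
      exact Set.image_congr fun X _ => by
        show pt R (c, 1) * (pt R (c, 1) * X) = X
        rw [← mul_assoc, cls_mul_self hsq, one_mul]
    have h4 := eq_one_of_stab R hsq hT0 h2
    have h5 := pt_injective R ((mul_eq_one_iff_eq_inv.1 h4).trans (inv_eq hsq _))
    exact congrArg Prod.fst h5
  have hjmem : ∀ c, j c ∈ S := fun c => add_mem_shapeClass R hsq hmem0 (hd c)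
  have hjne : ∀ c, j c ≠ T₀ := by
    intro c h
    have h0 : sqv R hsq (c, 1) • ((c, 1) : F × F) = 0 := add_eq_left.1 h
    rw [smul_eq_zero] at h0
    rcases h0 with h0 | h0
    · exact sqv_ne_zero R hsq (by simp) h0
    · simp at h0
  let k : Option F → S := fun o => o.elim ⟨T₀, hmem0⟩ fun c => ⟨j c, hjmem c⟩
  have hk : Function.Injective k := by
    rintro (_ | c) (_ | c') h
    · rfl
    · exact absurd (congrArg Subtype.val h).symm (hjne c')
    · exact absurd (congrArg Subtype.val h) (hjne c)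
    · exact congrArg some (hj (congrArg Subtype.val h))
  let m : Fˣ × Option F → {v : F × F // v ≠ 0} := fun p => ⟨(p.1 : F) • (k p.2).1,
    smul_ne_zero p.1.ne_zero (k p.2).2.1⟩
  have hm : Function.Injective m := by
    rintro ⟨c, o⟩ ⟨c', o'⟩ h
    have h1 : (c : F) • (k o).1 = (c' : F) • (k o').1 := congrArg Subtype.val h
    have h2 : (((c'⁻¹ * c : Fˣ) : F)) • (k o).1 = (k o').1 := by
      rw [Units.val_mul, mul_smul, h1, smul_smul, ← Units.val_mul, inv_mul_cancel, Units.val_one,
        one_smul]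
    have h3 := eq_one_of_smul_mem R hsq (k o).2 (h2 ▸ (k o').2)
    rw [h3, one_smul] at h2
    have h4 : c = c' := (inv_mul_eq_one.1 (Units.ext h3)).symm
    rw [h4, hk (Subtype.ext h2)]
  have hsurj : Function.Surjective m := by
    refine ((Fintype.bijective_iff_injective_and_card m).2 ⟨hm, ?_⟩).2
    rw [Fintype.card_prod, Fintype.card_option, Fintype.card_units, Fintype.card_subtype_compl,
      Fintype.card_subtype_eq, Fintype.card_prod]
    have : 1 ≤ Fintype.card F := Fintype.card_pos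
    obtain ⟨q, hq⟩ : ∃ q, Fintype.card F = q + 1 := ⟨_, (Nat.succ_pred_eq_of_pos Fintype.card_pos).symm⟩
    rw [hq, Nat.add_sub_cancel]
    have : (q + 1) * (q + 1) = q * (q + 1 + 1) + 1 := by ring
    omega
  have hray : ∀ v : F × F, v ≠ 0 → ∃ c : F, c • v ∈ S := by
    intro v hv
    obtain ⟨⟨c, o⟩, hco⟩ := hsurj ⟨v, hv⟩
    have h1 : (c : F) • (k o).1 = v := congrArg Subtype.val hco
    refine ⟨((c⁻¹ : Fˣ) : F), ?_⟩
    rw [← h1, smul_smul, ← Units.val_mul, inv_mul_cancel, Units.val_one, one_smul]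
    exact (k o).2
  have hstep : ∀ T ∈ S, ∀ v : F × F, v ≠ 0 → T + (sqv R hsq v * rdet v T) • v ∈ S := by
    intro T hT v hv
    rw [rdet_comm]
    by_cases h0 : rdet T v = 0
    · rwa [h0, mul_zero, zero_smul, add_zero]
    have h1 : rdet T ((((Units.mk0 _ h0)⁻¹ : Fˣ) : F) • v) = 1 := by
      rw [rdet_smul_right, Units.val_inv_eq_inv_val, Units.val_mk0, inv_mul_cancel₀ h0]
    have h2 := add_mem_shapeClass R hsq hT h1
    rw [sqv_smul R hsq hv, smul_smul, Units.val_inv_eq_inv_val, Units.val_mk0] at h2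
    rwa [show rdet T v * rdet T v * sqv R hsq v * (rdet T v)⁻¹ = sqv R hsq v * rdet T v by
      field_simp] at h2
  -- translate to `Fin 2 → F`
  let pr : (Fin 2 → F) → F × F := fun w => (w 0, w 1)
  have hpr0 : ∀ w, pr w = 0 ↔ w = 0 := fun w => by
    simp [pr, funext_iff, Fin.forall_fin_two, Prod.ext_iff]
  have hdet : ∀ u w, det2 u w = rdet (pr u) (pr w) := fun u w => by
    rw [det2, rdet, CharTwo.sub_eq_add]
  obtain ⟨A, B, Cc, hB, haniso, hΩ⟩ := exists_form {w | pr w ∈ S}
    (fun h => h.1 ((hpr0 0).2 rfl))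
    (fun w hw => by
      obtain ⟨c, hc⟩ := hray (pr w) ((hpr0 w).not.2 hw)
      exact ⟨c, hc⟩)
    (fun w hw c hc => eq_one_of_smul_mem R hsq hw hc)
    (fun w hw => by
      have hw0 : pr w ≠ 0 := hw.1
      refine ⟨sqv R hsq (pr w), sqv_ne_zero R hsq hw0, fun x hx => ?_⟩
      rw [hdet]
      exact hstep _ hx _ hw0)
  -- the squares
  have hkey : ∀ v : F × F, v ≠ 0 →
      sqv R hsq v * (A * v.1 * v.1 + B * v.1 * v.2 + Cc * v.2 * v.2) = B := by
    intro v hv
    obtain ⟨w, hw⟩ := exists_rdet_eq hv 1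
    obtain ⟨c, hc⟩ := hray w (fun h => by simp [h, rdet] at hw)
    set T := c • w with hT
    have hc0 : c ≠ 0 := fun h => hc.1 (by rw [hT, h, zero_smul])
    have hd0 : rdet T v = c := by rw [hT, rdet_smul_left, hw, mul_one]
    have h1 := hstep T hc v hv
    rw [rdet_comm, hd0] at h1
    have hQ : ∀ u : F × F, u ∈ S → A * u.1 * u.1 + B * u.1 * u.2 + Cc * u.2 * u.2 = 1 := by
      intro u hu
      have := (hΩ ![u.1, u.2]).1 (by simpa [pr] using hu)
      simpa using this
    have e1 := hQ T hc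
    have e2 := hQ _ h1
    simp only [Prod.fst_add, Prod.snd_add, Prod.smul_fst, Prod.smul_snd, smul_eq_mul] at e2
    simp only [rdet] at hd0
    set ε := sqv R hsq v * c with hε
    have hε0 : ε ≠ 0 := mul_ne_zero (sqv_ne_zero R hsq hv) hc0
    have e3 : ε * (B * c + ε * (A * v.1 * v.1 + B * v.1 * v.2 + Cc * v.2 * v.2)) = 0 := by
      linear_combination e2 - e1 - ε * B * hd0 -
        (A * T.1 * ε * v.1 + Cc * T.2 * ε * v.2) * CharTwo.two_eq_zero (R := F)
    have e4 := (mul_eq_zero.1 e3).resolve_left hε0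
    rw [CharTwo.add_eq_zero] at e4
    refine mul_left_cancel₀ hc0 ?_
    rw [hε] at e4
    linear_combination -e4
  refine ⟨A / B, Cc / B, fun v hv => ?_, fun v hv => ?_⟩
  · intro h
    have h1 := hkey v hv
    have h2 : A * v.1 * v.1 + B * v.1 * v.2 + Cc * v.2 * v.2 = 0 := by
      simp only [normForm] at h
      field_simp at h
      linear_combination h
    rw [h2, mul_zero] at h1
    exact hB h1.symm
  · simp only [normForm]
    field_simp
    linear_combination hkey v hv

variable {α γ : F}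

/-- For independent `w₁, w₂` the point of `(w₁ + w₂) / N(w₁ + w₂)` is the product. -/
theorem pt_mul (haniso : ∀ v : F × F, v ≠ 0 → normForm α γ v ≠ 0)
    (hn : ∀ v : F × F, v ≠ 0 → sqv R hsq v * normForm α γ v = 1)
    {w₁ w₂ : F × F} (h : rdet w₁ w₂ ≠ 0) :
    pt R ((normForm α γ w₁)⁻¹ • w₁) * pt R ((normForm α γ w₂)⁻¹ • w₂) =
      pt R ((normForm α γ (w₁ + w₂))⁻¹ • (w₁ + w₂)) := by
  set N := normForm α γ with hN
  have hNadd : ∀ v w : F × F, N (v + w) = N v + N w + rdet v w := fun v w => by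
    simp only [hN, normForm, Prod.fst_add, Prod.snd_add, rdet]
    linear_combination (α * v.1 * w.1 + γ * v.2 * w.2) * CharTwo.two_eq_zero (R := F)
  have hNsmul : ∀ (c : F) (v : F × F), N (c • v) = c * c * N v := fun c v => by
    simp only [hN, normForm, Prod.smul_fst, Prod.smul_snd, smul_eq_mul]; ring
  have hrule : ∀ (T : F × F) {w : F × F}, w ≠ 0 → rdet T w = N w →
      C R (T + w) = (fun X => pt R ((N w)⁻¹ • w) * X) '' C R T := by
    intro T w hw hd
    have hN0 := haniso w hw
    have h1 : rdet T ((N w)⁻¹ • w) = 1 := by rw [rdet_smul_right, hd, inv_mul_cancel₀ hN0]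
    have h2 := C_translate R hsq h1
    have hv : (N w)⁻¹ • w ≠ 0 := smul_ne_zero (inv_ne_zero hN0) hw
    have h3 : sqv R hsq ((N w)⁻¹ • w) = N w := by
      have := hn _ hv
      rw [show N ((N w)⁻¹ • w) = (N w)⁻¹ by
        rw [hNsmul, mul_assoc, inv_mul_cancel₀ hN0, mul_one]] at this
      exact (mul_inv_eq_one₀ hN0).1 this
    rwa [h3, smul_smul, mul_inv_cancel₀ hN0, one_smul] at h2
  -- the common centre
  set T : F × F := (rdet w₁ w₂)⁻¹ • (N w₁ • w₂ + N w₂ • w₁) with hT
  have hadd : ∀ v v' u : F × F, rdet (v + v') u = rdet v u + rdet v' u := fun v v' u => by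
    rw [rdet_comm, rdet_add_right, rdet_comm u, rdet_comm u]
  have hT1 : rdet T w₁ = N w₁ := by
    rw [hT, rdet_smul_left, hadd, rdet_smul_left, rdet_smul_left, rdet_self, mul_zero, add_zero,
      rdet_comm w₂ w₁, mul_left_comm, inv_mul_cancel₀ h, mul_one]
  have hT2 : rdet T w₂ = N w₂ := by
    rw [hT, rdet_smul_left, hadd, rdet_smul_left, rdet_smul_left, rdet_self, mul_zero, zero_add,
      mul_left_comm, inv_mul_cancel₀ h, mul_one]
  have hw1 : w₁ ≠ 0 := fun h0 => h (by simp [h0, rdet])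
  have hw2 : w₂ ≠ 0 := fun h0 => h (by simp [h0, rdet])
  have hw3 : w₁ + w₂ ≠ 0 := fun h0 => h (by
    obtain rfl : w₁ = w₂ := Prod.ext (CharTwo.add_eq_zero.1 (congrArg Prod.fst h0))
      (CharTwo.add_eq_zero.1 (congrArg Prod.snd h0))
    exact rdet_self _)
  have e1 := hrule T hw1 hT1
  have e2 := hrule T hw2 hT2
  have e3 : C R (T + w₂) = (fun X => pt R ((N (w₁ + w₂))⁻¹ • (w₁ + w₂)) * X) '' C R (T + w₁) := by
    have h4 : T + w₁ + (w₁ + w₂) = T + w₂ := by
      ext
      · simp only [Prod.fst_add]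
        linear_combination w₁.1 * CharTwo.two_eq_zero (R := F)
      · simp only [Prod.snd_add]
        linear_combination w₁.2 * CharTwo.two_eq_zero (R := F)
    rw [← h4]
    refine hrule _ hw3 ?_
    rw [rdet_add_right, hadd, hadd, rdet_self, hT1, hT2, hNadd]
    ring
  rw [e2, e1, ← Set.image_comp] at e3
  set A := pt R ((N w₁)⁻¹ • w₁)
  set B := pt R ((N w₂)⁻¹ • w₂)
  set D := pt R ((N (w₁ + w₂))⁻¹ • (w₁ + w₂))
  have hT0 : T ≠ 0 := fun h0 => haniso w₁ hw1 (by rw [← hT1, h0]; simp [rdet])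
  have h5 : (fun X => (B * (D * A)) * X) '' C R T = C R T := by
    have h6 := congrArg (Set.image fun X => B * X) e3
    rw [← Set.image_comp, ← Set.image_comp] at h6
    refine (Set.image_congr fun X _ => ?_).trans (h6.symm.trans ?_)
    · show B * (D * A) * X = B * (D * (A * X))
      simp only [mul_assoc]
    · conv_rhs => rw [← Set.image_id (C R T)]
      exact Set.image_congr fun X _ => by
        show B * (B * X) = X
        rw [← mul_assoc, cls_mul_self hsq, one_mul]
  have h7 := eq_one_of_stab R hsq hT0 h5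
  have h8 : D * A = B := by
    have := (mul_eq_one_iff_eq_inv.1 h7).symm
    rw [← inv_inj, this, inv_eq hsq]
  calc A * B = A * (D * A) := by rw [h8]
    _ = D * (A * A) := by rw [← mul_assoc, cls_comm hsq A D, mul_assoc]
    _ = D := by rw [cls_mul_self hsq, mul_one]

end CfsgLib.SuzukiCoords
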