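import Cfsg.Agent.SuzukiTheorem.Model
import Cfsg.Agent.SuzukiTheorem.UnitalForm

/-!
# Coordinates of `Q` on the Hermitian unital (case `|Q| = q³`)

`u x = 1 / φ(e (R x))` and `z x = e (T x) / e (R x)`, where `e : F² → F_{q²}` carries the norm form
of the shapes to the norm.  The functional equation of `g` gives the group law of the unital for
elements with independent second rows; the general case follows by cancelling a third element.
-/

set_option autoImplicit false
set_option linter.unusedSectionVars false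
set_option linter.unusedSimpArgs false
set_option linter.unusedVariables false
set_option linter.style.haveILetI false

namespace CfsgLib.SuzukiThm

open CfsgLib.SuzukiCoords

universe u v

variable {G : Type u} {Ω : Type v} [Group G] [MulAction G Ω] [Finite G] {a : Ω} {t : G}
  {Q : Subgroup G}

theorem unital_coords (P : Frame a t Q) {F : Type} [Field F] [Fintype F] [CharP F 2]
    (L : LineData P F) (R : RowData L) (hsq : ∀ x ∈ Q, x * x ∈ P.E)
    (hn : Nat.card Q = Fintype.card F ^ 3) :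
    ∃ (K2 : Type) (_ : Field K2) (_ : Fintype K2), Fintype.card K2 = Fintype.card F ^ 2 ∧
      ∃ Ψ : ↥Q → Unitary.QPt K2 (Fintype.card F), Function.Bijective Ψ ∧
        (∀ x y : ↥Q, (Ψ (x * y)).1.1 = (Ψ x).1.1 + (Ψ y).1.1 ∧
          (Ψ (x * y)).1.2 = (Ψ x).1.2 + (Ψ y).1.2 +
            (Ψ x).1.1 * (Ψ y).1.1 ^ Fintype.card F) ∧
        ∀ x : ↥Q, x ≠ 1 → (Ψ x).1.2 ≠ 0 ∧
          (Ψ ⟨P.g x, P.g_mem _⟩).1.1 = (Ψ x).1.1 / (Ψ x).1.2 ^ Fintype.card F ∧
          (Ψ ⟨P.g x, P.g_mem _⟩).1.2 = 1 / (Ψ x).1.2 := by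
  classical
  obtain ⟨α, γ, haniso, hnorm⟩ := exists_normForm R hsq
  obtain ⟨K2, instF, instT, hcard, hchar, j, φ, e, hφ, hφj, hfix, hbij, headd, hesmul, hN, hB⟩ :=
    exists_normExt haniso
  haveI := hchar
  have h2 : (2 : K2) = 0 := CharTwo.two_eq_zero
  have he0 : e 0 = 0 := by
    have := hesmul 0 0
    rwa [zero_smul, map_zero, zero_mul] at this
  have hene : ∀ v : F × F, v ≠ 0 → e v ≠ 0 := fun v hv h => hv (hbij.1 (h.trans he0.symm))
  have hφne : ∀ v : F × F, v ≠ 0 → φ (e v) ≠ 0 := fun v hv =>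
    (map_ne_zero φ).2 (hene v hv)
  have hRne : ∀ x : ↥Q, (x : G) ∉ P.E → R.R x ≠ 0 := fun x hx => R_ne_zero R x.2 hx
  have hTne : ∀ x : ↥Q, (x : G) ∉ P.E → R.T x ≠ 0 := fun x hx => T_ne_zero R x.2 hx
  have hdet : ∀ x : ↥Q, (x : G) ∉ P.E →
      e (R.T x) * φ (e (R.R x)) + e (R.R x) * φ (e (R.T x)) = 1 := fun x hx => by
    rw [hB, R.det _ x.2 hx, map_one]
  let ιi : G → F := Function.invFun L.ι
  have hιi : ∀ c, ιi (L.ι c) = c := Function.leftInverse_invFun L.ι_injective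
  let U : ↥Q → K2 := fun x => if (x : G) ∈ P.E then 0 else 1 / φ (e (R.R x))
  let Z : ↥Q → K2 := fun x => if (x : G) ∈ P.E then j (ιi x) else e (R.T x) / e (R.R x)
  have hUE : ∀ x : ↥Q, (x : G) ∈ P.E → U x = 0 := fun x hx => if_pos hx
  have hU : ∀ x : ↥Q, (x : G) ∉ P.E → U x = 1 / φ (e (R.R x)) := fun x hx => if_neg hx
  have hZE : ∀ (x : ↥Q) (c : F), (x : G) = L.ι c → Z x = j c := fun x c hx => by
    show (if (x : G) ∈ P.E then j (ιi x) else _) = _
    rw [hx, if_pos (ι_mem c), hιi]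
  have hZ : ∀ x : ↥Q, (x : G) ∉ P.E → Z x = e (R.T x) / e (R.R x) := fun x hx => if_neg hx
  have hφφ : ∀ x : ↥Q, (x : G) ∉ P.E →
      j (sqv R hsq (R.R x)) * (e (R.R x) * φ (e (R.R x))) = 1 := fun x hx => by
    rw [hN, ← map_mul, hnorm _ (hRne x hx), map_one]
  have hpt : ∀ x : ↥Q, Z x + φ (Z x) = U x * φ (U x) := by
    intro x
    by_cases hx : (x : G) ∈ P.E
    · obtain ⟨c, hc⟩ := exists_ι (L := L) hx
      rw [hUE x hx, hZE x c hc.symm, hφj, CharTwo.add_self_eq_zero, zero_mul]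
    · have hφ2 : φ (φ (e (R.R x))) = e (R.R x) := by
        obtain ⟨n, hn1⟩ : ∃ n, n = j (sqv R hsq (R.R x)) := ⟨_, rfl⟩
        have h1 := hφφ x hx
        rw [← hn1] at h1
        have h3 := congrArg φ h1
        rw [map_mul, map_mul, map_one, show φ n = n by rw [hn1, hφj]] at h3
        have hn0 : n ≠ 0 := fun h => by simp [h] at h1
        refine mul_left_cancel₀ (hφne _ (hRne x hx)) (mul_left_cancel₀ hn0 ?_)
        rw [h3, mul_comm (φ _), h1]
      rw [hU x hx, hZ x hx, map_div₀, map_div₀, map_one, hφ2]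
      have := hene _ (hRne x hx)
      have := hφne _ (hRne x hx)
      field_simp
      linear_combination hdet x hx
  let Ψ : ↥Q → Unitary.QPt K2 (Fintype.card F) := fun x =>
    ⟨(U x, Z x), by
      show Z x + Z x ^ _ = U x * U x ^ _
      rw [← hφ, ← hφ]; exact hpt x⟩
  -- changing the representative
  have hιmul : ∀ (c : F) (x x' : ↥Q), (x' : G) = L.ι c * x → U x' = U x ∧ Z x' = j c + Z x := by
    intro c x x' hx'
    by_cases hx : (x : G) ∈ P.E
    · obtain ⟨d, hd⟩ := exists_ι (L := L) hx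
      have hx'' : (x' : G) = L.ι (c + d) := by rw [hx', ← hd, L.ι_add]
      exact ⟨by rw [hUE x hx, hUE x' (hx''.symm ▸ ι_mem _)],
        by rw [hZE x' _ hx'', hZE x d hd.symm, map_add]⟩
    · have hxE' : (x' : G) ∉ P.E := fun h => hx ((mul_mem_E_iff (ι_mem c)).1 (hx' ▸ h))
      obtain ⟨hT, hR⟩ := R.mul_ι _ x.2 hx c
      rw [← hx'] at hT hR
      refine ⟨by rw [hU x hx, hU x' hxE', hR], ?_⟩
      rw [hZ x hx, hZ x' hxE', hT, hR, headd, hesmul]
      have := hene _ (hRne x hx)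
      field_simp
      ring
  -- the group law for independent second rows
  have hind : ∀ x y : ↥Q, (x : G) ∉ P.E → (y : G) ∉ P.E → rdet (R.R x) (R.R y) ≠ 0 →
      U (x * y) = U x + U y ∧ Z (x * y) = Z x + Z y + U x * φ (U y) := by
    intro x y hx hy hne
    set ν := rdet (R.R x) (R.R y) with hν
    set n := sqv R hsq (R.R x) with hn'
    set T' : F × F := ν⁻¹ • (R.R y + R.R x) with hT'
    have hd' : rdet T' (R.R x) = 1 := by
      rw [hT', rdet_smul_left, rdet_comm _ (R.R x), rdet_add_right, rdet_self, add_zero,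
        inv_mul_cancel₀ hne]
    obtain ⟨x₁, ⟨⟨hx₁Q, hx₁E⟩, hT₁, hR₁⟩, -⟩ :=
      R.bij (T' + n • R.R x) (R.R x) ((rdet_add_smul_self _ _ _).trans hd')
    obtain ⟨y₁, hy₁Q, hy₁E, hTy, hRy, hpE, hTp, -⟩ := exists_product R hsq hx₁Q hx₁E hne
    rw [hR₁, hT₁, ← hn'] at hTy hRy
    have hcancel : T' + n • R.R x + n • R.R x = T' := by
      ext <;> simp only [Prod.fst_add, Prod.snd_add] <;>
        rw [add_assoc, CharTwo.add_self_eq_zero, add_zero]
    rw [hcancel] at hTy hRy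
    have hRy' : R.R y₁ = R.R y := by
      rw [hRy, hT', smul_smul, mul_inv_cancel₀ hne, one_smul]
      ext <;> simp only [Prod.fst_add, Prod.snd_add]
      · linear_combination (R.R x).1 * CharTwo.two_eq_zero (R := F)
      · linear_combination (R.R x).2 * CharTwo.two_eq_zero (R := F)
    obtain ⟨μ, hμ⟩ := exists_ι_of_R_eq R hx₁Q hx₁E x.2 hx hR₁
    obtain ⟨μ', hμ'⟩ := exists_ι_of_R_eq R hy₁Q hy₁E y.2 hy hRy'
    obtain ⟨X, hX⟩ : ∃ X : ↥Q, (X : G) = x₁ := ⟨⟨x₁, hx₁Q⟩, rfl⟩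
    obtain ⟨Y, hY⟩ : ∃ Y : ↥Q, (Y : G) = y₁ := ⟨⟨y₁, hy₁Q⟩, rfl⟩
    obtain ⟨hux, hzx⟩ := hιmul μ X x (by rw [hX]; exact hμ)
    obtain ⟨huy, hzy⟩ := hιmul μ' Y y (by rw [hY]; exact hμ')
    obtain ⟨hup, hzp⟩ := hιmul (μ + μ') (X * Y) (x * y) (by
      rw [Subgroup.coe_mul, Subgroup.coe_mul, hX, hY, hμ, hμ', L.ι_add, mul_assoc, mul_assoc,
        ← mul_assoc x₁, ← ι_comm μ' hx₁Q, mul_assoc])
    rw [hup, hzp, hux, huy, hzx, hzy]
    have hXE : (X : G) ∉ P.E := hX ▸ hx₁E
    have hYE : (Y : G) ∉ P.E := hY ▸ hy₁E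
    have hpE' : ((X * Y : ↥Q) : G) ∉ P.E := by rwa [Subgroup.coe_mul, hX, hY]
    -- first coordinate
    let W : ↥Q → F × F := fun z => sqv R hsq (R.R z) • R.R z
    have hWU : ∀ z : ↥Q, (z : G) ∉ P.E → e (W z) = U z := fun z hz => by
      rw [hU z hz, hesmul, eq_div_iff (hφne _ (hRne z hz)), mul_assoc, hφφ z hz]
    have hNW : ∀ z : ↥Q, (z : G) ∉ P.E →
        (normForm α γ (W z))⁻¹ • W z = R.R z := fun z hz => by
      have h1 := hnorm _ (hRne z hz)
      have h3 : normForm α γ (W z) = sqv R hsq (R.R z) := by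
        have h4 : normForm α γ (W z) = sqv R hsq (R.R z) *
            (sqv R hsq (R.R z) * normForm α γ (R.R z)) := by
          simp only [W, normForm, Prod.smul_fst, Prod.smul_snd, smul_eq_mul]; ring
        rw [h4, h1, mul_one]
      rw [h3, smul_smul, inv_mul_cancel₀ (sqv_ne_zero R hsq (hRne z hz)), one_smul]
    have hWne : rdet (W X) (W Y) ≠ 0 := by
      simp only [W]
      rw [rdet_smul_left, rdet_smul_right, hX, hY, hR₁, hRy']
      exact mul_ne_zero (sqv_ne_zero R hsq (hRne x hx))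
        (mul_ne_zero (sqv_ne_zero R hsq (hRne y hy)) hne)
    have hsum : W X + W Y ≠ 0 := fun h => hWne (by
      obtain h1 : W X = W Y := Prod.ext (CharTwo.add_eq_zero.1 (congrArg Prod.fst h))
        (CharTwo.add_eq_zero.1 (congrArg Prod.snd h))
      rw [h1, rdet_self])
    have hprod := pt_mul R hsq haniso hnorm hWne
    rw [hNW X hXE, hNW Y hYE, pt, pt, cls_rep R hXE, cls_rep R hYE, ← map_mul,
      ← cls_rep R hpE'] at hprod
    have hRp := pt_injective R hprod
    have hWp : W (X * Y) = W X + W Y := by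
      have h1 := haniso _ hsum
      have h3 : sqv R hsq (R.R ((X * Y : ↥Q) : G)) = normForm α γ (W X + W Y) := by
        have h4 := hnorm _ (hRne _ hpE')
        rw [hRp] at h4 ⊢
        rw [show normForm α γ ((normForm α γ (W X + W Y))⁻¹ • (W X + W Y)) =
            (normForm α γ (W X + W Y))⁻¹ * ((normForm α γ (W X + W Y))⁻¹ *
              normForm α γ (W X + W Y)) by
          simp only [normForm, Prod.smul_fst, Prod.smul_snd, smul_eq_mul]; ring,
          inv_mul_cancel₀ h1, mul_one] at h4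
        exact (mul_inv_eq_one₀ h1).1 h4
      show sqv R hsq (R.R ((X * Y : ↥Q) : G)) • R.R ((X * Y : ↥Q) : G) = _
      rw [h3, hRp, smul_smul, mul_inv_cancel₀ h1, one_smul]
    have hUp : U (X * Y) = U X + U Y := by
      rw [← hWU _ hpE', ← hWU _ hXE, ← hWU _ hYE, hWp, headd]
    refine ⟨hUp, ?_⟩
    -- second coordinate
    have h1 := congrArg φ hUp
    have hinvφ : ∀ z : ↥Q, (z : G) ∉ P.E → φ (U z) = 1 / e (R.R z) := fun z hz => by
      have h3 := hφφ z hz
      have h4 := congrArg φ h3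
      rw [map_mul, map_mul, map_one, hφj] at h4
      rw [hU z hz, map_div₀, map_one]
      have hj : j (sqv R hsq (R.R z)) ≠ 0 := fun h => by simp [h] at h3
      congr 1
      refine mul_left_cancel₀ (hφne _ (hRne z hz)) (mul_left_cancel₀ hj ?_)
      rw [h4, mul_comm (φ _), h3]
    rw [map_add, hinvφ _ hpE', hinvφ _ hXE, hinvφ _ hYE] at h1
    rw [hinvφ Y hYE, hU X hXE, hZ _ hpE', hZ _ hXE, hZ _ hYE]
    have hTp' : R.T ((X * Y : ↥Q) : G) = R.T X := by
      rw [Subgroup.coe_mul, hX, hY, hTp]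
    have hTY : e (R.T Y) = e (R.T X) + j n * e (R.R X) := by
      rw [hX, hY, hTy, hT₁, hR₁, ← hesmul, ← headd, hcancel]
    have hnX : j n * (e (R.R X) * φ (e (R.R X))) = 1 := by
      have := hφφ X hXE
      rw [hX, hR₁] at this ⊢
      exact this
    rw [hTp', hTY, div_eq_mul_one_div, h1, map_add]
    have := hene _ (hRne X hXE)
    have := hene _ (hRne Y hYE)
    have := hφne _ (hRne X hXE)
    field_simp
    linear_combination (-e (R.R X)) * hnX + (-e (R.R X)) * h2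
  -- `E` times anything
  have hEmul : ∀ x y : ↥Q, (x : G) ∈ P.E ∨ (y : G) ∈ P.E →
      U (x * y) = U x + U y ∧ Z (x * y) = Z x + Z y + U x * φ (U y) := by
    intro x y h
    rcases h with h | h <;> obtain ⟨c, hc⟩ := exists_ι (L := L) h
    · obtain ⟨h1, h3⟩ := hιmul c y (x * y) (by rw [Subgroup.coe_mul, hc])
      rw [h1, h3, hUE x h, hZE x c hc.symm, zero_add, zero_mul, add_zero]
      exact ⟨rfl, rfl⟩
    · obtain ⟨h1, h3⟩ := hιmul c x (x * y) (by rw [Subgroup.coe_mul, ← hc, ι_comm c x.2])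
      rw [h1, h3, hUE y h, hZE y c hc.symm, add_zero, map_zero, mul_zero, add_zero, add_comm]
      exact ⟨rfl, rfl⟩
  -- the law
  have hlaw : ∀ x y : ↥Q, U (x * y) = U x + U y ∧ Z (x * y) = Z x + Z y + U x * φ (U y) := by
    intro x y
    by_cases hx : (x : G) ∈ P.E
    · exact hEmul x y (Or.inl hx)
    by_cases hy : (y : G) ∈ P.E
    · exact hEmul x y (Or.inr hy)
    by_cases hd : rdet (R.R x) (R.R y) ≠ 0
    · exact hind x y hx hy hd
    rw [not_not] at hd
    obtain ⟨lam, hlam⟩ := eq_smul_of_rdet (hRne x hx) hd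
    -- a third element in general position
    obtain ⟨v, hv0, hvx, hvp⟩ : ∃ v : F × F, v ≠ 0 ∧ rdet (R.R x) v ≠ 0 ∧
        (((x * y : ↥Q) : G) ∉ P.E → rdet (R.R ((x * y : ↥Q) : G)) v ≠ 0) := by
      obtain ⟨w, hw⟩ := exists_rdet_eq (hRne x hx) 1
      rw [rdet_comm] at hw
      by_cases hp : ((x * y : ↥Q) : G) ∈ P.E ∨ rdet (R.R ((x * y : ↥Q) : G)) w ≠ 0
      · exact ⟨w, fun h => by simp [h, rdet] at hw, by rw [hw]; exact one_ne_zero,
          fun h => hp.resolve_left h⟩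
      push Not at hp
      obtain ⟨hp1, hp2⟩ := hp
      have h3 : rdet (R.R ((x * y : ↥Q) : G)) (R.R x) ≠ 0 := fun h3 => by
        obtain ⟨c, hc⟩ := eq_smul_of_rdet (hRne x hx) (by rw [rdet_comm]; exact h3)
        rw [hc, rdet_smul_left, hw, mul_one] at hp2
        exact hRne _ hp1 (by rw [hc, hp2, zero_smul])
      have h4 : rdet (R.R x) (w + R.R x) = 1 := by rw [rdet_add_right, hw, rdet_self, add_zero]
      exact ⟨w + R.R x, fun h => by rw [h] at h4; simp [rdet] at h4, by rw [h4]; exact one_ne_zero,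
        fun _ => by rwa [rdet_add_right, hp2, zero_add]⟩
    obtain ⟨z, hz, hzR⟩ := exists_with_R R hv0
    have hyz : rdet (R.R y) (R.R z) ≠ 0 := by
      rw [hzR, hlam, rdet_smul_left]
      refine mul_ne_zero (fun h => hRne y hy ?_) hvx
      rw [hlam, h, zero_smul]
    obtain ⟨u1, z1⟩ := hind y z hy hz hyz
    have hxyz : U (x * (y * z)) = U x + U (y * z) ∧
        Z (x * (y * z)) = Z x + Z (y * z) + U x * φ (U (y * z)) := by
      by_cases hyzE : ((y * z : ↥Q) : G) ∈ P.E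
      · exact hEmul _ _ (Or.inr hyzE)
      refine hind x (y * z) hx hyzE fun h => ?_
      obtain ⟨c, hc⟩ := eq_smul_of_rdet (hRne x hx) h
      have hc0 : c ≠ 0 := fun h0 => hRne _ hyzE (by rw [hc, h0, zero_smul])
      have hl0 : lam ≠ 0 := fun h0 => hRne y hy (by rw [hlam, h0, zero_smul])
      have h5 : U (y * z) = j c⁻¹ * U x := by
        rw [hU _ hyzE, hU x hx, hc, hesmul, map_mul, hφj, map_inv₀]
        field_simp
      have h6 : U y = j lam⁻¹ * U x := by
        rw [hU y hy, hU x hx, hlam, hesmul, map_mul, hφj, map_inv₀]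
        field_simp
      have h7 : U z = j (c⁻¹ + lam⁻¹) * U x := by
        rw [map_add, add_mul, ← h5, ← h6, u1]
        linear_combination (-U y) * h2
      have h8 : U z ≠ 0 := by
        rw [hU z hz]; exact div_ne_zero one_ne_zero (hφne _ (hRne z hz))
      have hk : c⁻¹ + lam⁻¹ ≠ 0 := fun h9 => h8 (by rw [h7, h9, map_zero, zero_mul])
      have h10 : R.R z = (c⁻¹ + lam⁻¹)⁻¹ • R.R x := by
        refine hbij.1 ?_
        apply φ.injective
        rw [hesmul, map_mul, hφj, map_inv₀]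
        have := hφne _ (hRne x hx)
        have := hφne _ (hRne z hz)
        have hjk : j (c⁻¹ + lam⁻¹) ≠ 0 := (map_ne_zero j).2 hk
        rw [hU z hz, hU x hx] at h7
        rw [eq_inv_mul_iff_mul_eq₀ hjk]
        generalize j (c⁻¹ + lam⁻¹) = J at h7 hjk ⊢
        field_simp at h7
        linear_combination -h7
      rw [← hzR, h10, rdet_smul_right, rdet_self, mul_zero] at hvx
      exact hvx rfl
    have hxy : U (x * y * z) = U (x * y) + U z ∧
        Z (x * y * z) = Z (x * y) + Z z + U (x * y) * φ (U z) := by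
      by_cases hp : ((x * y : ↥Q) : G) ∈ P.E
      · exact hEmul _ _ (Or.inl hp)
      exact hind _ z hp hz (by rw [hzR]; exact hvp hp)
    rw [mul_assoc, hxyz.1, hxyz.2, u1, z1, map_add] at hxy
    refine ⟨by linear_combination -hxy.1, ?_⟩
    have h11 : U (x * y) = U x + U y := by linear_combination -hxy.1
    rw [h11] at hxy
    linear_combination -hxy.2
  -- bijectivity
  have hinj : Function.Injective Ψ := by
    intro x y h
    have h' : (U x, Z x) = (U y, Z y) := congrArg Subtype.val h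
    obtain ⟨hu, hz⟩ := Prod.mk.inj h'
    by_cases hx : (x : G) ∈ P.E
    · obtain ⟨c, hc⟩ := exists_ι (L := L) hx
      have hy : (y : G) ∈ P.E := by
        by_contra hy
        rw [hUE x hx, hU y hy] at hu
        exact div_ne_zero one_ne_zero (hφne _ (hRne y hy)) hu.symm
      obtain ⟨d, hd⟩ := exists_ι (L := L) hy
      rw [hZE x c hc.symm, hZE y d hd.symm] at hz
      exact Subtype.ext (by rw [← hc, ← hd, j.injective hz])
    · have hy : (y : G) ∉ P.E := fun hy => by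
        rw [hUE y hy, hU x hx] at hu
        exact div_ne_zero one_ne_zero (hφne _ (hRne x hx)) hu
      rw [hU x hx, hU y hy, one_div, one_div, inv_inj] at hu
      have hR : R.R x = R.R y := hbij.1 (φ.injective hu)
      rw [hZ x hx, hZ y hy, hR, div_left_inj' (hene _ (hRne y hy))] at hz
      exact Subtype.ext ((R.bij _ _ (R.det _ x.2 hx)).unique ⟨⟨x.2, hx⟩, rfl, rfl⟩
        ⟨⟨y.2, hy⟩, (hbij.1 hz).symm, hR.symm⟩)
  have hsurj : Function.Surjective Ψ := by
    rintro ⟨⟨u, z⟩, huz⟩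
    suffices ∃ x : ↥Q, U x = u ∧ Z x = z by
      obtain ⟨x, h1, h3⟩ := this
      exact ⟨x, Subtype.ext (Prod.ext h1 h3)⟩
    have huz' : z + φ z = u * φ u := by rw [hφ, hφ]; exact huz
    obtain ⟨x₀, hx₀⟩ : ∃ x : ↥Q, U x = u := by
      by_cases hu : u = 0
      · exact ⟨1, by rw [hUE _ (one_mem _), hu]⟩
      obtain ⟨w, hw⟩ := hbij.2 u
      have hw0 : w ≠ 0 := fun h => hu (by rw [← hw, h, he0])
      have hNw := haniso w hw0
      have hv0 : (normForm α γ w)⁻¹ • w ≠ 0 := smul_ne_zero (inv_ne_zero hNw) hw0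
      obtain ⟨x, hx, hxR⟩ := exists_with_R R hv0
      refine ⟨x, ?_⟩
      rw [hU x hx, hxR, hesmul, map_mul, hφj, ← hw, map_inv₀, ← hN w]
      have := hene w hw0
      have := hφne w hw0
      field_simp
    obtain ⟨c, hc⟩ := hfix (z + Z x₀) (by
      rw [map_add]
      have h1 := hpt x₀
      rw [hx₀] at h1
      linear_combination huz' + h1 + (u * φ u - z - Z x₀) * h2)
    refine ⟨⟨L.ι c, P.E_le (ι_mem c)⟩ * x₀, ?_⟩
    obtain ⟨h1, h3⟩ := hιmul c x₀ (⟨L.ι c, P.E_le (ι_mem c)⟩ * x₀) (Subgroup.coe_mul _ _ _)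
    refine ⟨h1.trans hx₀, h3.trans ?_⟩
    linear_combination -hc + (Z x₀) * h2
  refine ⟨K2, instF, instT, hcard, Ψ, ⟨hinj, hsurj⟩, fun x y => ?_, fun x hx => ?_⟩
  · show U (x * y) = U x + U y ∧ Z (x * y) = Z x + Z y + U x * U y ^ _
    rw [← hφ]; exact hlaw x y
  · show Z x ≠ 0 ∧ U ⟨P.g x, P.g_mem _⟩ = U x / Z x ^ _ ∧ Z ⟨P.g x, P.g_mem _⟩ = 1 / Z x
    rw [← hφ]
    have hx1 : (x : G) ≠ 1 := fun h => hx (Subtype.ext h)
    by_cases hxE : (x : G) ∈ P.E
    · obtain ⟨c, hc⟩ := exists_ι (L := L) hxE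
      have hc0 : c ≠ 0 := fun h => hx1 (by rw [← hc, h, ι_zero])
      have hg : ((⟨P.g x, P.g_mem _⟩ : ↥Q) : G) = L.ι c⁻¹ := by
        show P.g (x : G) = _
        rw [← hc, L.g_ι c hc0]
      rw [hZE x c hc.symm, hUE x hxE, hUE _ (hg.symm ▸ ι_mem _), hZE _ _ hg, map_inv₀, one_div]
      exact ⟨(map_ne_zero j).2 hc0, (zero_div _).symm, rfl⟩
    · have hg := R.g_mem _ x.2 hxE
      obtain ⟨hT, hR⟩ := R.rows_g _ x.2 hxE
      rw [hZ x hxE, hU x hxE, hU ⟨P.g x, P.g_mem _⟩ hg, hZ ⟨P.g x, P.g_mem _⟩ hg]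
      simp only [hT, hR]
      have := hene _ (hRne x hxE)
      have := hene _ (hTne x hxE)
      have := hφne _ (hRne x hxE)
      have := hφne _ (hTne x hxE)
      refine ⟨div_ne_zero ‹_› ‹_›, ?_, ?_⟩
      · rw [map_div₀]
        field_simp
      · field_simp

end CfsgLib.SuzukiThm
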