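import Cfsg.Agent.SuzukiTheorem.UnitalBridge

/-!
# The unitary model group
-/

set_option autoImplicit false

namespace CfsgLib.SuzukiThm

/-- The model group over a field with `2 ^ (2 p)` elements is `PSU₃(2 ^ p)`. -/
theorem Unitary.exists_psu_equiv {F : Type} [Field F] [Fintype F] (p : ℕ) (hp : 2 ≤ p)
    (hF : Fintype.card F = (2 ^ p) ^ 2) :
    Nonempty (↥(Unitary.modelGroup F (2 ^ p)) ≃* Cfsg.PSU 3 F (2 ^ p)) :=
  Unitary.nonempty_modelGroup_equiv hp hF

end CfsgLib.SuzukiThm
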