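import Cfsg.Agent.SuzukiTheorem.Frame
import Cfsg.Agent.SuzukiTheorem.UnitaryModel

/-!
# The unitary case: from coordinates on `Q` to `PSU₃(q)`
-/

set_option autoImplicit false
set_option linter.unusedSectionVars false

namespace CfsgLib.SuzukiThm

open CfsgLib

universe u v

variable {G : Type u} {Ω : Type v} [Group G] [MulAction G Ω] [Finite G] {a : Ω} {t : G} {Q : Subgroup G}

/-- `K` lies in every subgroup containing `Q` and `t`. -/
theorem Frame.K_le_of_le (P : Frame a t Q) {L : Subgroup G} (hQ : Q ≤ L) (ht : t ∈ L) : P.K ≤ L := by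
  intro k hk
  -- `h x` lies in `L`
  have hh : ∀ x ∈ Q, x ≠ 1 → P.h x ∈ L := fun x hx hx1 => by
    rw [show P.h x = (P.g x)⁻¹ * (t * x * t) * (P.f x)⁻¹ * t⁻¹ by rw [P.eq_txt hx hx1]; group]
    exact mul_mem (mul_mem (mul_mem (inv_mem (hQ (P.g_mem x))) (mul_mem (mul_mem ht (hQ hx)) ht))
      (inv_mem (hQ (P.f_mem x)))) (inv_mem ht)
  have h2 : k * k ∈ L := by
    have hxQ : k⁻¹ * P.s * k⁻¹⁻¹ ∈ Q := RankOne.D_norm_Q P.hS (inv_mem (P.K_le hk)) P.s_mem_Q
    have hx1 : k⁻¹ * P.s * k⁻¹⁻¹ ≠ 1 := fun h => P.s_ne_one (by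
      rw [show P.s = k * (k⁻¹ * P.s * k⁻¹⁻¹) * k⁻¹ by group, h]; group)
    have h := hh _ hxQ hx1
    rwa [(P.parts_E (inv_mem hk)).2.1, inv_inv] at h
  -- squaring is onto on the group of odd order
  obtain ⟨m, hm⟩ := P.odd_card_K
  have h1 : k ^ Nat.card P.K = 1 := by
    have h := congrArg Subtype.val (pow_card_eq_one' (G := P.K) (x := ⟨k, hk⟩))
    exact h
  have e : k = (k * k) ^ (m + 1) := by
    calc k = k * k ^ Nat.card P.K := by rw [h1, mul_one]
      _ = k ^ (2 * (m + 1)) := by rw [← pow_succ', hm]; congr 1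
      _ = _ := by rw [pow_mul, sq]
  rw [e]
  exact pow_mem h2 _

/-- `⟨Q, t⟩` is normal of odd index. -/
theorem Frame.closure_normal_odd (P : Frame a t Q) :
    (Subgroup.closure ((Q : Set G) ∪ {t})).Normal ∧
      Odd (Subgroup.closure ((Q : Set G) ∪ {t})).index := by
  set L := Subgroup.closure ((Q : Set G) ∪ {t})
  have hQ : Q ≤ L := fun x hx => Subgroup.subset_closure (Or.inl hx)
  have ht : t ∈ L := Subgroup.subset_closure (Or.inr rfl)
  refine P.normal_odd_index hQ ht fun d hd x hx => ?_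
  have hdt : d * t * d⁻¹ ∈ L := by
    obtain ⟨v, hv, k, hk, htv, rfl⟩ := P.exists_K_mul hd
    have htk : t * k⁻¹ * t = k := by rw [P.t_conj_K (inv_mem hk), inv_inv]
    have hvt : t * v⁻¹ * t = v⁻¹ := by
      calc t * v⁻¹ * t = (t⁻¹ * v * t⁻¹)⁻¹ := by group
        _ = (t * v * t)⁻¹ := by rw [P.tinv]
        _ = _ := by rw [htv, mul_assoc, P.tt, mul_one]
    have e : v * k * t * (v * k)⁻¹ = v * (k * k) * v⁻¹ * t := by
      calc v * k * t * (v * k)⁻¹ = v * k * (t * k⁻¹ * (t * t) * v⁻¹ * t) * t := by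
            rw [P.tt]; simp only [mul_inv_rev, mul_one, mul_assoc, P.tt]
        _ = v * k * ((t * k⁻¹ * t) * (t * v⁻¹ * t)) * t := by group
        _ = _ := by rw [htk, hvt]; group
    rw [e]
    exact mul_mem (P.K_le_of_le hQ ht (P.K_normal v hv _ (mul_mem hk hk))) ht
  have hmap : L ≤ L.comap (MulAut.conj d).toMonoidHom := by
    rw [Subgroup.closure_le]
    rintro y (hy | hy)
    · exact hQ (RankOne.D_norm_Q P.hS hd hy)
    · rw [Set.mem_singleton_iff] at hy; subst hy; exact hdt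
  exact hmap hx

/-- **The unitary case.** -/
theorem psu_of_coords [FaithfulSMul G Ω] (P : Frame a t Q) {K2 : Type} [Field K2] [Fintype K2]
    (hK : Fintype.card K2 = P.q ^ 2) (Ψ : ↥Q → Unitary.QPt K2 P.q) (hbij : Function.Bijective Ψ)
    (hmul : ∀ x y : ↥Q, (Ψ (x * y)).1.1 = (Ψ x).1.1 + (Ψ y).1.1 ∧
      (Ψ (x * y)).1.2 = (Ψ x).1.2 + (Ψ y).1.2 + (Ψ x).1.1 * (Ψ y).1.1 ^ P.q)
    (hg : ∀ x : ↥Q, x ≠ 1 → (Ψ x).1.2 ≠ 0 ∧
      (Ψ ⟨P.g x, P.g_mem _⟩).1.1 = (Ψ x).1.1 / (Ψ x).1.2 ^ P.q ∧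
      (Ψ ⟨P.g x, P.g_mem _⟩).1.2 = 1 / (Ψ x).1.2) :
    ∃ L : Subgroup G, L.Normal ∧ Odd L.index ∧
      ∃ (F : Type) (_ : Field F) (_ : Fintype F) (n : ℕ), 2 ≤ n ∧ Fintype.card F = (2 ^ n) ^ 2 ∧
        Nonempty (L ≃* Cfsg.PSU 3 F (2 ^ n)) := by
  obtain ⟨hnorm, hodd⟩ := P.closure_normal_odd
  refine ⟨_, hnorm, hodd, K2, inferInstance, inferInstance, ?_⟩
  obtain ⟨n, hn, hq⟩ := P.exists_q_eq
  refine ⟨n, hn, by rw [hK, hq], ?_⟩
  -- the points
  let ψ : ↥Q ≃ Unitary.QPt K2 P.q := Equiv.ofBijective Ψ hbij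
  let e : Unitary.Pt K2 P.q ≃ Ω :=
    (Equiv.optionCongr ψ.symm).trans (RankOne.optionEquiv P.hS)
  let φ : G →* Equiv.Perm (Unitary.Pt K2 P.q) :=
    (Equiv.permCongrHom e.symm).toMonoidHom.comp (MulAction.toPermHom G Ω)
  have hφinj : Function.Injective φ := by
    intro g g' h
    have h' : MulAction.toPermHom G Ω g = MulAction.toPermHom G Ω g' :=
      (Equiv.permCongrHom e.symm).injective h
    exact eq_of_smul_eq_smul fun x : Ω => Equiv.congr_fun h' x
  have hφ : ∀ g x, φ g x = e.symm (g • e x) := fun g x => rfl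
  have enone : e none = a := rfl
  have esome : ∀ x : ↥Q, e (some (Ψ x)) = (x : G) • t • a := fun x => by
    show RankOne.optionEquiv P.hS (some (ψ.symm (ψ x))) = _
    rw [Equiv.symm_apply_apply]
    rfl
  have h0 : (Ψ 1).1.1 = 0 ∧ (Ψ 1).1.2 = 0 := by
    obtain ⟨h1, h2⟩ := hmul 1 1
    rw [one_mul] at h1 h2
    have hu : (Ψ 1).1.1 = 0 := by linear_combination -h1
    rw [hu, zero_mul, add_zero] at h2
    exact ⟨hu, by linear_combination -h2⟩
  have htransl : ∀ x : ↥Q, Unitary.IsTransl (φ x) (Ψ x).1.1 (Ψ x).1.2 := by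
    intro x
    refine ⟨?_, fun y => ?_⟩
    · rw [hφ, Equiv.symm_apply_eq, enone]
      exact RankOne.Q_smul_a P.hS x.2
    · obtain ⟨y, rfl⟩ := hbij.2 y
      refine ⟨Ψ (x * y), ?_, (hmul x y).1, (hmul x y).2⟩
      rw [hφ, Equiv.symm_apply_eq, esome, esome, ← mul_smul]
      rfl
  have htau : Unitary.IsTau (φ t) := by
    refine ⟨fun y hy => ?_, fun y hy => ?_⟩
    · obtain ⟨y, rfl⟩ := hbij.2 y
      obtain rfl : y = 1 := by
        by_contra h
        exact (hg y h).1 hy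
      constructor
      · rw [hφ, Equiv.symm_apply_eq, esome, enone, OneMemClass.coe_one, one_smul]
        exact RankOne.t_ta P.hS
      · rw [hφ, Equiv.symm_apply_eq, esome, enone, OneMemClass.coe_one, one_smul]
    · obtain ⟨y, rfl⟩ := hbij.2 y
      have hy1 : y ≠ 1 := fun h => hy (h ▸ h0.2)
      refine ⟨Ψ ⟨P.g y, P.g_mem _⟩, ?_, (hg y hy1).2.1, (hg y hy1).2.2⟩
      rw [hφ, Equiv.symm_apply_eq, esome, esome]
      exact P.t_smul y.2 fun h => hy1 (Subtype.ext h)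
  have huniq : ∀ {u z : K2} {f f' : Equiv.Perm (Unitary.Pt K2 P.q)},
      Unitary.IsTransl f u z → Unitary.IsTransl f' u z → f = f' := by
    intro u z f f' h h'
    refine Equiv.ext fun x => ?_
    cases x with
    | none => rw [h.1, h'.1]
    | some x =>
      obtain ⟨y, e1, e2, e3⟩ := h.2 x
      obtain ⟨y', e1', e2', e3'⟩ := h'.2 x
      rw [e1, e1']
      exact congrArg some (Subtype.ext (Prod.ext (e2.trans e2'.symm) (e3.trans e3'.symm)))
  have huniq' : ∀ {f f' : Equiv.Perm (Unitary.Pt K2 P.q)},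
      Unitary.IsTau f → Unitary.IsTau f' → f = f' := by
    intro f f' h h'
    refine Equiv.ext fun x => ?_
    cases x with
    | none => exact (h.1 (Ψ 1) h0.2).2.trans (h'.1 (Ψ 1) h0.2).2.symm
    | some x =>
      by_cases hx : x.1.2 = 0
      · exact (h.1 x hx).1.trans (h'.1 x hx).1.symm
      · obtain ⟨y, e1, e2, e3⟩ := h.2 x hx
        obtain ⟨y', e1', e2', e3'⟩ := h'.2 x hx
        rw [e1, e1']
        exact congrArg some (Subtype.ext (Prod.ext (e2.trans e2'.symm) (e3.trans e3'.symm)))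
  have himage : (Subgroup.closure ((Q : Set G) ∪ {t})).map φ = Unitary.modelGroup K2 P.q := by
    rw [MonoidHom.map_closure, Unitary.modelGroup]
    congr 1
    refine Set.Subset.antisymm ?_ ?_
    · rintro _ ⟨g, hg' | hg', rfl⟩
      · exact Or.inl ⟨_, _, (Ψ ⟨g, hg'⟩).2, htransl ⟨g, hg'⟩⟩
      · rw [Set.mem_singleton_iff] at hg'; subst hg'; exact Or.inr htau
    · rintro f (⟨u, z, huz, hf⟩ | hf)
      · obtain ⟨x, hx⟩ := hbij.2 ⟨(u, z), huz⟩
        refine ⟨x, Or.inl x.2, huniq ?_ hf⟩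
        have h := htransl x
        rw [hx] at h
        exact h
      · exact ⟨t, Or.inr rfl, huniq' htau hf⟩
  have key : ∀ q : ℕ, q = 2 ^ n → Fintype.card K2 = q ^ 2 →
      Nonempty (↥(Unitary.modelGroup K2 q) ≃* Cfsg.PSU 3 K2 (2 ^ n)) := by
    rintro q rfl hc
    exact Unitary.exists_psu_equiv n hn hc
  obtain ⟨E⟩ := key P.q hq hK
  exact ⟨((Subgroup.equivMapOfInjective _ φ hφinj).trans (MulEquiv.subgroupCongr himage)).trans E⟩

end CfsgLib.SuzukiThm
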