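import Cfsg.Agent.SuzukiTheorem.LineCase
import Cfsg.Agent.SuzukiTheorem.SzCase
import Cfsg.Agent.SuzukiTheorem.UnitaryCase
import Cfsg.Agent.SuzukiTheorem.UnitaryModel
import Cfsg.Agent.SuzukiTheorem.Cases
import Cfsg.Agent.SuzukiTheorem.Split
import Cfsg.Agent.SuzukiTheorem.UnitalCoords

/-!
# Suzuki's theorem for a 2-group `Q`: assembly of the three cases
-/

set_option autoImplicit false
set_option linter.unusedSectionVars false
set_option linter.style.haveILetI false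

namespace CfsgLib.SuzukiThm

open CfsgLib

universe u v

variable {G : Type u} {Ω : Type v} [Group G] [MulAction G Ω] [Finite G] {a : Ω} {t : G}
  {Q : Subgroup G}

theorem classification_of_two_group [FaithfulSMul G Ω] (P : Frame a t Q) (hQ2 : IsPGroup 2 Q)
    (hab : (∀ x ∈ Q, ∀ y ∈ Q, x * y = y * x) → Nat.card Q = P.q) :
    ∃ L : Subgroup G, L.Normal ∧ Odd L.index ∧
      ((∃ (F : Type) (_ : Field F) (_ : Fintype F), (∃ n : ℕ, 2 ≤ n ∧ Fintype.card F = 2 ^ n) ∧
          Nonempty (L ≃* Matrix.ProjectiveSpecialLinearGroup (Fin 2) F)) ∨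
        Cfsg.Lie.IsoSuzuki L ∨
        (∃ (F : Type) (_ : Field F) (_ : Fintype F) (n : ℕ), 2 ≤ n ∧ Fintype.card F = (2 ^ n) ^ 2 ∧
          Nonempty (L ≃* Cfsg.PSU 3 F (2 ^ n)))) := by
  obtain ⟨S⟩ := exists_split P
  have hQT : ∀ z ∈ Q, z ∈ S.T := by
    intro z hz
    obtain ⟨x, hx, y, hy, rfl⟩ := S.decomp z hz
    obtain ⟨k, hk⟩ := IsPGroup.iff_orderOf.1 hQ2 ⟨y, S.O_le hy⟩
    rw [Subgroup.orderOf_mk] at hk
    have hodd : Odd (orderOf y) := S.O_odd.of_dvd_nat (Subgroup.orderOf_dvd_natCard _ hy)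
    rcases k with _ | k
    · have h1 : y = 1 := orderOf_eq_one_iff.1 (by rw [hk, pow_zero])
      rw [h1, mul_one]; exact hx
    · rw [hk] at hodd
      exact absurd hodd (Nat.not_odd_iff_even.2 (even_two.pow_of_ne_zero (by omega)))
  have hTQ : S.T = Q := le_antisymm S.T_le hQT
  have hshape := S.T_shape
  rw [hTQ] at hshape
  rcases hshape with hab' | ⟨hsq, -, h4, hnc, hcard⟩
  · have hQE : P.E = Q := Subgroup.eq_of_le_of_card_ge P.E_le (hab hab').le
    have hrr : P.r * P.r = 1 := P.E_sq (hQE.symm ▸ P.hr)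
    have hrs : P.r = P.s := by
      rcases P.r_eq_or_sq (by rw [show P.r ^ 4 = (P.r * P.r) * (P.r * P.r) by simp [pow_succ, mul_assoc], hrr, one_mul])
        with h | h
      · exact h.1
      · exact absurd (hrr.symm.trans h.1).symm P.s_ne_one
    obtain ⟨L, hL, ho, h⟩ := psl_case P hrs (hab hab')
    exact ⟨L, hL, ho, Or.inl h⟩
  rcases P.r_eq_or_sq (h4 P.r P.hr) with ⟨hrs, -⟩ | ⟨hrr, h5⟩
  · have hn : Nat.card Q = P.q ^ 3 := by
      rcases hcard with hn | hn
      · exfalso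
        have hd := line_dvd P hrs
        rw [hn] at hd
        have hq := P.four_le_q
        have h1 : P.q ^ 2 - P.q < P.q * (P.q ^ 2 - 1) := by
          obtain ⟨r, hr⟩ : ∃ r, P.q = r + 1 := ⟨P.q - 1, by omega⟩
          rw [hr, show (r + 1) ^ 2 - (r + 1) = (r + 1) * r from
            Nat.sub_eq_of_eq_add (by ring), show (r + 1) ^ 2 - 1 = r * (r + 2) from
            Nat.sub_eq_of_eq_add (by ring)]
          have : r * 1 < r * (r + 2) := Nat.mul_lt_mul_of_pos_left (by omega) (by omega)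
          exact Nat.mul_lt_mul_of_pos_left (by omega) (by omega)
        have h2 : 0 < P.q ^ 2 - P.q := by
          have : P.q * 1 < P.q * P.q := Nat.mul_lt_mul_of_pos_left (by omega) (by omega)
          rw [pow_two]; omega
        exact absurd (Nat.le_of_dvd h2 hd) (by omega)
      · exact hn
    obtain ⟨F, _, _, _, hF, ⟨L⟩⟩ := exists_lineData P hrs
    obtain ⟨R⟩ := exists_rowData P hrs L (by rw [hn, hF])
    obtain ⟨K2, _, _, hK, hΨ⟩ := unital_coords P L R hsq (by rw [hn, hF])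
    rw [hF] at hK hΨ
    obtain ⟨Ψ, hbij, hmul, hg⟩ := hΨ
    obtain ⟨M, hM, ho, h⟩ := psu_of_coords P hK Ψ hbij hmul hg
    exact ⟨M, hM, ho, Or.inr (Or.inr h)⟩
  · have hn : Nat.card Q = P.q ^ 2 :=
      hcard.resolve_right (P.card_ne_cube hrr h5)
    obtain ⟨L, hL, ho, h⟩ := suzuki_case P hQ2 hsq hn
      (fun h => P.s_ne_one (hrr.symm.trans (P.E_sq h))) hnc
    exact ⟨L, hL, ho, Or.inr (Or.inl h)⟩

end CfsgLib.SuzukiThm
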