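import Cfsg.Agent.SuzukiTheorem.Family

/-!
# Masses of the regular pairs, and the two shapes of the stabilisers
-/

set_option autoImplicit false
set_option linter.unusedSectionVars false
set_option linter.style.haveILetI false

namespace CfsgLib.SuzukiThm

open Cfsg CfsgLib CfsgLib.Characters
open scoped Classical

universe u v

variable {G : Type u} {Ω : Type v} [Group G] [MulAction G Ω] [Finite G] {a : Ω} {t : G} {Q : Subgroup G}
  {P : Frame a t Q}

namespace Split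

variable (S : Split P)

/-- The stabiliser in `D` of a character of `T`. -/
noncomputable def stabT (π : Cfsg.IrrCharacter ↥S.T) : Subgroup ↥(pairD G a t) where
  carrier := {d | irrConj (S.autT d) π = π}
  one_mem' := by show irrConj (S.autT 1) π = π; rw [map_one]; rfl
  mul_mem' := fun {c d} hc hd => by
    show irrConj (S.autT (c * d)) π = π
    rw [map_mul, ← irrConj_irrConj, hc, hd]
  inv_mem' := fun {d} hd => by
    show irrConj (S.autT d⁻¹) π = π
    conv_lhs => rw [← hd]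
    rw [irrConj_irrConj, ← map_mul, mul_inv_cancel, map_one]
    rfl

/-- Most of the mass of a `D`-invariant set containing `1` is regular. -/
theorem reg_mass (hS : S.Stabs) {ψ : Cfsg.IrrCharacter ↥S.O} (hψ : ψ ≠ irrOne)
    (C : Finset (Cfsg.IrrCharacter ↥S.T)) (h1 : irrOne ∈ C)
    (hC : ∀ c : ↥(pairD G a t), ∀ π ∈ C, irrConj (S.autT c) π ∈ C) (M : ℝ)
    (hM : ∑ π ∈ C, (π.1 1).re ^ 2 = M) (hMq : (P.q : ℝ) ≤ M) :
    M * ((P.q : ℝ) - 2) ≤ (P.q : ℝ) * ∑ π ∈ C.filter (fun π => S.Reg π ψ), (π.1 1).re ^ 2 := by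
  have hq : (4 : ℝ) ≤ P.q := by exact_mod_cast P.four_le_q
  have hone : ((irrOne : Cfsg.IrrCharacter ↥S.T).1 1).re ^ 2 = 1 := by simp [irrOne]
  have hsplit := Finset.sum_filter_add_sum_filter_not C (fun π => S.Reg π ψ) (fun π => (π.1 1).re ^ 2)
  rw [hM] at hsplit
  by_cases hstab : ∀ d ∈ S.stabO ψ, d = 1
  · have : C.filter (fun π => S.Reg π ψ) = C :=
      Finset.filter_true_of_mem fun π _ d _ hd => hstab d hd
    rw [this, hM]
    nlinarith
  push Not at hstab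
  obtain ⟨d₀, hd₀, hd₀1⟩ := hstab
  obtain ⟨hfpf, hgen⟩ := hS ψ hψ d₀ hd₀ hd₀1
  set A := C.erase irrOne with hA
  have hAsum : ∑ π ∈ A, (π.1 1).re ^ 2 = M - 1 := by
    rw [hA, Finset.sum_erase_eq_sub h1, hM, hone]
  have hfix := S.fixed_mass hfpf A (fun π hπ => Finset.ne_of_mem_erase hπ) (fun c π hπ =>
    Finset.mem_erase.2 ⟨fun e => Finset.ne_of_mem_erase hπ ((irrConj_eq_one_iff _ _).1 e),
      hC c π (Finset.mem_of_mem_erase hπ)⟩)
  rw [hAsum] at hfix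
  set F := ∑ π ∈ A.filter (fun π => irrConj (S.autT d₀) π = π), (π.1 1).re ^ 2 with hF
  have hnon : ∑ π ∈ C.filter (fun π => ¬ S.Reg π ψ), (π.1 1).re ^ 2 ≤ 1 + F := by
    have hsub : C.filter (fun π => ¬ S.Reg π ψ) ⊆
        insert irrOne (A.filter (fun π => irrConj (S.autT d₀) π = π)) := by
      intro π hπ
      obtain ⟨hπC, hπr⟩ := Finset.mem_filter.1 hπ
      simp only [Reg, not_forall] at hπr
      obtain ⟨d, hdT, hdO, hd1⟩ := hπr
      by_cases e : π = irrOne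
      · exact Finset.mem_insert.2 (Or.inl e)
      refine Finset.mem_insert.2 (Or.inr (Finset.mem_filter.2 ⟨Finset.mem_erase.2 ⟨e, hπC⟩, ?_⟩))
      obtain ⟨i, hi⟩ := Subgroup.mem_zpowers_iff.1 (hgen d hdO hd1)
      exact hi ▸ (S.stabT π).zpow_mem hdT i
    refine (Finset.sum_le_sum_of_subset_of_nonneg hsub fun _ _ _ => sq_nonneg _).trans (le_of_eq ?_)
    rw [Finset.sum_insert (fun h => Finset.ne_of_mem_erase (Finset.mem_filter.1 h).1 rfl), hone]
  set R := ∑ π ∈ C.filter (fun π => S.Reg π ψ), (π.1 1).re ^ 2 with hR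
  have hR1 : M - 1 - F ≤ R := by linarith
  have e1 : ((P.q : ℝ) - 1) * ((P.q : ℝ) * (M - 1 - F)) ≤ ((P.q : ℝ) - 1) * ((P.q : ℝ) * R) :=
    mul_le_mul_of_nonneg_left (mul_le_mul_of_nonneg_left hR1 (by linarith)) (by linarith)
  have e2 : (P.q : ℝ) * (((P.q : ℝ) - 1) * F) ≤ (P.q : ℝ) * (M - 1) :=
    mul_le_mul_of_nonneg_left hfix (by linarith)
  have e3 : ((P.q : ℝ) - 2) * P.q ≤ ((P.q : ℝ) - 2) * M := mul_le_mul_of_nonneg_left hMq (by linarith)
  refine le_of_mul_le_mul_left ?_ (show (0 : ℝ) < (P.q : ℝ) - 1 by linarith)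
  nlinarith

theorem sum_irr_T : ∑ π : Cfsg.IrrCharacter ↥S.T, (π.1 1).re ^ 2 = (Nat.card ↥S.T : ℝ) := sum_re_sq_degree

/-- The regular mass at `ψ`. -/
theorem reg_mass_univ (hS : S.Stabs) {ψ : Cfsg.IrrCharacter ↥S.O} (hψ : ψ ≠ irrOne) :
    (Nat.card ↥S.T : ℝ) * ((P.q : ℝ) - 2) ≤
      (P.q : ℝ) * ∑ π ∈ Finset.univ.filter (fun π => S.Reg π ψ), (π.1 1).re ^ 2 :=
  S.reg_mass hS hψ Finset.univ (Finset.mem_univ _) (fun _ _ _ => Finset.mem_univ _) _ S.sum_irr_T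
    (by
      have h : P.q ≤ Nat.card ↥S.T := Subgroup.card_le_of_le S.E_le_T
      exact_mod_cast h)

/-- The number of characters of `T` trivial on `E`. -/
theorem card_trivT (hcomm : ∀ x ∈ S.T, ∀ y ∈ S.T, x * y * x⁻¹ * y⁻¹ ∈ P.E) :
    (Finset.univ.filter fun π => S.TrivT π).card * P.q = Nat.card ↥S.T ∧ ∀ π, S.TrivT π → π.1 1 = 1 := by
  set N : Subgroup ↥S.T := P.E.subgroupOf S.T with hN
  haveI : N.Normal := ⟨fun x hx y => by
    have hy := P.E_central (x := (x : G)) hx (S.T_le y.2)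
    show (y : G) * x * (y : G)⁻¹ ∈ P.E
    rwa [← hy, mul_inv_cancel_right]⟩
  have hc : ∀ x y : ↥S.T, x * y * x⁻¹ * y⁻¹ ∈ N := fun x y => hcomm x x.2 y y.2
  refine ⟨?_, fun π h => linear_of_trivial N hc π fun z hz => h z hz⟩
  rw [show (Finset.univ.filter fun π => S.TrivT π) =
    Finset.univ.filter (fun χ : Cfsg.IrrCharacter ↥S.T => ∀ z ∈ N, χ.1 z = χ.1 1) from
      Finset.filter_congr fun π _ => Iff.rfl, card_trivial N hc, mul_comm]
  conv_rhs => rw [← N.card_mul_index]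
  rw [Nat.card_congr (Subgroup.subgroupOfEquivOfLe S.E_le_T).toEquiv]
  rfl

/-- The regular characters trivial on `E`. -/
theorem reg_count (hS : S.Stabs) {ψ : Cfsg.IrrCharacter ↥S.O} (hψ : ψ ≠ irrOne)
    (hlin : ∀ π, S.TrivT π → π.1 1 = 1) (hq : P.q ≤ (Finset.univ.filter fun π => S.TrivT π).card) :
    ((Finset.univ.filter fun π => S.TrivT π).card : ℝ) * ((P.q : ℝ) - 2) ≤
      (P.q : ℝ) * (Finset.univ.filter fun π => S.TrivT π ∧ S.Reg π ψ).card := by
  have h := S.reg_mass hS hψ (Finset.univ.filter fun π => S.TrivT π)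
    (Finset.mem_filter.2 ⟨Finset.mem_univ _, S.trivT_one⟩)
    (fun c π hπ => Finset.mem_filter.2 ⟨Finset.mem_univ _, S.trivT_conj (Finset.mem_filter.1 hπ).2 c⟩)
    _ rfl (by
      rw [Finset.sum_congr rfl (g := fun _ => (1 : ℝ)) (fun π hπ => by
        rw [hlin π (Finset.mem_filter.1 hπ).2]; norm_num), Finset.sum_const, nsmul_one]
      exact_mod_cast hq)
  rw [Finset.filter_filter] at h
  rw [Finset.sum_congr rfl (g := fun _ => (1 : ℝ)) (fun π hπ => by
      rw [hlin π (Finset.mem_filter.1 hπ).2]; norm_num),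
    Finset.sum_congr (s₁ := Finset.univ.filter fun π => S.TrivT π ∧ S.Reg π ψ) rfl (g := fun _ => (1 : ℝ))
      (fun π hπ => by rw [hlin π (Finset.mem_filter.1 hπ).2.1]; norm_num),
    Finset.sum_const, Finset.sum_const, nsmul_one, nsmul_one] at h
  exact h

/-- The degrees of the non-principal characters of `O`. -/
theorem sum_O : ∑ ψ ∈ Finset.univ.filter (fun ψ : Cfsg.IrrCharacter ↥S.O => ψ ≠ irrOne), (ψ.1 1).re ^ 2 =
    (Nat.card ↥S.O : ℝ) - 1 := by
  rw [Finset.filter_ne', Finset.sum_erase_eq_sub (Finset.mem_univ _), sum_re_sq_degree]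
  simp [irrOne]

/-- `K` moves a non-trivial element of `O` to `q - 1` others. -/
theorem q_le_card_O (hO : S.O ≠ ⊥) : P.q ≤ Nat.card ↥S.O := by
  obtain ⟨x, hx, hxne'⟩ := S.O.bot_or_exists_ne_one.resolve_left hO
  let f : Option ↥P.K → ↥S.O := fun o => match o with
    | none => 1
    | some k => ⟨k * x * (k : G)⁻¹, S.O_conj (P.K_le k.2) hx⟩
  have hxne : x ≠ 1 := hxne'
  have hne : ∀ k : ↥P.K, (k : G) * x * (k : G)⁻¹ ≠ 1 := fun k h => hxne (by
    rw [show x = (k : G)⁻¹ * ((k : G) * x * (k : G)⁻¹) * k by group, h]; group)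
  have hf : Function.Injective f := by
    rintro (_ | k) (_ | l) h
    · rfl
    · exact absurd (congrArg Subtype.val h).symm (hne l)
    · exact absurd (congrArg Subtype.val h) (hne k)
    · exact congrArg some (Subtype.ext (P.conj_K_injective k.2 l.2 (S.O_le hx) hxne
        (congrArg Subtype.val h)))
  have h := Nat.card_le_card_of_injective f hf
  rwa [Finite.card_option, P.card_K_add_one] at h

theorem O_ne_bot (hQ : ¬ IsPGroup 2 Q) : S.O ≠ ⊥ := fun h => hQ fun z => by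
  obtain ⟨x, hx, y, hy, e⟩ := S.decomp z z.2
  rw [h, Subgroup.mem_bot] at hy
  obtain ⟨i, hi⟩ := S.T_two ⟨x, hx⟩
  exact ⟨i, Subtype.ext (by rw [SubmonoidClass.coe_pow, e, hy, mul_one]; exact congrArg Subtype.val hi)⟩

/-- An element fixed-point-free on `O` fixes only the principal character. -/
theorem eq_one_of_O_fixed {d : ↥(pairD G a t)}
    (hd : ∀ x ∈ Q, Odd (orderOf x) → (d : G) * x = x * d → x = 1) {ψ : Cfsg.IrrCharacter ↥S.O}
    (h : d ∈ S.stabO ψ) : ψ = irrOne :=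
  Subtype.ext (irr_eq_one_of_fixed (S.autO d) (fun x hx => by
    have hx' : (d : G) * x * (d : G)⁻¹ = x := congrArg Subtype.val hx
    obtain ⟨hxQ, hodd⟩ := S.mem_O_iff.1 x.2
    exact Subtype.ext (hd x hxQ hodd (mul_inv_eq_iff_eq_mul.1 hx'))) ψ (congrArg Subtype.val h))

/-- First shape: the stabilisers are trivial. -/
theorem stab_trivial (hfpf : ∀ d ∈ pairD G a t, d ≠ 1 → ∀ x ∈ Q, Odd (orderOf x) → d * x = x * d → x = 1)
    {ψ : Cfsg.IrrCharacter ↥S.O} (hψ : ψ ≠ irrOne) {d : ↥(pairD G a t)} (hd : d ∈ S.stabO ψ) : d = 1 := by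
  by_contra h
  exact hψ (S.eq_one_of_O_fixed (hfpf d d.2 (fun e => h (Subtype.ext e))) hd)

variable [FaithfulSMul G Ω]

theorem stab_M (hIH : IH.{u, v} (Nat.card G)) {ψ : Cfsg.IrrCharacter ↥S.O} (hψ : ψ ≠ irrOne)
    {d : ↥(pairD G a t)} (hd : d ∈ S.stabO ψ) (hM : (d : G) ∈ P.M) : d = 1 := by
  by_contra h
  obtain ⟨k, hk, hk1⟩ := P.exists_ne_one_K
  exact hψ (S.eq_one_of_O_fixed (fun x hx hodd hdx => P.fpf_on_odd hIH d.2 (fun e => h (Subtype.ext e)) hk hk1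
    ((P.mem_M_iff.1 hM).2 k hk) hx hodd hdx) hd)

end Split

namespace Twist

variable {w : G} {p : ℕ} [FaithfulSMul G Ω]

theorem exists_inv (W : Twist P w p) {j : ℕ} (hj : ¬ p ∣ j) : ∃ x : ℕ, w ^ (j * x) = w := by
  obtain ⟨x, -, hx⟩ := Nat.exists_mul_mod_eq_one_of_coprime (W.prime.coprime_iff_not_dvd.2 hj).symm W.prime.one_lt
  refine ⟨x, ?_⟩
  rw [← pow_mod_orderOf, W.order, hx, pow_one]

/-- No power of `v` prime to `p` centralises a non-trivial element of `K`. -/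
theorem pow_fpf (W : Twist P w p) {j : ℕ} (hj : ¬ p ∣ j) {k : G} (hk : k ∈ P.K)
    (h : w ^ j * k = k * w ^ j) : k = 1 := by
  obtain ⟨x, hx⟩ := W.exists_inv hj
  refine W.fpf k hk ?_
  have h1 := (Commute.pow_left (show Commute (w ^ j) k from h) x).eq
  rwa [← pow_mul, hx] at h1

theorem pow_not_mem_M (W : Twist P w p) {j : ℕ} (hj : ¬ p ∣ j) : w ^ j ∉ P.M := fun h => by
  obtain ⟨k, hk, hk1⟩ := P.exists_ne_one_K
  exact hk1 (W.pow_fpf hj hk ((P.mem_M_iff.1 h).2 k hk))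

theorem exists_pow (W : Twist P w p) {d : G} (hd : d ∈ pairD G a t) :
    ∃ j, j < p ∧ ∃ m ∈ P.M, d = w ^ j * m := by
  let f : Fin p × ↥P.M → ↥(pairD G a t) := fun jm =>
    ⟨w ^ (jm.1 : ℕ) * jm.2, mul_mem (pow_mem W.mem _) (P.M_le jm.2.2)⟩
  have key : ∀ i j : Fin p, ∀ m n : ↥P.M, w ^ (i : ℕ) * (m : G) = w ^ (j : ℕ) * n → (j : ℕ) ≤ i → i = j := by
    intro i j m n h hij
    by_contra hne
    have hlt : (j : ℕ) < i := lt_of_le_of_ne hij fun e => hne (Fin.ext e.symm)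
    refine W.pow_not_mem_M (j := i - j)
      (Nat.not_dvd_of_pos_of_lt (by omega) (by have := i.2; omega)) ?_
    have e : w ^ (i : ℕ) = w ^ (j : ℕ) * w ^ ((i : ℕ) - j) := by rw [← pow_add]; congr 1; omega
    rw [e, mul_assoc, mul_right_inj] at h
    rw [show w ^ ((i : ℕ) - j) = (n : G) * (m : G)⁻¹ by rw [eq_mul_inv_iff_mul_eq, h]]
    exact mul_mem n.2 (inv_mem m.2)
  have hf : Function.Injective f := by
    rintro ⟨i, m⟩ ⟨j, n⟩ h
    have h' : w ^ (i : ℕ) * (m : G) = w ^ (j : ℕ) * n := congrArg Subtype.val h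
    obtain rfl : i = j := by
      rcases le_total (j : ℕ) i with hle | hle
      · exact key i j m n h' hle
      · exact (key j i n m h'.symm hle).symm
    exact Prod.ext rfl (Subtype.ext (mul_left_cancel h'))
  have hcard : Nat.card (Fin p × ↥P.M) = Nat.card ↥(pairD G a t) := by
    rw [Nat.card_prod, Nat.card_fin, W.card_D]
  obtain ⟨⟨j, m⟩, hjm⟩ := (hf.bijective_of_nat_card_le hcard.ge).2 ⟨d, hd⟩
  exact ⟨j, j.2, m, m.2, (congrArg Subtype.val hjm).symm⟩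

theorem mul_pow_mem (W : Twist P w p) {j : ℕ} {m : G} (hm : m ∈ P.M) :
    ∀ i : ℕ, ∃ m' ∈ P.M, (w ^ j * m) ^ i = w ^ (j * i) * m' := by
  intro i
  induction i with
  | zero => exact ⟨1, one_mem _, by simp⟩
  | succ i ih =>
    obtain ⟨m', hm', e⟩ := ih
    refine ⟨(w ^ j)⁻¹ * m' * (w ^ j)⁻¹⁻¹ * m,
      mul_mem (P.M_conj (inv_mem (pow_mem W.mem j)) hm') hm, ?_⟩
    rw [pow_succ, e, Nat.mul_succ, pow_add]
    group

/-- Second shape: the stabilisers of non-principal characters of `O`. -/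
theorem stabs (W : Twist P w p) (hIH : IH.{u, v} (Nat.card G)) (S : Split P) :
    S.Stabs ∧ ∀ ψ : Cfsg.IrrCharacter ↥S.O, ψ ≠ irrOne → Nat.card ↥(S.stabO ψ) ≤ p := by
  have hM : ∀ ψ : Cfsg.IrrCharacter ↥S.O, ψ ≠ irrOne → ∀ d ∈ S.stabO ψ, ∀ d' ∈ S.stabO ψ,
      ∀ j, ∀ m ∈ P.M, ∀ m' ∈ P.M, (d : G) = w ^ j * m → (d' : G) = w ^ j * m' → d = d' := by
    intro ψ hψ d hd d' hd' j m hm m' hm' e e'
    refine inv_mul_eq_one.1 (S.stab_M hIH hψ (mul_mem (inv_mem hd) hd') ?_)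
    show (d : G)⁻¹ * d' ∈ P.M
    rw [e, e', show (w ^ j * m)⁻¹ * (w ^ j * m') = m⁻¹ * m' by group]
    exact mul_mem (inv_mem hm) hm'
  refine ⟨fun ψ hψ d hd hd1 => ?_, fun ψ hψ => ?_⟩
  · obtain ⟨j, hj, m, hm, e⟩ := W.exists_pow d.2
    have hj0 : ¬ p ∣ j := by
      intro h
      obtain rfl : j = 0 := Nat.eq_zero_of_dvd_of_lt h hj
      rw [pow_zero, one_mul] at e
      exact hd1 (S.stab_M hIH hψ hd (by rw [e]; exact hm))
    refine ⟨fun k hk h => W.pow_fpf hj0 hk ?_, fun d' hd' hd'1 => ?_⟩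
    · rw [e, mul_assoc, (P.mem_M_iff.1 hm).2 k hk, ← mul_assoc, ← mul_assoc] at h
      exact mul_right_cancel h
    obtain ⟨j', hj', m', hm', e'⟩ := W.exists_pow d'.2
    have hj'0 : ¬ p ∣ j' := by
      intro h
      obtain rfl : j' = 0 := Nat.eq_zero_of_dvd_of_lt h hj'
      rw [pow_zero, one_mul] at e'
      exact hd'1 (S.stab_M hIH hψ hd' (by rw [e']; exact hm'))
    obtain ⟨x, hx⟩ := W.exists_inv hj'0
    obtain ⟨m'', hm'', e''⟩ := W.mul_pow_mem (j := j') hm' (x * j)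
    rw [← e', ← SubmonoidClass.coe_pow, ← mul_assoc, pow_mul w, hx] at e''
    rw [hM ψ hψ d hd (d' ^ (x * j)) (pow_mem hd' _) j m hm m'' hm'' e e'']
    exact Subgroup.npow_mem_zpowers d' (x * j)
  · choose j hj m hm e using fun d : ↥(S.stabO ψ) => W.exists_pow d.1.2
    refine (Nat.card_le_card_of_injective (fun d => (⟨j d, hj d⟩ : Fin p)) fun d d' h => ?_).trans
      (Nat.card_fin p).le
    have h' : j d = j d' := congrArg Fin.val h
    exact Subtype.ext (hM ψ hψ d.1 d.2 d'.1 d'.2 (j d) _ (hm d) _ (hm d') (e d) (h' ▸ e d'))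

end Twist

end CfsgLib.SuzukiThm
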