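import Cfsg.Prelude.Def_Classical
import Mathlib

/-!
# The permutation model of `PSU₃(q)` on the Hermitian unital

The affine points are `(u, z)` with `z + z̄ = u ū`, `x̄ = x ^ q`, with one point at infinity.
-/

set_option autoImplicit false

namespace CfsgLib.SuzukiThm.Unitary

variable (F : Type) [Field F] (q : ℕ)

/-- The affine points of the unital. -/
def QPt : Type := {uz : F × F // uz.2 + uz.2 ^ q = uz.1 * uz.1 ^ q}

/-- The points of the unital. -/
abbrev Pt : Type := Option (QPt F q)

variable {F} {q}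

/-- `e` is left translation by `(u, z)`. -/
def IsTransl (e : Equiv.Perm (Pt F q)) (u z : F) : Prop :=
  e none = none ∧ ∀ x : QPt F q, ∃ y : QPt F q,
    e (some x) = some y ∧ y.1.1 = u + x.1.1 ∧ y.1.2 = z + x.1.2 + u * x.1.1 ^ q

/-- `e` exchanges the origin with the point at infinity and is `(u, z) ↦ (u / z̄, 1 / z)` elsewhere. -/
def IsTau (e : Equiv.Perm (Pt F q)) : Prop :=
  (∀ x : QPt F q, x.1.2 = 0 → e (some x) = none ∧ e none = some x) ∧
    ∀ x : QPt F q, x.1.2 ≠ 0 → ∃ y : QPt F q,
      e (some x) = some y ∧ y.1.1 = x.1.1 / x.1.2 ^ q ∧ y.1.2 = 1 / x.1.2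

variable (F) (q) in
/-- The group generated by the translations and the inversion. -/
def modelGroup : Subgroup (Equiv.Perm (Pt F q)) :=
  Subgroup.closure {e | (∃ u z : F, z + z ^ q = u * u ^ q ∧ IsTransl e u z) ∨ IsTau e}

end CfsgLib.SuzukiThm.Unitary
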