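import Mathlib

/-!
# Modules of `C_{2^p-1} : C_p` with fixed point free kernel and one-dimensional norm

`finrank_eq`: such a module has dimension `p`.  `equivariant_eq_zero`: it has no non-zero skew symmetric
equivariant multiplication, as a sum of two different powers of two is not a power of two.
-/

set_option autoImplicit false
set_option linter.unusedSectionVars false
set_option linter.style.haveILetI false

open scoped TensorProduct
open Finset

namespace CfsgLib.SuzukiThm.OddPart

theorem two_pow_add_ne {i j k : ℕ} (h : i ≠ j) : 2 ^ i + 2 ^ j ≠ 2 ^ k := by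
  wlog hij : i < j generalizing i j
  · rw [add_comm]; exact this h.symm (by omega)
  intro e
  obtain ⟨d, rfl⟩ : ∃ d, j = i + 1 + d := ⟨j - i - 1, by omega⟩
  have hlt : 2 ^ i < 2 ^ k := by rw [← e]; exact Nat.lt_add_of_pos_right (Nat.two_pow_pos _)
  obtain ⟨m, rfl⟩ : ∃ m, k = i + 1 + m :=
    ⟨k - i - 1, by have := (Nat.pow_lt_pow_iff_right (by norm_num : 1 < 2)).1 hlt; omega⟩
  simp only [pow_add, pow_one, mul_assoc] at e
  have : 2 ^ i * (1 + 2 * 2 ^ d) = 2 ^ i * (2 * 2 ^ m) := by linarith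
  have := Nat.eq_of_mul_eq_mul_left (Nat.two_pow_pos i) this
  omega

section Eigen

variable {L : Type*} [Field L] {W : Type*} [AddCommGroup W] [Module L W]

/-- Hypotheses over a field with enough roots of unity. -/
structure Eig (p : ℕ) (T U : Module.End L W) (c : W) : Prop where
  two_le : 2 ≤ p
  ne_zero : ((2 ^ p - 1 : ℕ) : L) ≠ 0
  pow_T : T ^ (2 ^ p - 1) = 1
  pow_U : U ^ p = 1
  rel : T * U = U * (T * T)
  sum_pow : ∀ i, ¬ (2 ^ p - 1) ∣ i → ∀ z : W, ∑ j ∈ range (2 ^ p - 1), (T ^ (i * j)) z = 0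
  norm_mem : ∀ z : W, ∃ a : L, ∑ i ∈ range p, (U ^ i) z = a • c

variable {p : ℕ} {T U : Module.End L W} {c : W}

/-- The unnormalised projection to the eigenvalue `μ`. -/
noncomputable def proj (n : ℕ) (T : Module.End L W) (μ : L) : Module.End L W :=
  ∑ j ∈ range n, μ⁻¹ ^ j • T ^ j

theorem pow_apply_eigen {μ : L} {e : W} (he : T e = μ • e) : ∀ j : ℕ, (T ^ j) e = μ ^ j • e := by
  intro j
  induction j with
  | zero => simp
  | succ j ih =>
    rw [pow_succ, Module.End.mul_apply, he, map_smul, ih, smul_smul, ← pow_succ']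

theorem proj_apply_eigen {n : ℕ} {μ ν : L} {e : W} (he : T e = ν • e) :
    proj n T μ e = (∑ j ∈ range n, (μ⁻¹ * ν) ^ j) • e := by
  simp only [proj, LinearMap.coe_sum, Finset.sum_apply, LinearMap.smul_apply, pow_apply_eigen he,
    smul_smul, Finset.sum_smul, mul_pow]

theorem proj_self {n : ℕ} {μ : L} {e : W} (hμ : μ ≠ 0) (he : T e = μ • e) :
    proj n T μ e = (n : L) • e := by
  rw [proj_apply_eigen he, inv_mul_cancel₀ hμ]
  simp

theorem proj_other {n : ℕ} {μ ν : L} {e : W} (hμ : μ ^ n = 1) (hν : ν ^ n = 1) (hne : μ ≠ ν)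
    (he : T e = ν • e) : proj n T μ e = 0 := by
  rcases Nat.eq_zero_or_pos n with rfl | hn
  · simp [proj]
  have hμ0 : μ ≠ 0 := fun h => by rw [h, zero_pow hn.ne'] at hμ; exact one_ne_zero hμ.symm
  have hne' : μ⁻¹ * ν ≠ 1 := fun h => hne (by rw [← mul_one μ, ← h, mul_inv_cancel_left₀ hμ0])
  rw [proj_apply_eigen he, geom_sum_eq hne', mul_pow, inv_pow, hμ, hν]
  simp

namespace Eig

variable (H : Eig p T U c)
include H

theorem three_le : 3 ≤ 2 ^ p - 1 := by
  have : 2 ^ 2 ≤ 2 ^ p := Nat.pow_le_pow_right (by norm_num) H.two_le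
  omega

theorem pow_eq_one {μ : L} {e : W} (he : T e = μ • e) (he0 : e ≠ 0) : μ ^ (2 ^ p - 1) = 1 := by
  have h := pow_apply_eigen he (2 ^ p - 1)
  rw [H.pow_T, Module.End.one_apply] at h
  exact smul_left_injective L he0 (h.symm.trans (one_smul L e).symm)

theorem primitive {μ : L} {e : W} (he : T e = μ • e) (he0 : e ≠ 0) :
    IsPrimitiveRoot μ (2 ^ p - 1) := by
  refine ⟨H.pow_eq_one he he0, fun i hi => ?_⟩
  by_contra hni
  have h := H.sum_pow i hni e
  rw [Finset.sum_congr rfl (fun j _ => pow_apply_eigen he (i * j))] at h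
  simp only [pow_mul, hi, one_pow, one_smul, sum_const, card_range] at h
  rw [← Nat.cast_smul_eq_nsmul L] at h
  exact he0 ((smul_eq_zero.1 h).resolve_left H.ne_zero)

theorem exp_le {i : ℕ} (hi : i < p) : 1 ≤ 2 ^ i ∧ 2 ^ i < 2 ^ p - 1 := by
  refine ⟨Nat.one_le_two_pow, ?_⟩
  have h1 : 2 ^ i ≤ 2 ^ (p - 1) := Nat.pow_le_pow_right (by norm_num) (by omega)
  have h2 : 2 ^ p = 2 * 2 ^ (p - 1) := by rw [← pow_succ']; congr 1; have := H.two_le; omega
  have h3 := H.three_le
  omega

theorem U_eigen {μ : L} {e : W} (he : T e = μ • e) :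
    ∀ i : ℕ, T ((U ^ i) e) = μ ^ (2 ^ i) • (U ^ i) e := by
  intro i
  induction i with
  | zero => simpa using he
  | succ i ih =>
    rw [pow_succ' U, Module.End.mul_apply, ← Module.End.mul_apply, H.rel, Module.End.mul_apply,
      Module.End.mul_apply, ih, map_smul, ih, map_smul, map_smul, smul_smul, ← pow_add, ← two_mul,
      ← pow_succ']

theorem U_ne_zero {e : W} (he0 : e ≠ 0) (i : ℕ) : (U ^ i) e ≠ 0 := fun h => he0 (by
  have h1 : ((U ^ i) ^ p) e = e := by rw [← pow_mul, mul_comm, pow_mul, H.pow_U, one_pow]; rfl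
  rw [← h1, show p = p - 1 + 1 by have := H.two_le; omega, pow_succ, Module.End.mul_apply, h, map_zero])

theorem proj_norm {μ : L} {e : W} (he : T e = μ • e) (he0 : e ≠ 0) {i : ℕ} (hi : i < p) :
    proj (2 ^ p - 1) T (μ ^ (2 ^ i)) (∑ j ∈ range p, (U ^ j) e) =
      ((2 ^ p - 1 : ℕ) : L) • (U ^ i) e := by
  have hpr := H.primitive he he0
  have hμ0 : μ ≠ 0 := hpr.ne_zero (by have := H.three_le; omega)
  rw [map_sum, Finset.sum_eq_single i]
  · exact proj_self (pow_ne_zero _ hμ0) (H.U_eigen he i)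
  · intro j hj hne
    refine proj_other ?_ ?_ (fun h => hne (Nat.pow_right_injective le_rfl ?_).symm) (H.U_eigen he j)
    · rw [← pow_mul, mul_comm, pow_mul, hpr.pow_eq_one, one_pow]
    · rw [← pow_mul, mul_comm, pow_mul, hpr.pow_eq_one, one_pow]
    · exact hpr.pow_inj (H.exp_le hi).2 (H.exp_le (mem_range.1 hj)).2 h
  · exact fun h => absurd (mem_range.2 hi) h

theorem norm_ne_zero {μ : L} {e : W} (he : T e = μ • e) (he0 : e ≠ 0) :
    ∑ j ∈ range p, (U ^ j) e ≠ 0 := by
  intro h
  have h1 := H.proj_norm he he0 (i := 0) (by have := H.two_le; omega)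
  rw [h, map_zero] at h1
  simp only [pow_zero, Module.End.one_apply] at h1
  exact he0 ((smul_eq_zero.1 h1.symm).resolve_left H.ne_zero)

/-- All eigenvalues lie in one orbit, and the eigenspaces are lines. -/
theorem orbit {μ ν : L} {e f : W} (he : T e = μ • e) (he0 : e ≠ 0) (hf : T f = ν • f) (hf0 : f ≠ 0) :
    ∃ i < p, ν = μ ^ (2 ^ i) ∧ ∃ a : L, f = a • (U ^ i) e := by
  obtain ⟨x, hx⟩ := H.norm_mem e
  obtain ⟨y, hy⟩ := H.norm_mem f
  have hx0 : x ≠ 0 := fun h => H.norm_ne_zero he he0 (by rw [hx, h, zero_smul])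
  have hy0 : y ≠ 0 := fun h => H.norm_ne_zero hf hf0 (by rw [hy, h, zero_smul])
  have hN : ∑ j ∈ range p, (U ^ j) f = (y * x⁻¹) • ∑ j ∈ range p, (U ^ j) e := by
    rw [hx, smul_smul, inv_mul_cancel_right₀ hx0, hy]
  have h1 := H.proj_norm hf hf0 (i := 0) (by have := H.two_le; omega)
  rw [hN, map_smul, map_sum] at h1
  simp only [pow_zero, pow_one, Module.End.one_apply] at h1
  by_cases hex : ∃ i < p, ν = μ ^ (2 ^ i)
  · obtain ⟨i, hi, rfl⟩ := hex
    refine ⟨i, hi, rfl, y * x⁻¹, smul_right_injective W H.ne_zero ?_⟩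
    dsimp only
    rw [← h1, ← map_sum, H.proj_norm he he0 hi, smul_comm]
  · push Not at hex
    exfalso
    rw [Finset.sum_eq_zero (fun j hj => proj_other (H.pow_eq_one hf hf0)
      (H.pow_eq_one (H.U_eigen he j) (H.U_ne_zero he0 j)) (hex j (mem_range.1 hj)) (H.U_eigen he j)),
      smul_zero] at h1
    exact hf0 ((smul_eq_zero.1 h1.symm).resolve_left H.ne_zero)

theorem mem_span_eigen {ζ : L} (hζ : IsPrimitiveRoot ζ (2 ^ p - 1)) (z : W) :
    z ∈ Submodule.span L {e : W | e ≠ 0 ∧ ∃ μ : L, T e = μ • e} := by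
  set n := 2 ^ p - 1 with hn
  have hn3 := H.three_le
  set S := Submodule.span L {e : W | e ≠ 0 ∧ ∃ μ : L, T e = μ • e}
  let P : ℕ → W := fun j => ∑ i ∈ range n, ζ ^ (j * i) • (T ^ i) z
  have hP : ∀ j, T (P j) = (ζ ^ j)⁻¹ • P j := fun j => by
    have hz0 : ζ ^ j ≠ 0 := pow_ne_zero _ (hζ.ne_zero (by omega))
    rw [eq_inv_smul_iff₀ hz0, map_sum, smul_sum]
    have hshift : ∀ g : ℕ → W, g n = g 0 → ∑ i ∈ range n, g (i + 1) = ∑ i ∈ range n, g i :=
      fun g hg => by
        have h := (sum_range_succ' g n).symm.trans (sum_range_succ g n)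
        rw [hg] at h
        exact add_right_cancel h
    refine Eq.trans (sum_congr rfl fun i _ => ?_) (hshift (fun i => ζ ^ (j * i) • (T ^ i) z) ?_)
    · rw [map_smul, smul_smul, ← Module.End.mul_apply, ← pow_succ', ← pow_add]
      congr 2
      ring
    · simp only [mul_zero, pow_zero, one_smul]
      rw [H.pow_T, mul_comm, pow_mul, hζ.pow_eq_one, one_pow, one_smul]
  have hmem : ∀ j, P j ∈ S := fun j => by
    by_cases h : P j = 0
    · rw [h]; exact zero_mem _
    · exact Submodule.subset_span ⟨h, _, hP j⟩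
  have hsum : ∑ j ∈ range n, P j = (n : L) • z := by
    simp only [P]
    rw [sum_comm, Finset.sum_eq_single 0]
    · simp [← Nat.cast_smul_eq_nsmul L]
    · intro i hi hi0
      rw [← sum_smul]
      have : (∑ j ∈ range n, ζ ^ (j * i)) = 0 := by
        simp only [mul_comm _ i, pow_mul]
        rw [geom_sum_eq (hζ.pow_ne_one_of_pos_of_lt hi0 (mem_range.1 hi)), ← pow_mul, mul_comm,
          pow_mul, hζ.pow_eq_one, one_pow, sub_self, zero_div]
      rw [this, zero_smul]
    · exact fun h => absurd (mem_range.2 (by omega)) h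
  have := S.smul_mem ((n : L)⁻¹) (hsum ▸ sum_mem fun j _ => hmem j)
  rwa [smul_smul, inv_mul_cancel₀ H.ne_zero, one_smul] at this

theorem exists_eigen {ζ : L} (hζ : IsPrimitiveRoot ζ (2 ^ p - 1)) [Nontrivial W] :
    ∃ (μ : L) (e : W), T e = μ • e ∧ e ≠ 0 := by
  obtain ⟨z, hz⟩ := exists_ne (0 : W)
  by_contra h
  push Not at h
  refine hz ((Submodule.mem_bot L).1 ?_)
  have hset : {e : W | e ≠ 0 ∧ ∃ μ : L, T e = μ • e} = ∅ :=
    Set.eq_empty_of_forall_notMem fun e he => by
      obtain ⟨he0, μ, hμ⟩ := he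
      exact he0 (h μ e hμ)
  have := H.mem_span_eigen hζ z
  rwa [hset, Submodule.span_empty] at this

theorem exists_norm_ne_zero {ζ : L} (hζ : IsPrimitiveRoot ζ (2 ^ p - 1)) [Nontrivial W] :
    ∃ z : W, ∑ i ∈ range p, (U ^ i) z ≠ 0 := by
  obtain ⟨μ, e, he, he0⟩ := H.exists_eigen hζ
  exact ⟨e, H.norm_ne_zero he he0⟩

theorem finrank_eq {ζ : L} (hζ : IsPrimitiveRoot ζ (2 ^ p - 1)) [Nontrivial W] :
    Module.finrank L W = p := by
  obtain ⟨μ, e, he, he0⟩ := H.exists_eigen hζ
  have hpr := H.primitive he he0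
  have hli : LinearIndependent L fun i : Fin p => (U ^ (i : ℕ)) e := by
    rw [Fintype.linearIndependent_iff]
    intro g hg i
    have h := congrArg (proj (2 ^ p - 1) T (μ ^ (2 ^ (i : ℕ)))) hg
    rw [map_sum, map_zero, Finset.sum_eq_single i, map_smul,
      proj_self (pow_ne_zero _ (hpr.ne_zero (by have := H.three_le; omega))) (H.U_eigen he i),
      smul_smul] at h
    · exact (mul_eq_zero.1 ((smul_eq_zero.1 h).resolve_right (H.U_ne_zero he0 _))).resolve_right
        H.ne_zero
    · intro j _ hne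
      rw [map_smul, proj_other (H.pow_eq_one (H.U_eigen he i) (H.U_ne_zero he0 _))
        (H.pow_eq_one (H.U_eigen he j) (H.U_ne_zero he0 _))
        (fun h => hne (Fin.ext (Nat.pow_right_injective le_rfl
          (hpr.pow_inj (H.exp_le i.2).2 (H.exp_le j.2).2 h)).symm)) (H.U_eigen he j), smul_zero]
    · exact fun h => absurd (mem_univ _) h
  have hspan : ⊤ ≤ Submodule.span L (Set.range fun i : Fin p => (U ^ (i : ℕ)) e) := by
    intro z _
    refine Submodule.span_le.2 ?_ (H.mem_span_eigen hζ z)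
    rintro f ⟨hf0, ν, hf⟩
    obtain ⟨i, hi, -, a, rfl⟩ := H.orbit he he0 hf hf0
    exact Submodule.smul_mem _ a (Submodule.subset_span ⟨⟨i, hi⟩, rfl⟩)
  rw [Module.finrank_eq_card_basis (Module.Basis.mk hli hspan), Fintype.card_fin]

theorem equivariant_eq_zero {ζ : L} (hζ : IsPrimitiveRoot ζ (2 ^ p - 1)) (h2 : (2 : L) ≠ 0)
    (β : W →ₗ[L] W →ₗ[L] W) (hskew : ∀ x y, β x y = -β y x)
    (heq : ∀ x y, β (T x) (T y) = T (β x y)) : β = 0 := by
  have key : ∀ e ∈ {e : W | e ≠ 0 ∧ ∃ μ : L, T e = μ • e},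
      ∀ f ∈ {e : W | e ≠ 0 ∧ ∃ μ : L, T e = μ • e}, β e f = 0 := by
    rintro e ⟨he0, μ, he⟩ f ⟨hf0, ν, hf⟩
    obtain ⟨i, hi, hν, a, hfa⟩ := H.orbit he he0 hf hf0
    have hself : β e e = 0 := by
      have h : (2 : L) • β e e = 0 := by rw [two_smul]; exact eq_neg_iff_add_eq_zero.1 (hskew e e)
      exact (smul_eq_zero.1 h).resolve_left h2
    rcases Nat.eq_zero_or_pos i with rfl | hi0
    · rw [hfa, pow_zero, Module.End.one_apply, map_smul, hself, smul_zero]
    by_contra hw
    have hw1 : T (β e f) = (μ * ν) • β e f := by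
      rw [← heq, he, hf, map_smul, map_smul, LinearMap.smul_apply, smul_smul, mul_comm]
    obtain ⟨j, hj, hμν, -⟩ := H.orbit he he0 hw1 hw
    rw [hν, ← pow_succ'] at hμν
    have hpr := H.primitive he he0
    have := (H.exp_le hi).2
    have := (H.exp_le hj).2
    have h1 := (H.exp_le hj).1
    have hne : 2 ^ i + 1 ≠ 2 ^ j := by
      have := two_pow_add_ne (k := j) hi0.ne'
      simpa using this
    rcases eq_or_lt_of_le (show 2 ^ i + 1 ≤ 2 ^ p - 1 by omega) with heq' | hlt
    · rw [heq', hpr.pow_eq_one] at hμν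
      exact hpr.pow_ne_one_of_pos_of_lt (by omega) (H.exp_le hj).2 hμν.symm
    · exact hne (hpr.pow_inj hlt (H.exp_le hj).2 hμν)
  ext x y
  refine Submodule.span_induction (p := fun x _ => β x y = 0) ?_ (by simp)
    (fun a b _ _ ha hb => by rw [map_add, LinearMap.add_apply, ha, hb, add_zero])
    (fun a b _ hb => by rw [map_smul, LinearMap.smul_apply, hb, smul_zero]) (H.mem_span_eigen hζ x)
  intro e he
  exact Submodule.span_induction (p := fun y _ => β e y = 0) (key e he) (by simp)
    (fun a b _ _ ha hb => by rw [map_add, ha, hb, add_zero])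
    (fun a b _ hb => by rw [map_smul, hb, smul_zero]) (H.mem_span_eigen hζ y)

end Eig

end Eigen

section Descent

variable {F : Type*} [Field F] {V : Type*} [AddCommGroup V] [Module F V]

/-- Hypotheses over the ground field. -/
structure Mod (p : ℕ) (T U : Module.End F V) (c : V) : Prop where
  two_le : 2 ≤ p
  ne_zero : ((2 ^ p - 1 : ℕ) : F) ≠ 0
  pow_T : T ^ (2 ^ p - 1) = 1
  pow_U : U ^ p = 1
  rel : T * U = U * (T * T)
  fpf : ∀ i, ¬ (2 ^ p - 1) ∣ i → ∀ x : V, (T ^ i) x = x → x = 0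
  norm_mem : ∀ x : V, ∃ a : F, ∑ i ∈ range p, (U ^ i) x = a • c

variable {p : ℕ} {T U : Module.End F V} {c : V}

theorem Mod.sum_pow (H : Mod p T U c) {i : ℕ} (hi : ¬ (2 ^ p - 1) ∣ i) (x : V) :
    ∑ j ∈ range (2 ^ p - 1), (T ^ (i * j)) x = 0 := by
  set n := 2 ^ p - 1
  refine H.fpf i hi _ ?_
  have h := (sum_range_succ' (fun j => (T ^ (i * j)) x) n).symm.trans (sum_range_succ _ n)
  rw [mul_zero, pow_zero, show (T ^ (i * n)) = 1 by rw [mul_comm, pow_mul, H.pow_T, one_pow],
    add_right_cancel_iff] at h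
  rw [map_sum]
  refine Eq.trans (sum_congr rfl fun j _ => ?_) h
  rw [← Module.End.mul_apply, ← pow_add, mul_add, mul_one, add_comm]

theorem Mod.exists_eig (H : Mod p T U c) : ∃ ζ : AlgebraicClosure F,
    IsPrimitiveRoot ζ (2 ^ p - 1) ∧
      Eig p (T.baseChange (AlgebraicClosure F)) (U.baseChange (AlgebraicClosure F))
        ((1 : AlgebraicClosure F) ⊗ₜ[F] c) := by
  set L := AlgebraicClosure F
  have hn : ((2 ^ p - 1 : ℕ) : L) ≠ 0 := by
    rw [← map_natCast (algebraMap F L)]; exact (map_ne_zero _).2 H.ne_zero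
  haveI : NeZero ((2 ^ p - 1 : ℕ) : L) := ⟨hn⟩
  haveI : NeZero (2 ^ p - 1 : ℕ) := ⟨fun h => hn (by rw [h, Nat.cast_zero])⟩
  obtain ⟨ζ, hζ⟩ := HasEnoughRootsOfUnity.exists_primitiveRoot L (2 ^ p - 1)
  refine ⟨ζ, hζ, ⟨H.two_le, hn, ?_, ?_, ?_, fun i hi z => ?_, fun z => ?_⟩⟩
  · rw [← LinearMap.baseChange_pow, H.pow_T, Module.End.one_eq_id, LinearMap.baseChange_id]; rfl
  · rw [← LinearMap.baseChange_pow, H.pow_U, Module.End.one_eq_id, LinearMap.baseChange_id]; rfl
  · rw [← LinearMap.baseChange_mul, ← LinearMap.baseChange_mul, ← LinearMap.baseChange_mul, H.rel]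
  · induction z using TensorProduct.induction_on with
    | zero => simp
    | tmul a x => simp only [← LinearMap.baseChange_pow, LinearMap.baseChange_tmul,
        ← TensorProduct.tmul_sum, H.sum_pow hi, TensorProduct.tmul_zero]
    | add x y hx hy => simp only [map_add, sum_add_distrib, hx, hy, add_zero]
  · induction z using TensorProduct.induction_on with
    | zero => exact ⟨0, by simp⟩
    | tmul a x =>
      obtain ⟨b, hb⟩ := H.norm_mem x
      refine ⟨algebraMap F L b * a, ?_⟩
      simp only [← LinearMap.baseChange_pow, LinearMap.baseChange_tmul, ← TensorProduct.tmul_sum, hb,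
        TensorProduct.smul_tmul', smul_eq_mul, mul_one, TensorProduct.tmul_smul]
      rw [Algebra.smul_def]
    | add x y hx hy =>
      obtain ⟨a, ha⟩ := hx
      obtain ⟨b, hb⟩ := hy
      exact ⟨a + b, by simp only [map_add, sum_add_distrib, ha, hb, add_smul]⟩

/-- A non-trivial module has dimension `p`. -/
theorem Mod.finrank_eq [Nontrivial V] [FiniteDimensional F V] (H : Mod p T U c) :
    Module.finrank F V = p := by
  obtain ⟨ζ, hζ, E⟩ := H.exists_eig
  haveI : Nontrivial (AlgebraicClosure F ⊗[F] V) :=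
    Module.nontrivial_of_finrank_pos (R := AlgebraicClosure F)
      (by rw [Module.finrank_baseChange]; exact Module.finrank_pos)
  rw [← E.finrank_eq hζ, Module.finrank_baseChange]

/-- A non-trivial module has a non-zero norm. -/
theorem Mod.exists_norm_ne_zero [Nontrivial V] [FiniteDimensional F V] (H : Mod p T U c) :
    ∃ x : V, ∑ i ∈ range p, (U ^ i) x ≠ 0 := by
  by_contra h
  push Not at h
  obtain ⟨ζ, hζ, E⟩ := H.exists_eig
  haveI : Nontrivial (AlgebraicClosure F ⊗[F] V) :=
    Module.nontrivial_of_finrank_pos (R := AlgebraicClosure F)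
      (by rw [Module.finrank_baseChange]; exact Module.finrank_pos)
  obtain ⟨z, hz⟩ := E.exists_norm_ne_zero hζ
  refine hz ?_
  induction z using TensorProduct.induction_on with
  | zero => simp
  | tmul a x => simp only [← LinearMap.baseChange_pow, LinearMap.baseChange_tmul,
      ← TensorProduct.tmul_sum, h, TensorProduct.tmul_zero]
  | add x y hx hy =>
    simp only [map_add, sum_add_distrib]
    by_cases hx0 : ∑ i ∈ range p, ((U.baseChange (AlgebraicClosure F)) ^ i) x = 0
    · by_cases hy0 : ∑ i ∈ range p, ((U.baseChange (AlgebraicClosure F)) ^ i) y = 0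
      · rw [hx0, hy0, add_zero]
      · exact absurd (hy hy0) hy0
    · exact absurd (hx hx0) hx0

/-- A skew symmetric equivariant multiplication vanishes. -/
theorem Mod.equivariant_eq_zero (H : Mod p T U c) (h2 : (2 : F) ≠ 0) (β : V →ₗ[F] V →ₗ[F] V)
    (hskew : ∀ x y, β x y = -β y x) (heq : ∀ x y, β (T x) (T y) = T (β x y)) : β = 0 := by
  set L := AlgebraicClosure F
  obtain ⟨ζ, hζ, E⟩ := H.exists_eig
  let β' : L ⊗[F] V →ₗ[L] L ⊗[F] V →ₗ[L] L ⊗[F] V :=
    LinearMap.liftBaseChange L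
      { toFun := fun x => (β x).baseChange L
        map_add' := fun x y => by rw [map_add, LinearMap.baseChange_add]
        map_smul' := fun a x => by rw [map_smul, LinearMap.baseChange_smul]; rfl }
  have hβ' : ∀ (a b : L) (x y : V), β' (a ⊗ₜ x) (b ⊗ₜ y) = (a * b) ⊗ₜ β x y := fun a b x y => by
    simp only [β', LinearMap.liftBaseChange_tmul, LinearMap.coe_mk, AddHom.coe_mk,
      LinearMap.smul_apply, LinearMap.baseChange_tmul, TensorProduct.smul_tmul', smul_eq_mul]
  have h2' : (2 : L) ≠ 0 := by rw [← map_ofNat (algebraMap F L)]; exact (map_ne_zero _).2 h2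
  have h0 := E.equivariant_eq_zero hζ h2' β'
    (fun z w => by
      induction z using TensorProduct.induction_on with
      | zero => simp
      | tmul a x =>
        induction w using TensorProduct.induction_on with
        | zero => simp
        | tmul b y => rw [hβ', hβ', hskew, TensorProduct.tmul_neg, mul_comm]
        | add u v hu hv => rw [map_add, hu, hv, map_add, LinearMap.add_apply, neg_add]
      | add u v hu hv => rw [map_add, LinearMap.add_apply, hu, hv, map_add, neg_add])
    (fun z w => by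
      induction z using TensorProduct.induction_on with
      | zero => simp
      | tmul a x =>
        induction w using TensorProduct.induction_on with
        | zero => simp
        | tmul b y => rw [LinearMap.baseChange_tmul, LinearMap.baseChange_tmul, hβ', hβ', heq,
            LinearMap.baseChange_tmul]
        | add u v hu hv => simp only [map_add, hu, hv]
      | add u v hu hv => simp only [map_add, LinearMap.add_apply, hu, hv])
  ext x y
  have h := hβ' 1 1 x y
  rw [h0, mul_one] at h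
  simp only [LinearMap.zero_apply] at h ⊢
  have b := Module.Free.chooseBasis F V
  refine b.repr.injective (Finsupp.ext fun i => ?_)
  have h' := congrArg (fun z => (Algebra.TensorProduct.basis L b).repr z i) h
  simp only [map_zero, Finsupp.zero_apply, Algebra.TensorProduct.basis_repr_tmul,
    Finsupp.mapRange_apply, one_smul] at h'
  rw [map_zero, Finsupp.zero_apply]
  exact (map_eq_zero (algebraMap F L)).1 h'.symm

end Descent

end CfsgLib.SuzukiThm.OddPart
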