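import Cfsg.Agent.SuzukiTheorem.IrrAction

/-!
# Products `π ⊗ ψ` with trivial stabiliser in `D`

Assume that, for each non-principal `ψ` of `O`, the non-trivial elements of the stabiliser of `ψ` act fixed
point freely on `K` and each generates all the others.
-/

set_option autoImplicit false
set_option linter.unusedSectionVars false
set_option linter.style.haveILetI false

namespace CfsgLib.SuzukiThm

open Cfsg CfsgLib CfsgLib.Characters
open scoped ComplexConjugate Classical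

universe u v

variable {G : Type u} {Ω : Type v} [Group G] [MulAction G Ω] [Finite G] {a : Ω} {t : G} {Q : Subgroup G}
  {P : Frame a t Q}

namespace Split

/-- The stabiliser in `D` of a character of `O`. -/
noncomputable def stabO (S : Split P) (ψ : Cfsg.IrrCharacter ↥S.O) : Subgroup ↥(pairD G a t) where
  carrier := {d | irrConj (S.autO d) ψ = ψ}
  one_mem' := by show irrConj (S.autO 1) ψ = ψ; rw [map_one]; rfl
  mul_mem' := fun {c d} hc hd => by
    show irrConj (S.autO (c * d)) ψ = ψ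
    rw [map_mul, ← irrConj_irrConj, hc, hd]
  inv_mem' := fun {d} hd => by
    show irrConj (S.autO d⁻¹) ψ = ψ
    conv_lhs => rw [← hd]
    rw [irrConj_irrConj, ← map_mul, mul_inv_cancel, map_one]
    rfl

theorem mem_stabO (S : Split P) {ψ : Cfsg.IrrCharacter ↥S.O} {d : ↥(pairD G a t)} :
    d ∈ S.stabO ψ ↔ irrConj (S.autO d) ψ = ψ := Iff.rfl

/-- No element of `D ∖ 1` fixes both characters. -/
def Reg (S : Split P) (π : Cfsg.IrrCharacter ↥S.T) (ψ : Cfsg.IrrCharacter ↥S.O) : Prop :=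
  ∀ d : ↥(pairD G a t), irrConj (S.autT d) π = π → irrConj (S.autO d) ψ = ψ → d = 1

/-- The stabilisers of non-principal characters of `O` are cyclic, fixed-point-free on `K`, and each
non-trivial element generates. -/
def Stabs (S : Split P) : Prop :=
  ∀ ψ : Cfsg.IrrCharacter ↥S.O, ψ ≠ irrOne → ∀ d ∈ S.stabO ψ, d ≠ 1 →
    (∀ k ∈ P.K, (d : G) * k = k * d → k = 1) ∧ ∀ d' ∈ S.stabO ψ, d' ≠ 1 → d ∈ Subgroup.zpowers d'

/-- The characters of `T` trivial on `E`. -/
def TrivT (S : Split P) (π : Cfsg.IrrCharacter ↥S.T) : Prop := ∀ z : ↥S.T, (z : G) ∈ P.E → π.1 z = π.1 1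

variable (S : Split P)

theorem Reg.conj {π : Cfsg.IrrCharacter ↥S.T} {ψ : Cfsg.IrrCharacter ↥S.O} (h : S.Reg π ψ)
    (c : ↥(pairD G a t)) : S.Reg (irrConj (S.autT c) π) (irrConj (S.autO c) ψ) := by
  intro d hT hO
  have h1 : irrConj (S.autT (c * d * c⁻¹)) π = π := by
    rw [map_mul, map_mul, map_inv, ← irrConj_irrConj, ← irrConj_irrConj, hT, irrConj_irrConj,
      mul_inv_cancel]
    rfl
  have h2 : irrConj (S.autO (c * d * c⁻¹)) ψ = ψ := by
    rw [map_mul, map_mul, map_inv, ← irrConj_irrConj, ← irrConj_irrConj, hO, irrConj_irrConj,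
      mul_inv_cancel]
    rfl
  have h3 := h _ h1 h2
  rw [show d = c⁻¹ * (c * d * c⁻¹) * c by group, h3]
  group

theorem trivT_conj {π : Cfsg.IrrCharacter ↥S.T} (h : S.TrivT π) (c : ↥(pairD G a t)) :
    S.TrivT (irrConj (S.autT c) π) := fun z hz => by
  rw [irrConj_degree]
  exact h (S.autT c z) (P.D_norm_E c.2 hz)

theorem trivT_one : S.TrivT irrOne := fun _ _ => rfl

/-- A non-trivial element of `K` fixes only the principal character of `T`. -/
theorem eq_one_of_K_fixed {k : G} (hk : k ∈ P.K) (hk1 : k ≠ 1) {π : Cfsg.IrrCharacter ↥S.T}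
    (h : irrConj (S.autT ⟨k, P.K_le hk⟩) π = π) : π = irrOne := by
  refine Subtype.ext (irr_eq_one_of_fixed (S.autT ⟨k, P.K_le hk⟩) (fun x hx => ?_) π (congrArg Subtype.val h))
  have hx' : k * (x : G) * k⁻¹ = x := congrArg Subtype.val hx
  exact Subtype.ext (P.K_fpf hk hk1 (S.T_le x.2) (mul_inv_eq_iff_eq_mul.1 hx'))

/-- Two characters fixed by an element fixed-point-free on `K` are not translates under `K`. -/
theorem K_translate_eq {d : ↥(pairD G a t)} (hd : ∀ k ∈ P.K, (d : G) * k = k * d → k = 1)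
    {π π' : Cfsg.IrrCharacter ↥S.T} (hπ : π ≠ irrOne) (h : irrConj (S.autT d) π = π)
    (h' : irrConj (S.autT d) π' = π') (i j : ↥P.K)
    (hij : irrConj (S.autT ⟨i, P.K_le i.2⟩) π = irrConj (S.autT ⟨j, P.K_le j.2⟩) π') : i = j := by
  set c : ↥(pairD G a t) := ⟨i, P.K_le i.2⟩ * (⟨j, P.K_le j.2⟩)⁻¹ with hc
  have hcK : (c : G) ∈ P.K := mul_mem i.2 (inv_mem j.2)
  have h1 : irrConj (S.autT c) π = π' := by
    have h2 := congrArg (irrConj (S.autT (⟨j, P.K_le j.2⟩)⁻¹)) hij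
    rw [irrConj_irrConj, irrConj_irrConj, ← map_mul, ← map_mul, mul_inv_cancel, map_one] at h2
    exact h2
  set c' : ↥(pairD G a t) := d * c * d⁻¹ * c⁻¹ with hc'
  have hd' : irrConj (S.autT d⁻¹) π' = π' := by
    conv_lhs => rw [← h']
    rw [irrConj_irrConj, ← map_mul, mul_inv_cancel, map_one]
    rfl
  have h3 : irrConj (S.autT c') π = π := by
    rw [hc', map_mul, map_mul, map_mul, ← irrConj_irrConj, ← irrConj_irrConj, ← irrConj_irrConj, h, h1, hd',
      ← h1, irrConj_irrConj, ← map_mul, mul_inv_cancel, map_one]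
    rfl
  have hc'K : (c' : G) ∈ P.K := mul_mem (P.K_normal d d.2 c hcK) (inv_mem hcK)
  by_cases h4 : (c' : G) = 1
  · have h5 : (d : G) * c = c * d := by
      have h6 : (d : G) * c * (d : G)⁻¹ * (c : G)⁻¹ = 1 := h4
      exact mul_inv_eq_iff_eq_mul.1 (mul_inv_eq_one.1 h6)
    have h7 : (c : G) = 1 := hd _ hcK h5
    exact Subtype.ext (mul_inv_eq_one.1 (show (i : G) * (j : G)⁻¹ = 1 from h7))
  · exact absurd (S.eq_one_of_K_fixed hc'K h4 h3) hπ

/-- The characters fixed by an element fixed-point-free on `K` carry little mass. -/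
theorem fixed_mass {d : ↥(pairD G a t)} (hd : ∀ k ∈ P.K, (d : G) * k = k * d → k = 1)
    (A : Finset (Cfsg.IrrCharacter ↥S.T)) (hA1 : ∀ π ∈ A, π ≠ irrOne)
    (hA : ∀ c : ↥(pairD G a t), ∀ π ∈ A, irrConj (S.autT c) π ∈ A) :
    ((P.q : ℝ) - 1) * ∑ π ∈ A.filter (fun π => irrConj (S.autT d) π = π), (π.1 1).re ^ 2 ≤
      ∑ π ∈ A, (π.1 1).re ^ 2 := by
  haveI := Fintype.ofFinite ↥P.K
  have h := mass_fixed_mul_le (S.autT d) (fun j : ↥P.K => S.autT ⟨j, P.K_le j.2⟩) A
    (fun j π hπ => hA _ π hπ)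
    (fun π hπ π' _ h h' i j hij => S.K_translate_eq hd (hA1 π hπ) h h' i j hij)
  have hK : (Fintype.card ↥P.K : ℝ) = (P.q : ℝ) - 1 := by
    rw [← Nat.card_eq_fintype_card, ← P.card_K_add_one]; push_cast; ring
  rwa [hK] at h

/-- Some character of `T` is not trivial on `E`. -/
theorem exists_not_trivT : ∃ π : Cfsg.IrrCharacter ↥S.T, ¬ S.TrivT π := by
  by_contra h
  push Not at h
  set N : Subgroup ↥S.T := P.E.subgroupOf S.T with hN
  haveI : N.Normal := ⟨fun x hx y => by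
    have hy := P.E_central (x := (x : G)) hx (S.T_le y.2)
    show (y : G) * x * (y : G)⁻¹ ∈ P.E
    rwa [← hy, mul_inv_cancel_right]⟩
  have h1 := sum_sq_trivial N
  rw [Finset.filter_true_of_mem (p := fun χ : Cfsg.IrrCharacter ↥S.T => ∀ z ∈ N, χ.1 z = χ.1 1)
    (fun π _ z hz => h π z hz), sum_re_sq_degree] at h1
  have h2 : Nat.card ↥S.T = N.index := by exact_mod_cast h1
  have h3 := N.card_mul_index
  rw [← h2, Nat.card_congr (Subgroup.subgroupOfEquivOfLe S.E_le_T).toEquiv] at h3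
  have : Nat.card P.E = 1 := by
    have hpos : 0 < Nat.card ↥S.T := Nat.card_pos
    exact (Nat.mul_eq_right hpos.ne').1 h3
  have := P.four_le_q
  simp only [Frame.q] at this
  omega

/-- The translates of a character outside the principal one give one with trivial stabiliser. -/
theorem exists_reg [FaithfulSMul G Ω] (hS : S.Stabs) {ψ : Cfsg.IrrCharacter ↥S.O} (hψ : ψ ≠ irrOne)
    {π₀ : Cfsg.IrrCharacter ↥S.T} (hπ : π₀ ≠ irrOne) :
    ∃ c : ↥(pairD G a t), S.Reg (irrConj (S.autT c) π₀) ψ := by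
  by_contra h
  push Not at h
  simp only [Reg, not_forall] at h
  obtain ⟨d₀, hd₀, hd₀', hd₀1⟩ := h 1
  obtain ⟨k, hk, hk1⟩ := P.exists_ne_one_K
  obtain ⟨d₁, hd₁, hd₁', hd₁1⟩ := h ⟨k, P.K_le hk⟩
  rw [map_one, irrConj_one] at hd₀
  obtain ⟨hfpf, -⟩ := hS ψ hψ d₀ hd₀' hd₀1
  obtain ⟨-, hgen⟩ := hS ψ hψ d₀ hd₀' hd₀1
  obtain ⟨i, hi⟩ := Subgroup.mem_zpowers_iff.1 (hgen d₁ hd₁' hd₁1)
  let St : Subgroup ↥(pairD G a t) :=
    { carrier := {d | irrConj (S.autT d) (irrConj (S.autT ⟨k, P.K_le hk⟩) π₀) =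
        irrConj (S.autT ⟨k, P.K_le hk⟩) π₀}
      one_mem' := by rw [Set.mem_setOf_eq, map_one]; rfl
      mul_mem' := fun {c d} hc hd => by
        rw [Set.mem_setOf_eq] at hc hd ⊢
        rw [map_mul, ← irrConj_irrConj, hc, hd]
      inv_mem' := fun {d} hd => by
        rw [Set.mem_setOf_eq] at hd ⊢
        conv_lhs => rw [← hd]
        rw [irrConj_irrConj, ← map_mul, mul_inv_cancel, map_one]
        rfl }
  have hd₀k : d₀ ∈ St := hi ▸ St.zpow_mem hd₁ i
  have h1 := S.K_translate_eq (d := d₀) hfpf hπ hd₀ hd₀k ⟨k, hk⟩ 1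
    (by rw [show (⟨((1 : ↥P.K) : G), P.K_le (1 : ↥P.K).2⟩ : ↥(pairD G a t)) = 1 from rfl, map_one,
      irrConj_one])
  exact hk1 (congrArg Subtype.val h1)

/-- `D` does not send a non-principal character of `O` to its conjugate. -/
theorem conj_not_mem_orbit {ψ ψ' : Cfsg.IrrCharacter ↥S.O} (hψ : ψ ≠ irrOne)
    (h' : ψ'.1 = Cfsg.conjFun ψ.1) (d : ↥(pairD G a t)) : irrConj (S.autO d) ψ ≠ ψ' := by
  intro h
  have hd2 : d * d ∈ S.stabO ψ := by
    rw [mem_stabO, map_mul, ← irrConj_irrConj, h]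
    refine Subtype.ext (funext fun x => ?_)
    have h1 : ψ.1 (S.autO d (S.autO d x)) = conj (ψ.1 (S.autO d x)) := by
      have := congrFun ((congrArg Subtype.val h).trans h') (S.autO d x)
      exact this
    show ψ'.1 (S.autO d x) = ψ.1 x
    rw [h']
    show conj (ψ.1 (S.autO d x)) = ψ.1 x
    have h2 : ψ.1 (S.autO d x) = conj (ψ.1 x) := congrFun ((congrArg Subtype.val h).trans h') x
    rw [h2, Complex.conj_conj]
  have hd : d ∈ S.stabO ψ := by
    obtain ⟨j, hj⟩ := P.hS.odd_card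
    have h1 : d ^ Nat.card ↥(pairD G a t) = 1 := pow_card_eq_one'
    have h2 : (d * d) ^ (j + 1) = d := by
      rw [← pow_two, ← pow_mul, show 2 * (j + 1) = 2 * j + 1 + 1 by ring, pow_succ,
        show 2 * j + 1 = Nat.card ↥(pairD G a t) from hj.symm, h1, one_mul]
    exact h2 ▸ pow_mem hd2 _
  rw [mem_stabO] at hd
  refine conjFun_ne_of_odd S.O_odd ψ (fun e => hψ (Subtype.ext e)) ?_
  rw [← h', ← h, hd]

end Split

end CfsgLib.SuzukiThm
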