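import Cfsg.Agent.SuzukiTheorem.Mass
import Cfsg.Agent.SuzukiTheorem.FixConfig

/-!
# Counting fixed points; a Suzuki 2-group of order 64 on which `D` has an element of order 3 outside `M`
-/

set_option autoImplicit false
set_option linter.unusedSectionVars false
set_option linter.style.haveILetI false

namespace CfsgLib.SuzukiThm

open CfsgLib

universe u v

variable {G : Type u} {Ω : Type v} [Group G] [MulAction G Ω] [Finite G] {a : Ω} {t : G} {Q : Subgroup G}

/-- An element of prime order fixes as many elements of an invariant subgroup as its order, modulo `ℓ`. -/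
theorem card_modEq_fixed {ℓ : ℕ} (hℓ : ℓ.Prime) {d : ↥(pairD G a t)} (hd : d ^ ℓ = 1) (A : Subgroup G)
    (hA : ∀ c ∈ pairD G a t, ∀ x ∈ A, c * x * c⁻¹ ∈ A) :
    Nat.card ↥A ≡ Nat.card {x : ↥A // (d : G) * x * (d : G)⁻¹ = x} [MOD ℓ] := by
  haveI := Fact.mk hℓ
  letI : MulAction ↥(Subgroup.zpowers d) ↥A :=
    MulAction.compHom ↥A ((conjAut A hA).comp (Subgroup.zpowers d).subtype)
  have hsm : ∀ (c : ↥(Subgroup.zpowers d)) (x : ↥A), c • x = conjAut A hA c x := fun c x => rfl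
  have hP : IsPGroup ℓ ↥(Subgroup.zpowers d) := fun c => ⟨1, by
    obtain ⟨i, hi⟩ := Subgroup.mem_zpowers_iff.1 c.2
    refine Subtype.ext ?_
    rw [pow_one, SubmonoidClass.coe_pow, ← hi, ← zpow_natCast, ← zpow_mul, mul_comm, zpow_mul,
      zpow_natCast, hd, one_zpow]
    rfl⟩
  have h := hP.card_modEq_card_fixedPoints ↥A
  have e : Nat.card ↥(MulAction.fixedPoints ↥(Subgroup.zpowers d) ↥A) =
      Nat.card {x : ↥A // (d : G) * x * (d : G)⁻¹ = x} := by
    refine Nat.card_congr (Equiv.subtypeEquivRight fun x => ?_)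
    rw [MulAction.mem_fixedPoints]
    constructor
    · intro hx
      exact congrArg Subtype.val ((hsm ⟨d, Subgroup.mem_zpowers d⟩ x).symm.trans (hx _))
    · intro hx c
      have h1 : d ∈ (MulAction.stabilizer (MulAut ↥A) x).comap (conjAut A hA) := Subgroup.mem_comap.2
        (MulAction.mem_stabilizer_iff.2 (Subtype.ext hx))
      exact (MulAction.mem_stabilizer_iff.1 (Subgroup.mem_comap.1 (Subgroup.zpowers_le.2 h1 c.2)))
  rwa [e] at h

variable [FaithfulSMul G Ω]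

/-- `v` fixes only `1` and `s` among the involutions of `Q`. -/
theorem Twist.hE {P : Frame a t Q} {w : G} {p : ℕ} (W : Twist P w p) :
    ∀ e ∈ P.E, w * e = e * w → e = 1 ∨ e = P.s := by
  intro e he hwe
  by_contra hne
  push Not at hne
  obtain ⟨k, hk, hke⟩ := P.exists_conj_K P.s_mem_E P.s_ne_one he hne.1
  have hws := P.commute_s W.mem W.comm_t.symm
  have h1 : k ^ 2 * P.s * (k ^ 2)⁻¹ = k * P.s * k⁻¹ := by
    rw [← W.conj k hk, hke]
    calc w * k * w⁻¹ * P.s * (w * k * w⁻¹)⁻¹ = w * k * (w⁻¹ * P.s * w) * k⁻¹ * w⁻¹ := by group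
      _ = w * (k * P.s * k⁻¹) * w⁻¹ := by rw [mul_assoc w⁻¹, ← hws, inv_mul_cancel_left]; group
      _ = e := by rw [hke, hwe, mul_inv_cancel_right]
  have h2 : k ^ 2 = k := P.conj_K_injective (pow_mem hk 2) hk P.s_mem_Q P.s_ne_one h1
  have h3 : k = 1 := by rwa [pow_two, mul_eq_left] at h2
  rw [h3] at hke
  exact hne.2 (by rw [← hke]; group)

namespace Split

variable {P : Frame a t Q} (S : Split P)

/-- In the twisted shape, `p ≠ 3` if `T` is a Suzuki 2-group of order `q²`. -/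
theorem not_three {w : G} (W : Twist P w 3)
    (hj : ∃ j, Nat.card ↥(Q ⊓ Subgroup.centralizer ({w} : Set G)) + 1 = 3 ^ j)
    (hT : Nat.card ↥S.T = P.q ^ 2) : False := by
  classical
  set C : Subgroup G := S.T ⊓ Subgroup.centralizer ({w} : Set G) with hC
  set Co : Subgroup G := S.O ⊓ Subgroup.centralizer ({w} : Set G) with hCo
  set CQ : Subgroup G := Q ⊓ Subgroup.centralizer ({w} : Set G) with hCQ
  have hq : P.q = 8 := W.hq.trans (by norm_num)
  have hcent : ∀ {z : G}, z ∈ Subgroup.centralizer ({w} : Set G) ↔ w * z * w⁻¹ = z := fun {z} => by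
    rw [Subgroup.mem_centralizer_singleton_iff, mul_inv_eq_iff_eq_mul, eq_comm]
  -- `C_Q(w) = C_T(w) × C_O(w)`
  let f : ↥C × ↥Co → ↥CQ := fun x => ⟨x.1 * x.2, Subgroup.mem_inf.2
    ⟨mul_mem (S.T_le (Subgroup.mem_inf.1 x.1.2).1) (S.O_le (Subgroup.mem_inf.1 x.2.2).1),
      mul_mem (Subgroup.mem_inf.1 x.1.2).2 (Subgroup.mem_inf.1 x.2.2).2⟩⟩
  have hf : Function.Bijective f := by
    constructor
    · intro x y h
      obtain ⟨h1, h2⟩ := S.decomp_unique (Subgroup.mem_inf.1 x.1.2).1 (Subgroup.mem_inf.1 x.2.2).1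
        (Subgroup.mem_inf.1 y.1.2).1 (Subgroup.mem_inf.1 y.2.2).1 (congrArg Subtype.val h)
      exact Prod.ext (Subtype.ext h1) (Subtype.ext h2)
    · rintro ⟨z, hz⟩
      obtain ⟨x, hx, y, hy, rfl⟩ := S.decomp z (Subgroup.mem_inf.1 hz).1
      have h := hcent.1 (Subgroup.mem_inf.1 hz).2
      obtain ⟨h1, h2⟩ := S.decomp_unique (S.T_conj W.mem hx) (S.O_conj W.mem hy) hx hy
        (by rw [← h]; group)
      exact ⟨(⟨x, Subgroup.mem_inf.2 ⟨hx, hcent.2 h1⟩⟩, ⟨y, Subgroup.mem_inf.2 ⟨hy, hcent.2 h2⟩⟩), rfl⟩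
  have hsC : P.s ∈ C := Subgroup.mem_inf.2 ⟨S.E_le_T P.s_mem_E,
    Subgroup.mem_centralizer_singleton_iff.2 (P.commute_s W.mem W.comm_t.symm).symm⟩
  -- `|C| ≤ 8`
  have hle : Nat.card ↥C < 16 := by
    by_contra hge
    push Not at hge
    let g : ↥C × ↥P.E →* ↥S.T :=
      { toFun := fun x => ⟨x.1 * x.2, mul_mem (Subgroup.mem_inf.1 x.1.2).1 (S.E_le_T x.2.2)⟩
        map_one' := Subtype.ext (by simp)
        map_mul' := fun x y => Subtype.ext (by
          show (x.1 : G) * y.1 * ((x.2 : G) * y.2) = (x.1 : G) * x.2 * ((y.1 : G) * y.2)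
          rw [mul_assoc (x.1 : G), ← mul_assoc (y.1 : G),
            ← P.E_central x.2.2 (S.T_le (Subgroup.mem_inf.1 y.1.2).1)]
          group) }
    have hker : Nat.card ↥g.ker ≤ 2 := by
      let h : ↥g.ker → Bool := fun x => decide ((x.1.2 : G) = 1)
      refine (Nat.card_le_card_of_injective h ?_).trans (by simp)
      have key : ∀ x : ↥g.ker, (x.1.1 : G) = (x.1.2 : G) ∧ ((x.1.2 : G) = 1 ∨ (x.1.2 : G) = P.s) := fun x => by
        have h1 : (x.1.1 : G) * x.1.2 = 1 := congrArg Subtype.val x.2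
        have h2 : (x.1.1 : G) = (x.1.2 : G) := by
          rw [eq_inv_of_mul_eq_one_left h1, P.E_inv x.1.2.2]
        refine ⟨h2, W.hE _ x.1.2.2 ?_⟩
        rw [← h2]
        exact mul_inv_eq_iff_eq_mul.1 (hcent.1 (Subgroup.mem_inf.1 x.1.1.2).2)
      intro x y hxy
      have h' : ((x.1.2 : G) = 1 ↔ (y.1.2 : G) = 1) := by simpa [h] using hxy
      have e : (x.1.2 : G) = y.1.2 := by
        rcases (key x).2 with hx | hx <;> rcases (key y).2 with hy | hy
        · rw [hx, hy]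
        · exact absurd ((h'.1 hx) ▸ hy) P.s_ne_one.symm
        · exact absurd ((h'.2 hy) ▸ hx) P.s_ne_one.symm
        · rw [hx, hy]
      exact Subtype.ext (Prod.ext (Subtype.ext ((key x).1.trans (e.trans (key y).1.symm))) (Subtype.ext e))
    have hrange : g.range = ⊤ := by
      refine Subgroup.eq_top_of_le_card _ ?_
      have h1 := g.ker.card_mul_index
      rw [Subgroup.index_ker, Nat.card_prod, show Nat.card ↥P.E = 8 from hq] at h1
      have h2 : Nat.card ↥g.ker * Nat.card ↥g.range ≤ 2 * Nat.card ↥g.range := Nat.mul_le_mul_right _ hker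
      rw [hT, hq]
      omega
    -- every coset of `E` is fixed, so `k` fixes every coset
    obtain ⟨k, hk, hk1⟩ := P.exists_ne_one_K
    have hco : ∀ x ∈ S.T, x⁻¹ * (w * x * w⁻¹) ∈ P.E := fun x hx => by
      obtain ⟨⟨c, e⟩, h⟩ := MonoidHom.mem_range.1 (hrange ▸ Subgroup.mem_top (⟨x, hx⟩ : ↥S.T))
      have hxe : (c : G) * e = x := congrArg Subtype.val h
      have hc := hcent.1 (Subgroup.mem_inf.1 c.2).2
      rw [← hxe, show ((c : G) * e)⁻¹ * (w * ((c : G) * e) * w⁻¹) =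
        (e : G)⁻¹ * ((c : G)⁻¹ * (w * c * w⁻¹)) * (w * e * w⁻¹) by group, hc, inv_mul_cancel, mul_one]
      exact mul_mem (inv_mem e.2) (P.D_norm_E W.mem e.2)
    obtain ⟨x, hx, hxE⟩ : ∃ x ∈ S.T, x ∉ P.E := by
      by_contra h
      push Not at h
      have : Nat.card ↥S.T ≤ 8 := (Subgroup.card_le_of_le h).trans hq.le
      rw [hT, hq] at this
      omega
    have hy : k * x * k⁻¹ ∈ S.T := S.T_conj (P.K_le hk) hx
    have h1 : (k * x * k⁻¹)⁻¹ * (k ^ 2 * x * (k ^ 2)⁻¹) ∈ P.E := by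
      have e1 := hco _ hy
      have e2 : w * (k * x * k⁻¹) * w⁻¹ = k ^ 2 * (w * x * w⁻¹) * (k ^ 2)⁻¹ := by
        rw [← W.conj k hk]; group
      rw [e2] at e1
      have e3 : k ^ 2 * (x⁻¹ * (w * x * w⁻¹))⁻¹ * (k ^ 2)⁻¹ ∈ P.E :=
        P.D_norm_E (pow_mem (P.K_le hk) 2) (inv_mem (hco x hx))
      have e4 := mul_mem e1 e3
      convert e4 using 1
      group
    have h2 := P.K_fpf_coset hk hk1 (S.T_le hy)
      (by convert h1 using 1; group)
    exact hxE (by
      have := P.D_norm_E (inv_mem (P.K_le hk)) h2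
      rwa [show k⁻¹ * (k * x * k⁻¹) * k⁻¹⁻¹ = x by group] at this)
  -- `|C| = 4`
  have hpow : ∃ i, Nat.card ↥C = 2 ^ i := by
    haveI := Fact.mk Nat.prime_two
    exact IsPGroup.iff_card.1 (S.T_two.to_le inf_le_left)
  have hmod : Nat.card ↥S.T ≡ Nat.card ↥C [MOD 3] := by
    have h := card_modEq_fixed Nat.prime_three (d := ⟨w, W.mem⟩)
      (Subtype.ext (by
        have e := pow_orderOf_eq_one w
        rw [W.order] at e
        exact e)) S.T
      (fun c hc x hx => S.T_conj hc hx)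
    have e : Nat.card {x : ↥S.T // w * x * w⁻¹ = x} = Nat.card ↥C := Nat.card_congr
      { toFun := fun x => ⟨x.1, Subgroup.mem_inf.2 ⟨x.1.2, hcent.2 x.2⟩⟩
        invFun := fun c => ⟨⟨c, (Subgroup.mem_inf.1 c.2).1⟩, hcent.1 (Subgroup.mem_inf.1 c.2).2⟩
        left_inv := fun _ => rfl
        right_inv := fun _ => rfl }
    rwa [e] at h
  have h4 : Nat.card ↥C = 4 := by
    obtain ⟨i, hi⟩ := hpow
    rw [hT, hq, hi, Nat.ModEq] at hmod
    rw [hi] at hle
    have hi4 : i < 4 := (Nat.pow_lt_pow_iff_right (by norm_num : 1 < 2)).1 (hle.trans_eq (by norm_num))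
    have hi0 : i ≠ 0 := fun h => P.s_ne_one (Subgroup.mem_bot.1 (by
      rw [← C.eq_bot_of_card_eq (by rw [hi, h, pow_zero])]; exact hsC))
    interval_cases i <;> simp_all
  have hodd : Odd (Nat.card ↥Co) := S.O_odd.of_dvd_nat (Subgroup.card_dvd_of_le inf_le_left)
  obtain ⟨j, hj⟩ := hj
  rw [← Nat.card_congr (Equiv.ofBijective f hf), Nat.card_prod, h4] at hj
  obtain ⟨o, ho⟩ := hodd
  rw [ho] at hj
  have key : ∀ n : ℕ, 3 ^ n % 8 = 1 ∨ 3 ^ n % 8 = 3 := by
    intro n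
    induction n with
    | zero => simp
    | succ n ih => rw [pow_succ, Nat.mul_mod]; rcases ih with h | h <;> simp [h]
  rcases key j with h | h <;> omega

end Split

end CfsgLib.SuzukiThm
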