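import Cfsg.Agent.SuzukiTheorem.Parity
import Cfsg.Agent.SuzukiTheorem.AbelianCase
import Cfsg.Agent.SuzukiTheorem.FrobeniusNilpotent
import Cfsg.Agent.SuzukiTheorem.Cases

/-!
# Suzuki's theorem: the odd part of `Q` in the twisted shape

When an element `v` of order `p` of `C_D(t)` squares `K` and fixes an element of odd order of `Q`, the
odd part `O` of `Q` is abelian of order `|C_O(v)| ^ p`; if moreover `T = E` then some character of `O`
has trivial stabiliser in `D`.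
-/

set_option autoImplicit false
set_option linter.unusedSectionVars false
set_option linter.style.haveILetI false

namespace CfsgLib.SuzukiThm

open CfsgLib
open Subgroup (centralizer)

universe u v

private theorem two_pow_le_three_pow_pred : ∀ p, 3 ≤ p → 2 ^ p ≤ 3 ^ (p - 1) := by
  intro p hp
  induction p, hp using Nat.le_induction with
  | base => norm_num
  | succ k hk ih =>
    rw [show k + 1 - 1 = (k - 1) + 1 by omega, pow_succ, pow_succ]
    exact Nat.mul_le_mul ih (by norm_num)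

private theorem not_dvd_two_pow_pred {p : ℕ} (hp : p.Prime) : ¬ p ∣ 2 ^ p - 1 := by
  haveI := Fact.mk hp
  intro h
  have h1 : ((2 ^ p - 1 : ℕ) : ZMod p) = 0 := (ZMod.natCast_eq_zero_iff _ _).2 h
  rw [Nat.cast_sub Nat.one_le_two_pow, Nat.cast_pow, ZMod.pow_card] at h1
  norm_num at h1

variable {G : Type u} {Ω : Type v} [Group G] [MulAction G Ω] [Finite G] {a : Ω} {t : G} {Q : Subgroup G}

/-- Membership of the centraliser of an element, as a conjugation. -/
theorem mem_centralizer_conj_iff {g z : G} : z ∈ centralizer ({g} : Set G) ↔ g * z * g⁻¹ = z := by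
  rw [Subgroup.mem_centralizer_singleton_iff, mul_inv_eq_iff_eq_mul, eq_comm]

namespace Split

variable {P : Frame a t Q} (S : Split P)

include S

/-- `C_Q(d) = C_T(d) × C_O(d)`. -/
theorem card_centralizer {d : G} (hd : d ∈ pairD G a t) :
    Nat.card ↥(Q ⊓ centralizer ({d} : Set G)) =
      Nat.card ↥(S.T ⊓ centralizer ({d} : Set G)) * Nat.card ↥(S.O ⊓ centralizer ({d} : Set G)) := by
  rw [← Nat.card_prod]
  refine (Nat.card_eq_of_bijective (fun x : ↥(S.T ⊓ centralizer ({d} : Set G)) × ↥(S.O ⊓ centralizer ({d} : Set G)) =>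
    (⟨x.1 * x.2, Subgroup.mem_inf.2
      ⟨mul_mem (S.T_le (Subgroup.mem_inf.1 x.1.2).1) (S.O_le (Subgroup.mem_inf.1 x.2.2).1),
        mul_mem (Subgroup.mem_inf.1 x.1.2).2 (Subgroup.mem_inf.1 x.2.2).2⟩⟩ :
      ↥(Q ⊓ centralizer ({d} : Set G)))) ⟨?_, ?_⟩).symm
  · intro x y h
    obtain ⟨h1, h2⟩ := S.decomp_unique (Subgroup.mem_inf.1 x.1.2).1 (Subgroup.mem_inf.1 x.2.2).1
      (Subgroup.mem_inf.1 y.1.2).1 (Subgroup.mem_inf.1 y.2.2).1 (congrArg Subtype.val h)
    exact Prod.ext (Subtype.ext h1) (Subtype.ext h2)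
  · rintro ⟨z, hz⟩
    obtain ⟨x, hx, y, hy, rfl⟩ := S.decomp z (Subgroup.mem_inf.1 hz).1
    have h := mem_centralizer_conj_iff.1 (Subgroup.mem_inf.1 hz).2
    obtain ⟨h1, h2⟩ := S.decomp_unique (S.T_conj hd hx) (S.O_conj hd hy) hx hy
      (Eq.trans (by group) h)
    exact ⟨(⟨x, Subgroup.mem_inf.2 ⟨hx, mem_centralizer_conj_iff.2 h1⟩⟩,
      ⟨y, Subgroup.mem_inf.2 ⟨hy, mem_centralizer_conj_iff.2 h2⟩⟩), rfl⟩

/-- The fixed points of an element of `D` on `O`. -/
theorem card_autO_fixed (d : ↥(pairD G a t)) :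
    Nat.card {x : ↥S.O // S.autO d x = x} = Nat.card ↥(S.O ⊓ centralizer ({(d : G)} : Set G)) :=
  Nat.card_congr
    { toFun := fun x => ⟨x.1, Subgroup.mem_inf.2
        ⟨x.1.2, mem_centralizer_conj_iff.2 (congrArg Subtype.val x.2)⟩⟩
      invFun := fun y => ⟨⟨y, (Subgroup.mem_inf.1 y.2).1⟩,
        Subtype.ext (mem_centralizer_conj_iff.1 (Subgroup.mem_inf.1 y.2).2)⟩
      left_inv := fun _ => rfl
      right_inv := fun _ => rfl }

/-- Conjugate elements of `D` have as many fixed points on `O`. -/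
theorem card_fixed_conj {c d : G} (hc : c ∈ pairD G a t) :
    Nat.card ↥(S.O ⊓ centralizer ({c * d * c⁻¹} : Set G)) =
      Nat.card ↥(S.O ⊓ centralizer ({d} : Set G)) :=
  Nat.card_congr
    { toFun := fun x => ⟨c⁻¹ * x * c, Subgroup.mem_inf.2
        ⟨by simpa using S.O_conj (inv_mem hc) (Subgroup.mem_inf.1 x.2).1, mem_centralizer_conj_iff.2 (by
          calc d * (c⁻¹ * x * c) * d⁻¹ = c⁻¹ * ((c * d * c⁻¹) * x * (c * d * c⁻¹)⁻¹) * c := by group
            _ = c⁻¹ * x * c := by rw [mem_centralizer_conj_iff.1 (Subgroup.mem_inf.1 x.2).2])⟩⟩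
      invFun := fun y => ⟨c * y * c⁻¹, Subgroup.mem_inf.2
        ⟨S.O_conj hc (Subgroup.mem_inf.1 y.2).1, mem_centralizer_conj_iff.2 (by
          calc c * d * c⁻¹ * (c * y * c⁻¹) * (c * d * c⁻¹)⁻¹ = c * (d * y * d⁻¹) * c⁻¹ := by group
            _ = c * y * c⁻¹ := by rw [mem_centralizer_conj_iff.1 (Subgroup.mem_inf.1 y.2).2])⟩⟩
      left_inv := fun x => Subtype.ext (by group)
      right_inv := fun y => Subtype.ext (by group) }

end Split

namespace Frame

variable (P : Frame a t Q)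

include P

/-- An element of `K` commuting with `t` is trivial. -/
theorem eq_one_of_K_comm {k : G} (hk : k ∈ P.K) (h : t * k = k * t) : k = 1 := by
  have h1 : k * k = 1 := by
    have e : t * k * t = k := by rw [h, mul_assoc, P.tt, mul_one]
    exact mul_eq_one_iff_eq_inv.2 (e.symm.trans (P.t_conj_K hk))
  obtain ⟨j, hj⟩ := P.odd_card_K
  have h2 : k ^ Nat.card ↥P.K = 1 := congrArg Subtype.val (pow_card_eq_one' (G := ↥P.K) (x := ⟨k, hk⟩))
  rwa [hj, pow_succ, pow_mul, pow_two, h1, one_pow, one_mul] at h2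

end Frame

variable [FaithfulSMul G Ω]

/-- The odd part in the twisted shape. -/
theorem Twist.odd_part (P : Frame a t Q) (hIH : IH.{u, v} (Nat.card G)) (hQ : ¬ IsPGroup 2 Q)
    (S : Split P) {v : G} {p : ℕ} (W : Twist P v p) :
    orderOf (P.s * t) = p ∧ (∃ j, Nat.card ↥(Q ⊓ Subgroup.centralizer ({v} : Set G)) + 1 = p ^ j) ∧
      ¬ p ∣ Nat.card S.O ∧ (∀ x ∈ S.O, ∀ y ∈ S.O, x * y = y * x) ∧
      Nat.card S.O = Nat.card ↥(S.O ⊓ Subgroup.centralizer ({v} : Set G)) ^ p := by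
  classical
  obtain ⟨ℓ, j, hℓ, hc, ho, hX, -⟩ := fixed_config P W.mem W.comm_t W.hE
  have hdvd : p ∣ Nat.card ↥(Q ⊓ centralizer ({v} : Set G)) + 1 :=
    prime_dvd_fixed P (fun N hN hodd => P.eq_top_of_odd_index hIH hQ hN hodd) W.prime W.mem W.comm_t
      W.order P.M P.M_le P.K_le_M (fun d hd x hx => P.M_conj hd hx) W.card_D
      (by simpa using W.pow_not_mem_M (j := 1) (fun h => W.prime.one_lt.ne' (Nat.dvd_one.1 h)))
  have hpℓ : p = ℓ := by
    rw [hc] at hdvd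
    exact (Nat.prime_dvd_prime_iff_eq W.prime hℓ).1 (W.prime.dvd_of_dvd_pow hdvd)
  subst hpℓ
  have hvD : (⟨v, W.mem⟩ : ↥(pairD G a t)) ^ p = 1 := Subtype.ext (by
    show v ^ p = 1
    rw [← W.order]; exact pow_orderOf_eq_one v)
  have hpO : ¬ p ∣ Nat.card S.O := by
    intro h
    have hmod := card_modEq_fixed W.prime hvD S.O (fun c hc x hx => S.O_conj hc hx)
    have e : Nat.card {x : ↥S.O // v * x * v⁻¹ = x} = Nat.card ↥(S.O ⊓ centralizer ({v} : Set G)) :=
      Nat.card_congr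
        { toFun := fun x => ⟨x.1, Subgroup.mem_inf.2 ⟨x.1.2, mem_centralizer_conj_iff.2 x.2⟩⟩
          invFun := fun y => ⟨⟨y, (Subgroup.mem_inf.1 y.2).1⟩,
            mem_centralizer_conj_iff.1 (Subgroup.mem_inf.1 y.2).2⟩
          left_inv := fun _ => rfl
          right_inv := fun _ => rfl }
    rw [e] at hmod
    have h1 : p ∣ Nat.card ↥(Q ⊓ centralizer ({v} : Set G)) :=
      ((Nat.modEq_zero_iff_dvd.1 (hmod.symm.trans (Nat.modEq_zero_iff_dvd.2 h)))).trans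
        (Subgroup.card_dvd_of_le (inf_le_inf_right _ S.O_le))
    exact W.prime.one_lt.ne' (Nat.dvd_one.1 ((Nat.dvd_add_right h1).1 hdvd))
  haveI := RankOne.isNilpotent_Q P.hS P.h2
  have hnil : Group.IsNilpotent ↥S.O :=
    Group.nilpotent_of_mulEquiv (Subgroup.subgroupOfEquivOfLe S.O_le)
  haveI := P.K_cyclic
  obtain ⟨k, hk⟩ := IsCyclic.exists_generator (α := ↥P.K)
  have hcardK : Nat.card ↥P.K = 2 ^ p - 1 := by
    have := P.card_K_add_one
    rw [W.hq] at this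
    omega
  have hordk : orderOf (k : G) = 2 ^ p - 1 := by
    rw [Subgroup.orderOf_coe, orderOf_eq_card_of_forall_mem_zpowers hk, hcardK]
  let kD : ↥(pairD G a t) := ⟨k, P.K_le k.2⟩
  have hcyc : ∃ g : ↥S.O, S.autO ⟨v, W.mem⟩ g = g ∧
      ∀ x : ↥S.O, S.autO ⟨v, W.mem⟩ x = x → ∃ i : ℕ, x = g ^ i := by
    haveI := hX (S.O ⊓ centralizer ({v} : Set G)) (inf_le_inf_right _ S.O_le)
      (S.O_odd.of_dvd_nat (Subgroup.card_dvd_of_le inf_le_left))
    obtain ⟨g, hg⟩ := IsCyclic.exists_generator (α := ↥(S.O ⊓ centralizer ({v} : Set G)))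
    refine ⟨⟨g, (Subgroup.mem_inf.1 g.2).1⟩,
      Subtype.ext (mem_centralizer_conj_iff.1 (Subgroup.mem_inf.1 g.2).2), fun x hx => ?_⟩
    obtain ⟨i, hi⟩ := mem_powers_iff_mem_zpowers.2 (hg ⟨x, Subgroup.mem_inf.2
      ⟨x.2, mem_centralizer_conj_iff.2 (congrArg Subtype.val hx)⟩⟩)
    have hi' := congrArg Subtype.val hi
    simp only [SubmonoidClass.coe_pow] at hi'
    exact ⟨i, Subtype.ext (by rw [SubmonoidClass.coe_pow]; exact hi'.symm)⟩
  obtain ⟨hab, hcard⟩ := OddPart.abelian_of_frobenius (O := ↥S.O) hnil S.O_odd W.prime W.odd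
    ((W.prime.coprime_iff_not_dvd.2 hpO).symm) (S.autO kD) (S.autO ⟨v, W.mem⟩)
    (by
      rw [← map_pow, show kD ^ (2 ^ p - 1) = 1 from Subtype.ext (by
        show (k : G) ^ (2 ^ p - 1) = 1
        rw [← hordk]; exact pow_orderOf_eq_one _), map_one])
    (fun i hi x hx => by
      rw [← map_pow] at hx
      have hne : (k : G) ^ i ≠ 1 := fun h => hi (hordk ▸ orderOf_dvd_of_pow_eq_one h)
      exact Subtype.ext (P.K_fpf (pow_mem k.2 i) hne (S.O_le x.2)
        (mul_inv_eq_iff_eq_mul.1 (congrArg Subtype.val hx))))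
    (by rw [← map_pow, hvD, map_one])
    (by
      rw [← map_inv, ← map_mul, ← map_mul, ← map_pow]
      exact congrArg S.autO (Subtype.ext (W.conj k k.2)))
    hcyc
  refine ⟨ho, ⟨j, hc⟩, hpO, fun x hx y hy => congrArg Subtype.val (hab ⟨x, hx⟩ ⟨y, hy⟩), ?_⟩
  rw [hcard, S.card_autO_fixed]

/-- An element of order `p` of `M` centralises `t`. -/
theorem Twist.comm_t_of_order {P : Frame a t Q} {v : G} {p : ℕ} (W : Twist P v p) {z : G} (hz : z ∈ P.M)
    (hzp : z ^ p = 1) : t * z = z * t := by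
  obtain ⟨y, hy, k, hk, hty, rfl⟩ := P.exists_K_mul (P.M_le hz)
  have hyk : Commute y k := by
    have h := (P.mem_M_iff.1 hz).2 k hk
    show y * k = k * y
    rw [← mul_assoc] at h
    exact mul_right_cancel h
  rw [hyk.mul_pow] at hzp
  have hkp : k ^ p = 1 := P.eq_one_of_K_comm (pow_mem hk p) (by
    rw [eq_inv_of_mul_eq_one_right hzp]
    exact ((show Commute t y from hty).pow_right p).inv_right.eq)
  have hk1 : k = 1 := by
    rw [← orderOf_eq_one_iff]
    refine Nat.eq_one_of_dvd_coprimes (k := orderOf k) (a := p) (b := 2 ^ p - 1)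
      (W.prime.coprime_iff_not_dvd.2 (not_dvd_two_pow_pred W.prime)) (orderOf_dvd_of_pow_eq_one hkp) ?_
    have hcard := P.card_K_add_one
    rw [W.hq] at hcard
    rw [show 2 ^ p - 1 = Nat.card ↥P.K by omega]
    exact Subgroup.orderOf_dvd_natCard _ hk
  rw [hk1, mul_one]
  exact hty

/-- When `T = E` and some element of `C_D(K) ∩ C(t)` is non-trivial, `p = 3` and `r = s`. -/
theorem Twist.eq_three {P : Frame a t Q} (hIH : IH.{u, v} (Nat.card G)) (S : Split P) {v : G} {p : ℕ}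
    (W : Twist P v p) (hord : orderOf (P.s * t) = p) (hT : S.T = P.E) {z : G} (hz : z ∈ P.M) (hz1 : z ≠ 1)
    (hzt : t * z = z * t) : p = 3 := by
  have hzD := P.M_le hz
  -- `z` centralises `r`
  have hzs : z * P.s * z⁻¹ = P.s :=
    mul_inv_eq_iff_eq_mul.2 (P.commute_s hzD hzt.symm)
  have htz : z * t * z⁻¹ = t := mul_inv_eq_iff_eq_mul.2 hzt.symm
  set r' := z * P.r * z⁻¹ with hr'
  have hr'Q : r' ∈ Q := RankOne.D_norm_Q P.hS hzD P.hr
  have e' : t * P.s * t = r'⁻¹ * t * r' := by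
    calc t * P.s * t = (z * t * z⁻¹) * (z * P.s * z⁻¹) * (z * t * z⁻¹) := by rw [htz, hzs]
      _ = z * (t * P.s * t) * z⁻¹ := by group
      _ = z * (P.r⁻¹ * t * P.r) * z⁻¹ := by rw [P.est]
      _ = r'⁻¹ * (z * t * z⁻¹) * r' := by rw [hr']; group
      _ = _ := by rw [htz]
  have hrr' : P.r * r'⁻¹ = 1 := by
    have hx : P.r * r'⁻¹ ∈ Q := mul_mem P.hr (inv_mem hr'Q)
    have hc : t * (P.r * r'⁻¹) = (P.r * r'⁻¹) * t := by
      calc t * (P.r * r'⁻¹) = P.r * (P.r⁻¹ * t * P.r) * r'⁻¹ := by group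
        _ = P.r * (r'⁻¹ * t * r') * r'⁻¹ := by rw [← P.est, e']
        _ = _ := by group
    refine RankOne.eq_one_of_smul_ta P.hS hx ?_
    rw [← mul_smul, ← hc, mul_smul, RankOne.Q_smul_a P.hS hx]
  have hzr : z * P.r * z⁻¹ = P.r := (mul_inv_eq_one.1 hrr').symm
  -- `r ∈ E`
  have hrE : P.r ∈ P.E := by
    obtain ⟨x, hx, y, hy, hxy⟩ := S.decomp P.r P.hr
    obtain ⟨-, h2⟩ := S.decomp_unique (S.T_conj hzD hx) (S.O_conj hzD hy) hx hy
      (show (z * x * z⁻¹) * (z * y * z⁻¹) = x * y by rw [← hxy, ← hzr, hxy]; group)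
    obtain ⟨k, hk, hk1⟩ := P.exists_ne_one_K
    obtain ⟨hyQ, hyodd⟩ := S.mem_O_iff.1 hy
    have hy1 : y = 1 := P.fpf_on_odd hIH hzD hz1 hk hk1 ((P.mem_M_iff.1 hz).2 k hk) hyQ hyodd
      (mul_inv_eq_iff_eq_mul.1 h2)
    rw [hxy, hy1, mul_one]
    exact hT ▸ hx
  have hrr : P.r * P.r = 1 := P.E_sq hrE
  rcases P.r_eq_or_sq (by rw [show P.r ^ 4 = P.r * P.r * (P.r * P.r) by
      simp only [pow_succ, pow_zero, one_mul, mul_assoc], hrr, one_mul]) with ⟨-, h3⟩ | ⟨h, -⟩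
  · exact ((Nat.prime_dvd_prime_iff_eq W.prime Nat.prime_three).1 (hord ▸ orderOf_dvd_of_pow_eq_one h3))
  · exact absurd (h.symm.trans hrr) P.s_ne_one

/-- When `T = E`, `p` does not divide the order of `C_D(K)`. -/
theorem Twist.not_dvd_card_M (P : Frame a t Q) (hIH : IH.{u, v} (Nat.card G)) (hQ : ¬ IsPGroup 2 Q)
    (S : Split P) {v : G} {p : ℕ} (W : Twist P v p) (hT : S.T = P.E) : ¬ p ∣ Nat.card ↥P.M := by
  classical
  haveI := Fact.mk W.prime
  intro hdvd
  obtain ⟨hord, ⟨j, hj⟩, hpO, -, hocard⟩ := Twist.odd_part P hIH hQ S W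
  -- an element of order `p` of `M` commuting with `v`
  obtain ⟨z, hzM, hzp, hz1, hzv⟩ : ∃ z ∈ P.M, z ^ p = 1 ∧ z ≠ 1 ∧ z * v = v * z := by
    let vD : ↥(pairD G a t) := ⟨v, W.mem⟩
    have hvord : Nat.card ↥(Subgroup.zpowers vD) = p ^ 1 := by
      rw [Nat.card_zpowers, pow_one, Subgroup.orderOf_mk, W.order]
    obtain ⟨R, hR, hle⟩ := Sylow.exists_subgroup_card_pow_succ (n := 1)
      (by rw [W.card_D, pow_succ, pow_one]; exact Nat.mul_dvd_mul_left p hdvd) hvord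
    obtain ⟨x, hxR, hxV⟩ : ∃ x ∈ R, x ∉ Subgroup.zpowers vD := by
      by_contra h
      push Not at h
      have := Subgroup.card_le_of_le (H := R) (K := Subgroup.zpowers vD) h
      rw [hR, hvord, pow_one, pow_succ, pow_one] at this
      nlinarith [W.prime.one_lt]
    have hvR : vD ∈ R := hle (Subgroup.mem_zpowers vD)
    obtain ⟨i, -, m, hm, hxm⟩ := W.exists_pow x.2
    have hmR : (⟨m, P.M_le hm⟩ : ↥(pairD G a t)) ∈ R := by
      have e : (⟨m, P.M_le hm⟩ : ↥(pairD G a t)) = (vD ^ i)⁻¹ * x := Subtype.ext (by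
        show m = (v ^ i)⁻¹ * x
        rw [hxm, inv_mul_cancel_left])
      rw [e]
      exact mul_mem (inv_mem (pow_mem hvR i)) hxR
    have hm1 : m ≠ 1 := fun h => hxV (by
      rw [show x = vD ^ i from Subtype.ext (by
        show (x : G) = v ^ i
        rw [hxm, h, mul_one])]
      exact Subgroup.npow_mem_zpowers vD i)
    have hcomm := IsPGroup.commutative_of_card_eq_prime_sq (G := ↥R) (p := p) hR
    have hmv : m * v = v * m :=
      congrArg (fun y : ↥R => (y.1 : G)) (hcomm ⟨_, hmR⟩ ⟨vD, hvR⟩)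
    have hmp2 : m ^ (p ^ 2) = 1 := by
      have e := congrArg (fun y : ↥R => (y.1 : G)) (pow_card_eq_one' (G := ↥R) (x := ⟨_, hmR⟩))
      rw [hR] at e
      simpa using e
    by_cases hmp : m ^ p = 1
    · exact ⟨m, hm, hmp, hm1, hmv⟩
    · exact ⟨m ^ p, pow_mem hm p, by rw [← pow_mul, ← pow_two]; exact hmp2, hmp,
        ((show Commute m v from hmv).pow_left p).eq⟩
  have hzt := W.comm_t_of_order hzM hzp
  obtain rfl := Twist.eq_three hIH S W hord hT hzM hz1 hzt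
  have hzD := P.M_le hzM
  -- `C_Q(z) ≤ E`
  obtain ⟨k, hk, hk1⟩ := P.exists_ne_one_K
  have hzQ : ∀ x ∈ Q, z * x * z⁻¹ = x → x ∈ P.E := by
    intro x hx hzx
    obtain ⟨e, he, y, hy, rfl⟩ := S.decomp x hx
    obtain ⟨-, h2⟩ := S.decomp_unique (S.T_conj hzD he) (S.O_conj hzD hy) he hy (Eq.trans (by group) hzx)
    obtain ⟨hyQ, hyodd⟩ := S.mem_O_iff.1 hy
    rw [P.fpf_on_odd hIH hzD hz1 hk hk1 ((P.mem_M_iff.1 hzM).2 k hk) hyQ hyodd
      (mul_inv_eq_iff_eq_mul.1 h2), mul_one]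
    exact hT ▸ he
  obtain ⟨ℓ, j', hℓ, hc, ho, -, hlast⟩ := fixed_config P W.mem W.comm_t W.hE
  obtain rfl : ℓ = 3 := ho.symm.trans hord
  have hbound := hlast z hzD hzt hzv (orderOf_eq_prime hzp hz1)
  have htwo : Nat.card ↥(S.T ⊓ centralizer ({v} : Set G)) = 2 := by
    rw [show S.T ⊓ centralizer ({v} : Set G) = Subgroup.zpowers P.s from le_antisymm (fun x hx => by
      rcases W.hE x (hT ▸ (Subgroup.mem_inf.1 hx).1)
        (Subgroup.mem_centralizer_singleton_iff.1 (Subgroup.mem_inf.1 hx).2).symm with rfl | rfl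
      · exact one_mem _
      · exact Subgroup.mem_zpowers _) (Subgroup.zpowers_le.2 (Subgroup.mem_inf.2
        ⟨S.E_le_T P.s_mem_E,
          Subgroup.mem_centralizer_singleton_iff.2 (P.commute_s W.mem W.comm_t.symm).symm⟩)),
      Nat.card_zpowers]
    exact orderOf_eq_prime (by rw [pow_two]; exact P.E_sq P.s_mem_E) P.s_ne_one
  have hinf : Nat.card ↥(Q ⊓ centralizer ({v} : Set G) ⊓ centralizer ({z} : Set G)) ≤ 2 := by
    rw [← htwo]
    refine Subgroup.card_le_of_le fun x hx => ?_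
    obtain ⟨h1, h2⟩ := Subgroup.mem_inf.1 hx
    obtain ⟨hxQ, hxv⟩ := Subgroup.mem_inf.1 h1
    exact Subgroup.mem_inf.2 ⟨S.E_le_T (hzQ x hxQ (mem_centralizer_conj_iff.1 h2)), hxv⟩
  have h27 := hbound.trans (Nat.pow_le_pow_left (Nat.add_le_add_right hinf 1) 3)
  rw [S.card_centralizer W.mem, htwo] at h27 hj
  set o := Nat.card ↥(S.O ⊓ centralizer ({v} : Set G)) with ho'
  have hodd : Odd o := S.O_odd.of_dvd_nat (Subgroup.card_dvd_of_le inf_le_left)
  have ho2 : o ≠ 1 := by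
    intro h
    obtain ⟨x, hxQ, hxo, hx1, hvx⟩ := W.fixes
    have hxC : x ∈ S.O ⊓ centralizer ({v} : Set G) := Subgroup.mem_inf.2
      ⟨S.mem_O_iff.2 ⟨hxQ, hxo⟩, Subgroup.mem_centralizer_singleton_iff.2 hvx.symm⟩
    rw [Subgroup.eq_bot_of_card_eq _ h, Subgroup.mem_bot] at hxC
    exact hx1 hxC
  have ho13 : o = 13 := by
    obtain ⟨c, hc'⟩ := hodd
    have hj3 : j ≤ 3 := (Nat.pow_le_pow_iff_right (by norm_num : 1 < 3)).1
      (hj ▸ h27.trans (by norm_num))
    interval_cases j <;> omega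
  have hk7 : (⟨k, P.K_le hk⟩ : ↥(pairD G a t)) ^ 7 = 1 := Subtype.ext (by
    have e : k ^ Nat.card ↥P.K = 1 := congrArg Subtype.val (pow_card_eq_one' (G := ↥P.K) (x := ⟨k, hk⟩))
    have hcard := P.card_K_add_one
    rw [W.hq] at hcard
    rwa [show Nat.card ↥P.K = 7 by omega] at e)
  have hmod := card_modEq_fixed (by norm_num : Nat.Prime 7) hk7 S.O (fun c hc x hx => S.O_conj hc hx)
  have h1 : Nat.card {x : ↥S.O // k * x * k⁻¹ = x} = 1 := by
    rw [Nat.card_eq_one_iff_unique]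
    refine ⟨⟨fun x y => Subtype.ext (Subtype.ext ?_)⟩, ⟨⟨1, by simp⟩⟩⟩
    rw [P.K_fpf hk hk1 (S.O_le x.1.2) (mul_inv_eq_iff_eq_mul.1 x.2),
      P.K_fpf hk hk1 (S.O_le y.1.2) (mul_inv_eq_iff_eq_mul.1 y.2)]
  rw [h1, hocard, ho13] at hmod
  exact absurd hmod (by decide)

/-- When `T = E`, some character of `O` has trivial stabiliser in `D`. -/
theorem Twist.exists_regular (P : Frame a t Q) (hIH : IH.{u, v} (Nat.card G)) (hQ : ¬ IsPGroup 2 Q)
    (S : Split P) {v : G} {p : ℕ} (W : Twist P v p) (hT : S.T = P.E) :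
    ∃ ψ : Cfsg.IrrCharacter ↥S.O, (∀ d, ψ.1 ∘ ⇑(S.autO d) = ψ.1 → d = 1) := by
  classical
  haveI := Fact.mk W.prime
  letI : Fintype ↥(pairD G a t) := Fintype.ofFinite _
  by_contra hcon
  push Not at hcon
  obtain ⟨hord, ⟨j, hj⟩, hpO, hab, hocard⟩ := Twist.odd_part P hIH hQ S W
  have hnd := Twist.not_dvd_card_M P hIH hQ S W hT
  have hp1 : ¬ p ∣ 1 := fun h => W.prime.one_lt.ne' (Nat.dvd_one.1 h)
  let vD : ↥(pairD G a t) := ⟨v, W.mem⟩
  have hvp : v ^ p = 1 := by rw [← W.order]; exact pow_orderOf_eq_one v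
  have hvM : v ∉ P.M := by simpa using W.pow_not_mem_M hp1
  -- the elements of order `p` of `v M` are the conjugates of `v` under `M`
  have hconjv : ∀ d ∈ pairD G a t, d ^ p = 1 → v⁻¹ * d ∈ P.M → ∃ m ∈ P.M, d = m * v * m⁻¹ := by
    intro d hd hdp hdM
    have hd1 : d ≠ 1 := fun h => hvM (by
      rw [h, mul_one] at hdM
      simpa using inv_mem hdM)
    have hfac : (Nat.card ↥(pairD G a t)).factorization p = 1 := by
      rw [W.card_D, Nat.factorization_mul W.prime.ne_zero Nat.card_pos.ne']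
      simp [W.prime.factorization_self, Nat.factorization_eq_zero_of_not_dvd hnd]
    let dD : ↥(pairD G a t) := ⟨d, hd⟩
    let S₁ : Sylow p ↥(pairD G a t) := Sylow.ofCard (Subgroup.zpowers vD)
      (by rw [Nat.card_zpowers, Subgroup.orderOf_mk, W.order, hfac, pow_one])
    let S₂ : Sylow p ↥(pairD G a t) := Sylow.ofCard (Subgroup.zpowers dD)
      (by rw [Nat.card_zpowers, Subgroup.orderOf_mk, orderOf_eq_prime hdp hd1, hfac, pow_one])
    obtain ⟨c, hc⟩ := MulAction.exists_smul_eq ↥(pairD G a t) S₁ S₂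
    have hmem : dD ∈ (c • S₁ : Sylow p ↥(pairD G a t)).1 := by
      rw [hc]; exact Subgroup.mem_zpowers dD
    rw [Sylow.smul_def] at hmem
    obtain ⟨y, hy, hyd⟩ := hmem
    obtain ⟨i, hi⟩ := mem_powers_iff_mem_zpowers.2 (show y ∈ Subgroup.zpowers vD from hy)
    have hcd : d = (c : G) * v ^ i * (c : G)⁻¹ := by
      have e := congrArg Subtype.val hyd
      rw [← hi] at e
      simpa [dD, vD] using e.symm
    obtain ⟨i', -, m, hm, hcm⟩ := W.exists_pow c.2
    have hi1 : v ^ i = v := by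
      have hm' : v ^ i' * ((v ^ i)⁻¹ * m * (v ^ i)⁻¹⁻¹ * m⁻¹) * (v ^ i')⁻¹ ∈ P.M :=
        P.M_conj (pow_mem W.mem _) (mul_mem (P.M_conj (inv_mem (pow_mem W.mem i)) hm) (inv_mem hm))
      have hd' : v⁻¹ * d = v⁻¹ * v ^ i * (v ^ i' * ((v ^ i)⁻¹ * m * (v ^ i)⁻¹⁻¹ * m⁻¹) * (v ^ i')⁻¹) := by
        rw [hcd, hcm]; group
      have hvi : v⁻¹ * v ^ i ∈ P.M := by
        rw [hd'] at hdM
        have e := mul_mem hdM (inv_mem hm')
        rwa [mul_inv_cancel_right] at e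
      rw [show v⁻¹ = v ^ (p - 1) from inv_eq_of_mul_eq_one_right
        (by rw [← pow_succ', Nat.sub_add_cancel W.prime.pos, hvp]), ← pow_add] at hvi
      have hdiv : p ∣ p - 1 + i := by
        by_contra h
        exact W.pow_not_mem_M h hvi
      obtain ⟨e, he⟩ := hdiv
      have e2 : v ^ (p - 1 + i + 1) = v := by
        rw [pow_succ, he, pow_mul, hvp, one_pow, one_mul]
      rwa [show p - 1 + i + 1 = p + i by have := W.prime.pos; omega, pow_add, hvp, one_mul] at e2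
    refine ⟨v ^ i' * m * (v ^ i')⁻¹, P.M_conj (pow_mem W.mem _) hm, ?_⟩
    rw [hcd, hi1, hcm]
    group
  -- the set of these elements
  let U := Finset.univ.filter fun d : ↥(pairD G a t) => v⁻¹ * (d : G) ∈ P.M ∧ (d : G) ^ p = 1
  have hfixU : ∀ d ∈ U, Nat.card ↥(S.O ⊓ centralizer ({(d : G)} : Set G)) =
      Nat.card ↥(S.O ⊓ centralizer ({v} : Set G)) := by
    intro d hd
    obtain ⟨h1, h2⟩ := (Finset.mem_filter.1 hd).2
    obtain ⟨m, hm, e⟩ := hconjv d d.2 h2 h1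
    rw [e]
    exact S.card_fixed_conj (P.M_le hm)
  -- a non-principal character has a unique fixing element in `U`
  have hex : ∀ ψ : Cfsg.IrrCharacter ↥S.O, ψ ≠ irrOne → ∃ d ∈ U, ψ.1 ∘ ⇑(S.autO d) = ψ.1 := by
    intro ψ hψ
    obtain ⟨d, hd, hd1⟩ := hcon ψ
    have hdS : d ∈ S.stabO ψ := Subtype.ext hd
    obtain ⟨i, hi, m, hm, hdm⟩ := W.exists_pow d.2
    have hi0 : ¬ p ∣ i := by
      intro h
      obtain rfl : i = 0 := Nat.eq_zero_of_dvd_of_lt h hi
      rw [pow_zero, one_mul] at hdm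
      exact hd1 (S.stab_M hIH hψ hdS (hdm ▸ hm))
    obtain ⟨x, hx⟩ := W.exists_inv hi0
    obtain ⟨m', hm', e⟩ := W.mul_pow_mem (j := i) hm x
    rw [← hdm, hx] at e
    have hmem : d ^ x ∈ S.stabO ψ := pow_mem hdS x
    obtain ⟨m'', hm'', e'⟩ := W.mul_pow_mem (j := 1) hm' p
    rw [pow_one, ← e, one_mul, hvp, one_mul] at e'
    refine ⟨d ^ x, Finset.mem_filter.2 ⟨Finset.mem_univ _, ?_, ?_⟩, congrArg Subtype.val hmem⟩
    · rw [SubmonoidClass.coe_pow, e, inv_mul_cancel_left]; exact hm'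
    · have h1 : (d ^ x) ^ p = 1 := S.stab_M hIH hψ (pow_mem hmem p) (by
        rw [SubmonoidClass.coe_pow, SubmonoidClass.coe_pow, e']; exact hm'')
      exact congrArg Subtype.val h1
  have huniq : ∀ ψ : Cfsg.IrrCharacter ↥S.O, ψ ≠ irrOne → ∀ d ∈ U, ∀ d' ∈ U,
      ψ.1 ∘ ⇑(S.autO d) = ψ.1 → ψ.1 ∘ ⇑(S.autO d') = ψ.1 → d = d' := by
    intro ψ hψ d hd d' hd' h h'
    refine inv_mul_eq_one.1 (S.stab_M hIH hψ
      (mul_mem (inv_mem (show d ∈ S.stabO ψ from Subtype.ext h)) (Subtype.ext h')) ?_)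
    show (d : G)⁻¹ * d' ∈ P.M
    have h1 := mul_mem (inv_mem (Finset.mem_filter.1 hd).2.1) (Finset.mem_filter.1 hd').2.1
    rwa [mul_inv_rev, inv_inv, mul_assoc, mul_inv_cancel_left] at h1
  choose f hf hff using fun ψ : {ψ : Cfsg.IrrCharacter ↥S.O // ψ ≠ irrOne} => hex ψ.1 ψ.2
  set o := Nat.card ↥(S.O ⊓ centralizer ({v} : Set G)) with ho
  have habO : ∀ x y : ↥S.O, x * y = y * x := fun x y => Subtype.ext (hab x x.2 y y.2)
  have hfib : ∀ d ∈ U, (Finset.univ.filter fun ψ : {ψ : Cfsg.IrrCharacter ↥S.O // ψ ≠ irrOne} =>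
      f ψ = d).card = o - 1 := by
    intro d hd
    have e := card_irr_fixed_comm habO (S.autO d)
    rw [S.card_autO_fixed, hfixU d hd, Nat.card_eq_fintype_card, Fintype.card_subtype] at e
    rw [← e, ← Finset.card_erase_of_mem (a := irrOne)
      (s := Finset.univ.filter fun ψ : Cfsg.IrrCharacter ↥S.O => ψ.1 ∘ ⇑(S.autO d) = ψ.1)
      (Finset.mem_filter.2 ⟨Finset.mem_univ _, rfl⟩)]
    refine Finset.card_bij (fun ψ _ => ψ.1) (fun ψ hψ => ?_) (fun ψ _ ψ' _ h => Subtype.ext h)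
      (fun ψ hψ => ?_)
    · rw [Finset.mem_filter] at hψ
      exact Finset.mem_erase.2 ⟨ψ.2, Finset.mem_filter.2 ⟨Finset.mem_univ _, hψ.2 ▸ hff ψ⟩⟩
    · obtain ⟨hne, hψ'⟩ := Finset.mem_erase.1 hψ
      exact ⟨⟨ψ, hne⟩, Finset.mem_filter.2 ⟨Finset.mem_univ _,
        huniq ψ hne _ (hf _) d hd (hff ⟨ψ, hne⟩) (Finset.mem_filter.1 hψ').2⟩, rfl⟩
  have hcount : o ^ p - 1 = U.card * (o - 1) := by
    calc o ^ p - 1 = Nat.card ↥S.O - 1 := by rw [hocard]
      _ = Fintype.card {ψ : Cfsg.IrrCharacter ↥S.O // ψ ≠ irrOne} := by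
          rw [Fintype.card_subtype_compl, Fintype.card_subtype_eq, ← Nat.card_eq_fintype_card,
            (irr_comm habO).1]
      _ = ∑ d ∈ U, (Finset.univ.filter fun ψ => f ψ = d).card :=
          Finset.card_eq_sum_card_fiberwise fun ψ _ => hf ψ
      _ = _ := by rw [Finset.sum_congr rfl hfib, Finset.sum_const, smul_eq_mul]
  have hodd : Odd o := S.O_odd.of_dvd_nat (Subgroup.card_dvd_of_le inf_le_left)
  have ho3 : 3 ≤ o := by
    obtain ⟨x, hxQ, hxo, hx1, hvx⟩ := W.fixes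
    have hxC : x ∈ S.O ⊓ centralizer ({v} : Set G) := Subgroup.mem_inf.2
      ⟨S.mem_O_iff.2 ⟨hxQ, hxo⟩, Subgroup.mem_centralizer_singleton_iff.2 hvx.symm⟩
    obtain ⟨c, hc⟩ := hodd
    by_contra h
    rw [Subgroup.eq_bot_of_card_eq _ (show o = 1 by omega), Subgroup.mem_bot] at hxC
    exact hx1 hxC
  -- `U` is an orbit of `M`
  letI : MulAction ↥P.M G := MulAction.compHom G (MulAut.conj.comp P.M.subtype)
  have hsm : ∀ (m : ↥P.M) (x : G), m • x = (m : G) * x * (m : G)⁻¹ := fun m x => rfl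
  have hU : U.card ∣ Nat.card ↥P.M := by
    have hbij : U.card = Nat.card ↥(MulAction.orbit ↥P.M v) := by
      rw [← Nat.card_eq_finsetCard]
      refine Nat.card_eq_of_bijective (fun d : U => (⟨(d.1 : G), by
        obtain ⟨h1, h2⟩ := (Finset.mem_filter.1 d.2).2
        obtain ⟨m, hm, e⟩ := hconjv d.1 d.1.2 h2 h1
        exact ⟨⟨m, hm⟩, e.symm⟩⟩ : ↥(MulAction.orbit ↥P.M v))) ⟨?_, ?_⟩
      · intro d d' h
        have h' : (d.1 : G) = d'.1 := by simpa using h
        exact Subtype.ext (Subtype.ext h')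
      · rintro ⟨_, m, rfl⟩
        refine ⟨⟨⟨(m : G) * v * (m : G)⁻¹, mul_mem (mul_mem (P.M_le m.2) W.mem) (inv_mem (P.M_le m.2))⟩,
          Finset.mem_filter.2 ⟨Finset.mem_univ _, ?_, ?_⟩⟩, Subtype.ext (hsm m v).symm⟩
        · show v⁻¹ * ((m : G) * v * (m : G)⁻¹) ∈ P.M
          rw [show v⁻¹ * ((m : G) * v * (m : G)⁻¹) = v⁻¹ * m * v⁻¹⁻¹ * (m : G)⁻¹ by group]
          exact mul_mem (P.M_conj (inv_mem W.mem) m.2) (inv_mem m.2)
        · show ((m : G) * v * (m : G)⁻¹) ^ p = 1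
          rw [conj_pow, hvp]; group
    rw [hbij, Nat.card_coe_set_eq, ← MulAction.index_stabilizer]
    exact Subgroup.index_dvd_card _
  clear_value o
  obtain ⟨o', rfl⟩ : ∃ o', o = o' + 1 := ⟨o - 1, by omega⟩
  rw [Nat.add_sub_cancel] at hcount
  by_cases hW' : ∃ z ∈ P.M, z ≠ 1 ∧ t * z = z * t
  · obtain ⟨z, hz, hz1, hzt⟩ := hW'
    obtain rfl := Twist.eq_three hIH S W hord hT hz hz1 hzt
    have htwo : Nat.card ↥(S.T ⊓ centralizer ({v} : Set G)) = 2 := by
      rw [show S.T ⊓ centralizer ({v} : Set G) = Subgroup.zpowers P.s from le_antisymm (fun x hx => by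
        rcases W.hE x (hT ▸ (Subgroup.mem_inf.1 hx).1)
          (Subgroup.mem_centralizer_singleton_iff.1 (Subgroup.mem_inf.1 hx).2).symm with rfl | rfl
        · exact one_mem _
        · exact Subgroup.mem_zpowers _) (Subgroup.zpowers_le.2 (Subgroup.mem_inf.2
          ⟨S.E_le_T P.s_mem_E,
            Subgroup.mem_centralizer_singleton_iff.2 (P.commute_s W.mem W.comm_t.symm).symm⟩)),
        Nat.card_zpowers]
      exact orderOf_eq_prime (by rw [pow_two]; exact P.E_sq P.s_mem_E) P.s_ne_one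
    rw [S.card_centralizer W.mem, htwo, ← ho] at hj
    have h3 : (o' + 1) % 3 = 1 := by
      rcases Nat.eq_zero_or_pos j with rfl | hj0
      · simp at hj
      · obtain ⟨c, hc⟩ : 3 ∣ 3 ^ j := dvd_pow_self 3 hj0.ne'
        omega
    have hN : U.card = o' * o' + 3 * o' + 3 := by
      have e : (o' + 1) ^ 3 - 1 = (o' * o' + 3 * o' + 3) * o' := by
        rw [show (o' + 1) ^ 3 = (o' * o' + 3 * o' + 3) * o' + 1 by ring, Nat.add_sub_cancel]
      exact Nat.eq_of_mul_eq_mul_right (by omega) (hcount.symm.trans e)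
    refine hnd ((?_ : 3 ∣ U.card).trans hU)
    obtain ⟨c, hc⟩ : 3 ∣ o' := by omega
    exact ⟨c * o' + o' + 1, by rw [hN]; subst hc; ring⟩
  · push Not at hW'
    have hMK : P.M ≤ P.K := by
      intro m hm
      obtain ⟨y, hy, k, hk, hty, rfl⟩ := P.exists_K_mul (P.M_le hm)
      have hyM : y ∈ P.M := by simpa using mul_mem hm (inv_mem (P.K_le_M hk))
      have hy1 : y = 1 := by
        by_contra hy1
        exact hW' y hyM hy1 hty
      rw [hy1, one_mul]; exact hk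
    have hUle : U.card + 1 ≤ 2 ^ p := by
      have h1 := Nat.le_of_dvd Nat.card_pos hU
      have h2 := Subgroup.card_le_of_le hMK
      have h3 := P.card_K_add_one
      rw [W.hq] at h3
      omega
    have hp3 : 3 ≤ p := by
      obtain ⟨c, hc⟩ := W.odd
      have := W.prime.two_le
      omega
    have hge : (o' + 1) ^ (p - 1) ≤ U.card := by
      refine Nat.le_of_mul_le_mul_right ?_ (show 0 < o' by omega)
      rw [← hcount, show (o' + 1) ^ p = (o' + 1) ^ (p - 1) * (o' + 1) by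
        rw [← pow_succ, Nat.sub_add_cancel W.prime.pos], Nat.mul_succ]
      have := Nat.one_le_pow (p - 1) (o' + 1) (by omega)
      omega
    have := two_pow_le_three_pow_pred p hp3
    have := Nat.pow_le_pow_left ho3 (p - 1)
    omega

end CfsgLib.SuzukiThm
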