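import Cfsg.Agent.SUThreePresentation.Main

/-!
# `PSU_3(q)` as a permutation group of the unital

The points other than `∞` are the pairs `(s, d)` with `d + σ d + s σ s = 0`. The translations and the flip
`(s, d) ↦ (-s/d, 1/d)` generate a copy of `PSU_3(q)`.
-/

set_option autoImplicit false

namespace CfsgLib.SuzukiTheorem.Unital

open CfsgLib.RepBounds.Unit CfsgLib.SUThreeUnipotent CfsgLib.SUThreePresentation Subgroup Cfsg

variable {F : Type*} [Field F] [Fintype F] (C : ConjField F)

/-- The affine points of the unital. -/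
abbrev Pt : Type _ := {p : F × F // Val C p.1 p.2}

/-- The origin. -/
def orig : Pt C := ⟨(0, 0), Val.zero⟩

/-- A frame, chosen once. -/
noncomputable def frame : Frame C 0 (Fin 3) :=
  (exists_frame C 0).some

/-- The vector of a point. -/
noncomputable def pv : Option (Pt C) → (Fin 3 → F)
  | none => (frame C).vec 1 0 0
  | some p => (frame C).vec p.1.2 p.1.1 1

open scoped Classical in
/-- The point of an isotropic vector. -/
noncomputable def ofVec (v : Fin 3 → F) : Option (Pt C) :=
  if h : herm C v ((frame C).e 0) ≠ 0 ∧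
      Val C (herm C v (-(frame C).x0) / herm C v ((frame C).e 0))
        (herm C v ((frame C).f 0) / herm C v ((frame C).e 0))
    then some ⟨(_, _), h.2⟩ else none

theorem herm_vec_vec (a y z : F) :
    herm C ((frame C).vec a y z) ((frame C).vec a y z) = a * C.σ z + y * C.σ y + z * C.σ a := by
  obtain ⟨h1, h2, h3⟩ := (frame C).herm_vec a y z
  conv_lhs => arg 3; rw [Frame.vec]
  rw [herm_add_right, herm_add_right, herm_smul_right, herm_smul_right, herm_smul_right, h1, h2, h3]
  ring

theorem pv_isotropic (x : Option (Pt C)) : herm C (pv C x) (pv C x) = 0 := by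
  cases x with
  | none => rw [pv, herm_vec_vec]; simp
  | some p =>
    have h := p.2
    unfold Val at h
    rw [pv, herm_vec_vec, map_one]; linear_combination h

theorem pv_ne_zero (x : Option (Pt C)) : pv C x ≠ 0 := by
  intro h
  obtain ⟨h1, -, h3⟩ : herm C (pv C x) ((frame C).e 0) = 0 ∧ True ∧
      herm C (pv C x) ((frame C).f 0) = 0 := by
    rw [h]; simp [herm_zero_left]
  cases x with
  | none => exact one_ne_zero (((frame C).herm_vec (1 : F) 0 0).2.2.symm.trans h3)
  | some p => exact one_ne_zero (((frame C).herm_vec p.1.2 p.1.1 (1 : F)).1.symm.trans h1)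

theorem ofVec_pv (x : Option (Pt C)) : ofVec C (pv C x) = x := by
  cases x with
  | none =>
    obtain ⟨h1, -, -⟩ := (frame C).herm_vec (1 : F) 0 0
    rw [pv, ofVec, dif_neg (fun h => h.1 h1)]
  | some p =>
    obtain ⟨h1, h2, h3⟩ := (frame C).herm_vec p.1.2 p.1.1 (1 : F)
    rw [pv, ofVec, dif_pos ⟨by rw [h1]; exact one_ne_zero, by rw [h1, h2, h3, div_one, div_one]; exact p.2⟩]
    refine congrArg some (Subtype.ext (Prod.ext ?_ ?_))
    · show _ / _ = _
      rw [h1, h2, div_one]
    · show _ / _ = _
      rw [h1, h3, div_one]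

theorem ofVec_smul {r : F} (hr : r ≠ 0) (v : Fin 3 → F) : ofVec C (r • v) = ofVec C v := by
  have e : ∀ x, herm C (r • v) x = r * herm C v x := fun x => herm_smul_left C r v x
  unfold ofVec
  split_ifs with h1 h2 h2
  · exact congrArg some (Subtype.ext (Prod.ext
      (by show _ / _ = _ / _; rw [e, e, mul_div_mul_left _ _ hr])
      (by show _ / _ = _ / _; rw [e, e, mul_div_mul_left _ _ hr])))
  · refine absurd ⟨fun h => h1.1 (by rw [e, h, mul_zero]), ?_⟩ h2
    have h := h1.2
    rwa [e, e, e, mul_div_mul_left _ _ hr, mul_div_mul_left _ _ hr] at h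
  · refine absurd ⟨fun h => h2.1 ((mul_eq_zero.1 ((e _).symm.trans h)).resolve_left hr), ?_⟩ h1
    rw [e, e, e, mul_div_mul_left _ _ hr, mul_div_mul_left _ _ hr]
    exact h2.2
  · rfl

/-- Every isotropic vector is a multiple of the vector of its point. -/
theorem exists_smul_pv {v : Fin 3 → F} (hv : herm C v v = 0) (hv0 : v ≠ 0) :
    ∃ r : F, r ≠ 0 ∧ v = r • pv C (ofVec C v) := by
  have e := vec_of (frame C) v
  set a := herm C v ((frame C).f 0) with ha
  set y := herm C v (-(frame C).x0) with hy
  set z := herm C v ((frame C).e 0) with hz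
  rw [e, herm_vec_vec] at hv
  by_cases h : z = 0
  · have hy0 : y = 0 := by
      rw [h, map_zero, mul_zero, zero_mul, zero_add, add_zero] at hv
      rcases mul_eq_zero.1 hv with h' | h'
      · exact h'
      · exact (map_eq_zero C.σ).1 h'
    have ha0 : a ≠ 0 := fun h' => hv0 (by rw [e, h', hy0, h, Frame.vec]; module)
    refine ⟨a, ha0, ?_⟩
    rw [ofVec, dif_neg (fun h' => h'.1 (hz ▸ h)), pv, Frame.smul_vec]
    exact e.trans (by rw [hy0, h, mul_zero, mul_one])
  · refine ⟨z, h, ?_⟩
    have hz' : C.σ z ≠ 0 := sigma_ne h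
    have hval : Val C (y / z) (a / z) := by
      unfold Val
      rw [map_div₀, map_div₀]
      field_simp
      linear_combination hv
    rw [ofVec, dif_pos ⟨hz ▸ h, by rw [← ha, ← hy, ← hz]; exact hval⟩, pv, Frame.smul_vec]
    refine e.trans ?_
    show (frame C).vec a y z = (frame C).vec (z * (a / z)) (z * (y / z)) (z * 1)
    rw [mul_div_cancel₀ _ h, mul_div_cancel₀ _ h, mul_one]

/-- The image of a point. -/
noncomputable def act (g : suG C (Fin 3)) (x : Option (Pt C)) : Option (Pt C) :=
  ofVec C (app C g (pv C x))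

theorem act_mul (g g' : suG C (Fin 3)) (x : Option (Pt C)) : act C (g * g') x = act C g (act C g' x) := by
  have h1 : herm C (app C g' (pv C x)) (app C g' (pv C x)) = 0 := by rw [herm_app, pv_isotropic]
  have h2 : app C g' (pv C x) ≠ 0 := fun h => pv_ne_zero C x (by
    have h' := app_inv_app C g' (pv C x)
    rw [h] at h'
    rw [← h']
    exact Matrix.mulVec_zero _)
  obtain ⟨r, hr, e⟩ := exists_smul_pv C h1 h2
  unfold act
  conv_lhs => rw [app_mul, e, app_smul, ofVec_smul C hr]

theorem act_one (x : Option (Pt C)) : act C 1 x = x := by rw [act, app_one, ofVec_pv]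

/-- The action of `SU_3` on the unital. -/
noncomputable def rho : suG C (Fin 3) →* Equiv.Perm (Option (Pt C)) where
  toFun g :=
    { toFun := act C g
      invFun := act C g⁻¹
      left_inv := fun x => by rw [← act_mul, inv_mul_cancel, act_one]
      right_inv := fun x => by rw [← act_mul, mul_inv_cancel, act_one] }
  map_one' := Equiv.ext (act_one C)
  map_mul' g g' := Equiv.ext (act_mul C g g')

/-- A root element of `SU_3`. -/
noncomputable def rootEl (p : Pt C) : suG C (Fin 3) := ((frame C).valid_e p.2).choose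

/-- The monomial element of `SU_3`. -/
noncomputable def flipEl : suG C (Fin 3) :=
  ((frame C).exists_monomial (d := (1 : F)) one_ne_zero).choose

theorem app_rootEl (p : Pt C) (a y z : F) : app C (rootEl C p) ((frame C).vec a y z) =
    (frame C).vec (a + p.1.2 * z - C.σ p.1.1 * y) (y + p.1.1 * z) z :=
  (frame C).app_e ((frame C).valid_e p.2).choose_spec a y z

theorem app_flipEl (a y z : F) :
    app C (flipEl C) ((frame C).vec a y z) = (frame C).vec z (-y) a := by
  obtain ⟨he, hx, hf⟩ := ((frame C).exists_monomial (d := (1 : F)) one_ne_zero).choose_spec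
  change app C (flipEl C) _ = _ at he
  change app C (flipEl C) _ = _ at hx
  change app C (flipEl C) _ = _ at hf
  rw [app_lin, he, hx, hf, map_one, inv_one, div_one, Frame.vec]
  module

/-- The translations. -/
noncomputable def transl (p : Pt C) : Equiv.Perm (Option (Pt C)) := rho C (rootEl C p)

/-- The flip. -/
noncomputable def tau : Equiv.Perm (Option (Pt C)) := rho C (flipEl C)

/-- The group generated by translations and flip. -/
noncomputable def modelGrp : Subgroup (Equiv.Perm (Option (Pt C))) :=
  Subgroup.closure (insert (tau C) (Set.range (transl C)))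

/-- The product of points. -/
def ptMul (p p' : Pt C) : Pt C :=
  ⟨(p.1.1 + p'.1.1, p.1.2 + p'.1.2 - C.σ p.1.1 * p'.1.1), p.2.mul p'.2⟩

theorem transl_none (p : Pt C) : transl C p none = none := by
  show ofVec C (app C (rootEl C p) (pv C none)) = _
  rw [show pv C none = (frame C).vec 1 0 0 from rfl, app_rootEl, mul_zero, mul_zero, mul_zero, add_zero,
    sub_zero, add_zero]
  exact ofVec_pv C none

theorem transl_some (p q : Pt C) : transl C p (some q) = some (ptMul C p q) := by
  show ofVec C (app C (rootEl C p) (pv C (some q))) = _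
  rw [show pv C (some q) = (frame C).vec q.1.2 q.1.1 1 from rfl, app_rootEl, mul_one, mul_one]
  have e : (frame C).vec (q.1.2 + p.1.2 - C.σ p.1.1 * q.1.1) (q.1.1 + p.1.1) 1 =
      pv C (some (ptMul C p q)) := by
    show _ = (frame C).vec _ _ 1
    simp only [ptMul]
    congr 1 <;> ring
  rw [e, ofVec_pv]

theorem tau_none : tau C none = some (orig C) := by
  show ofVec C (app C (flipEl C) (pv C none)) = _
  rw [show pv C none = (frame C).vec 1 0 0 from rfl, app_flipEl, neg_zero]
  exact ofVec_pv C (some (orig C))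

theorem tau_orig : tau C (some (orig C)) = none := by
  show ofVec C (app C (flipEl C) (pv C (some (orig C)))) = _
  rw [show pv C (some (orig C)) = (frame C).vec 0 0 1 from rfl, app_flipEl, neg_zero]
  exact ofVec_pv C none

theorem tau_some (p : Pt C) (hd : p.1.2 ≠ 0) :
    tau C (some p) = some ⟨(-p.1.1 / p.1.2, 1 / p.1.2), p.2.left hd⟩ := by
  show ofVec C (app C (flipEl C) (pv C (some p))) = _
  rw [show pv C (some p) = (frame C).vec p.1.2 p.1.1 1 from rfl, app_flipEl]
  have e : (frame C).vec 1 (-p.1.1) p.1.2 =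
      p.1.2 • pv C (some ⟨(-p.1.1 / p.1.2, 1 / p.1.2), p.2.left hd⟩) := by
    show _ = p.1.2 • (frame C).vec _ _ 1
    rw [Frame.smul_vec, mul_div_cancel₀ _ hd, mul_div_cancel₀ _ hd, mul_one]
  rw [e, ofVec_smul C hd, ofVec_pv]

theorem rho_range (hq : 3 ≤ C.q) : (rho C).range = modelGrp C := by
  refine le_antisymm ?_ ?_
  · have htop : Subgroup.closure (insert (flipEl C) (Set.range (rootEl C))) = ⊤ := by
      refine (frame C).eq_top_of_unip (by rintro ⟨-, h⟩; omega)
        (fun s d h => ⟨rootEl C ⟨(s, d), h⟩, Subgroup.subset_closure (Or.inr ⟨_, rfl⟩),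
          ((frame C).valid_e (s := s) (d := d) h).choose_spec⟩) (Subgroup.subset_closure (Or.inl rfl)) ?_
      have h : app C (flipEl C) ((frame C).e 0) = (frame C).f 0 := by
        rw [(frame C).vec_e, app_flipEl, neg_zero, ← (frame C).vec_f]
      rw [h, (frame C).fe le_rfl le_rfl, if_pos rfl]
      exact one_ne_zero
    rw [MonoidHom.range_eq_map, ← htop, MonoidHom.map_closure, modelGrp, Set.image_insert_eq,
      ← Set.range_comp]
    rfl
  · rw [modelGrp, Subgroup.closure_le]
    rintro g (rfl | ⟨p, rfl⟩)
    · exact ⟨_, rfl⟩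
    · exact ⟨_, rfl⟩

theorem rho_ker : (rho C).ker = center (suG C (Fin 3)) := by
  refine le_antisymm (fun g hg => ?_) (fun g hg => ?_)
  · have hline : ∀ x, ∃ r : F, r ≠ 0 ∧ app C g (pv C x) = r • pv C x := by
      intro x
      obtain ⟨r, hr, e⟩ := exists_smul_pv C (v := app C g (pv C x))
        (by rw [herm_app, pv_isotropic]) (fun h => pv_ne_zero C x (by
          have h' := app_inv_app C g (pv C x)
          rw [h] at h'
          rw [← h']
          exact Matrix.mulVec_zero _))
      have hx : ofVec C (app C g (pv C x)) = x := Equiv.congr_fun (MonoidHom.mem_ker.1 hg) x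
      rw [hx] at e
      exact ⟨r, hr, e⟩
    obtain ⟨t, ht⟩ := C.exists_trace_one
    have hp : Val C (1 : F) (-t) := by unfold Val; rw [map_neg, map_one]; linear_combination -ht
    obtain ⟨α, hα, he⟩ := hline none
    obtain ⟨γ, hγ, hf⟩ := hline (some (orig C))
    obtain ⟨lam, hlam, hm⟩ := hline (some ⟨(1, -t), hp⟩)
    simp only [pv, orig, Frame.smul_vec, mul_one, mul_zero] at he hf hm
    have hmid : app C g ((frame C).vec 0 1 0) = (frame C).vec (lam * -t + t * α) lam (lam - γ) := by
      have e : (frame C).vec 0 1 0 =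
          (frame C).vec (-t) 1 1 + t • (frame C).vec 1 0 0 + (-1 : F) • (frame C).vec 0 0 1 := by
        simp only [Frame.smul_vec, Frame.add_vec]; congr 1 <;> ring
      rw [e, app_add, app_add, app_smul, app_smul, hm, he, hf]
      simp only [Frame.smul_vec, Frame.add_vec]; congr 1 <;> ring
    obtain ⟨u1, u2, u3⟩ := (frame C).herm_vec (lam * -t + t * α) lam (lam - γ)
    obtain ⟨w1, w2, w3⟩ := (frame C).herm_vec (0 : F) 1 0
    have hz : lam - γ = 0 := by
      have h := herm_app C g ((frame C).vec 0 1 0) ((frame C).vec 1 0 0)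
      rw [hmid, he, show (frame C).vec α 0 0 = α • (frame C).vec 1 0 0 by
        rw [Frame.smul_vec, mul_one, mul_zero], ← (frame C).vec_e, herm_smul_right, u1, w1] at h
      rcases mul_eq_zero.1 h with h' | h'
      · exact absurd ((map_eq_zero C.σ).1 h') hα
      · exact h'
    have ha : lam * -t + t * α = 0 := by
      have h := herm_app C g ((frame C).vec 0 1 0) ((frame C).vec 0 0 1)
      rw [hmid, hf, show (frame C).vec 0 0 γ = γ • (frame C).vec 0 0 1 by
        rw [Frame.smul_vec, mul_one, mul_zero], ← (frame C).vec_f, herm_smul_right, u3, w3] at h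
      rcases mul_eq_zero.1 h with h' | h'
      · exact absurd ((map_eq_zero C.σ).1 h') hγ
      · exact h'
    have hlg : lam = γ := sub_eq_zero.1 hz
    have hla : α = lam := by
      rcases mul_eq_zero.1 (show t * (α - lam) = 0 by linear_combination ha) with h | h
      · rw [h, map_zero, add_zero] at ht; exact absurd ht zero_ne_one
      · exact sub_eq_zero.1 h
    have hscal : ∀ v, app C g v = lam • v := by
      intro v
      rw [vec_of (frame C) v, app_lin, (frame C).vec_e, (frame C).vec_x, (frame C).vec_f, he, hmid,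
        hf, ha, hz, hla, ← hlg]
      simp only [Frame.smul_vec, Frame.add_vec]
      congr 1 <;> ring
    refine mem_center_iff.2 fun k => suG_ext C fun v => ?_
    rw [app_mul, app_mul, hscal, hscal, app_smul]
  · obtain ⟨a, ha⟩ := central_scalar (frame C) hg
    have ha0 : a ≠ 0 := by
      rintro rfl
      have h := app_inv_app C g (pv C none)
      rw [ha, zero_smul] at h
      exact pv_ne_zero C none (h.symm.trans (Matrix.mulVec_zero _))
    refine MonoidHom.mem_ker.2 (Equiv.ext fun x => ?_)
    show ofVec C (app C g (pv C x)) = x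
    rw [ha, ofVec_smul C ha0, ofVec_pv]

theorem map_center_equiv {A B : Type*} [Group A] [Group B] (e : A ≃* B) :
    (center A).map e.toMonoidHom = center B := by
  ext b
  simp only [mem_map, mem_center_iff, MulEquiv.coe_toMonoidHom]
  constructor
  · rintro ⟨a, ha, rfl⟩ x
    obtain ⟨y, rfl⟩ := e.surjective x
    rw [← map_mul, ha, map_mul]
  · intro hb
    refine ⟨e.symm b, fun x => e.injective ?_, e.apply_symm_apply b⟩
    rw [map_mul, map_mul, e.apply_symm_apply, hb]

/-- The model group is `PSU_3(q)`. -/
theorem nonempty_modelGrp_equiv (hq : 3 ≤ C.q) : Nonempty (modelGrp C ≃* Cfsg.PSU 3 F C.q) := by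
  let E : suG C (Fin 3) ≃* Cfsg.SU 3 F C.q := MulEquiv.subgroupCongr (suG_fin_eq C 3)
  exact ⟨((MulEquiv.subgroupCongr (rho_range C hq)).symm.trans
    (QuotientGroup.quotientKerEquivRange (rho C)).symm).trans
    (QuotientGroup.congr _ _ E (by rw [rho_ker]; exact map_center_equiv E))⟩

end CfsgLib.SuzukiTheorem.Unital
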