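import Cfsg.Agent.SuzukiTheorem.Model
import Cfsg.Agent.SuzukiTheorem.UnitalModel

/-!
# The unital model of `SuzukiTheorem.Model` is `PSU₃(q)`
-/

set_option autoImplicit false

namespace CfsgLib.SuzukiThm.Unitary

open CfsgLib.RepBounds.Unit CfsgLib.SUThreePresentation CfsgLib.SuzukiTheorem

variable {F : Type} [Field F] [Fintype F]

/-- The change of coordinates `(s, d) ↦ (σ s, d)`. -/
def ptEquiv (C : ConjField F) [CharP F 2] : Unital.Pt C ≃ QPt F C.q where
  toFun p := ⟨(C.σ p.1.1, p.1.2), by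
    have h := p.2
    unfold Val at h
    rw [← C.pow, ← C.pow, C.invol]
    have h2 : (2 : F) = 0 := CharTwo.two_eq_zero
    linear_combination h - C.σ p.1.1 * p.1.1 * h2⟩
  invFun x := ⟨(C.σ x.1.1, x.1.2), by
    have h := x.2
    rw [← C.pow, ← C.pow] at h
    unfold Val
    rw [C.invol]
    have h2 : (2 : F) = 0 := CharTwo.two_eq_zero
    linear_combination h + C.σ x.1.1 * x.1.1 * h2⟩
  left_inv p := Subtype.ext (Prod.ext (C.invol _) rfl)
  right_inv x := Subtype.ext (Prod.ext (C.invol _) rfl)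

variable (C : ConjField F) [CharP F 2]

/-- The induced isomorphism of permutation groups. -/
def permEquiv : Equiv.Perm (Option (Unital.Pt C)) ≃* Equiv.Perm (Pt F C.q) :=
  Equiv.permCongrHom (Equiv.optionCongr (ptEquiv C))

theorem permEquiv_none (g : Equiv.Perm (Option (Unital.Pt C))) :
    permEquiv C g none = Option.map (ptEquiv C) (g none) := rfl

theorem permEquiv_some (g : Equiv.Perm (Option (Unital.Pt C))) (x : QPt F C.q) :
    permEquiv C g (some x) = Option.map (ptEquiv C) (g (some ((ptEquiv C).symm x))) := rfl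

theorem isTransl_transl (p : Unital.Pt C) :
    IsTransl (permEquiv C (Unital.transl C p)) (ptEquiv C p).1.1 (ptEquiv C p).1.2 := by
  refine ⟨by rw [permEquiv_none, Unital.transl_none]; rfl, fun x => ?_⟩
  refine ⟨ptEquiv C (Unital.ptMul C p ((ptEquiv C).symm x)),
    by rw [permEquiv_some, Unital.transl_some]; rfl, ?_, ?_⟩
  · show C.σ (p.1.1 + C.σ x.1.1) = C.σ p.1.1 + x.1.1
    rw [map_add, C.invol]
  · show p.1.2 + x.1.2 - C.σ p.1.1 * C.σ x.1.1 = p.1.2 + x.1.2 + C.σ p.1.1 * x.1.1 ^ C.q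
    rw [CharTwo.sub_eq_add, ← C.pow]

theorem isTransl_unique {e e' : Equiv.Perm (Pt F C.q)} {u z : F} (h : IsTransl e u z)
    (h' : IsTransl e' u z) : e = e' := by
  refine Equiv.ext fun x => ?_
  cases x with
  | none => rw [h.1, h'.1]
  | some x =>
    obtain ⟨y, e1, e2, e3⟩ := h.2 x
    obtain ⟨y', e1', e2', e3'⟩ := h'.2 x
    rw [e1, e1']
    exact congrArg some (Subtype.ext (Prod.ext (e2.trans e2'.symm) (e3.trans e3'.symm)))

theorem eq_zero_of_snd {x : QPt F C.q} (h : x.1.2 = 0) : x = ptEquiv C (Unital.orig C) := by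
  have hx := x.2
  rw [h, zero_pow (by have := C.two_le; omega), add_zero] at hx
  have hu : x.1.1 = 0 := by
    rcases mul_eq_zero.1 hx.symm with h' | h'
    · exact h'
    · exact eq_zero_of_pow_eq_zero h'
  exact Subtype.ext (Prod.ext (hu.trans (map_zero C.σ).symm) h)

theorem isTau_tau : IsTau (permEquiv C (Unital.tau C)) := by
  refine ⟨fun x hx => ?_, fun x hx => ?_⟩
  · obtain rfl := eq_zero_of_snd C hx
    constructor
    · rw [permEquiv_some, Equiv.symm_apply_apply, Unital.tau_orig]; rfl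
    · rw [permEquiv_none, Unital.tau_none]; rfl
  · refine ⟨_, by rw [permEquiv_some, Unital.tau_some C _ hx]; rfl, ?_, rfl⟩
    show C.σ (-C.σ x.1.1 / x.1.2) = x.1.1 / x.1.2 ^ C.q
    rw [map_div₀, map_neg, C.invol, ← C.pow, CharTwo.neg_eq]

theorem isTau_unique {e e' : Equiv.Perm (Pt F C.q)} (h : IsTau e) (h' : IsTau e') : e = e' := by
  refine Equiv.ext fun x => ?_
  cases x with
  | none =>
    exact (h.1 (ptEquiv C (Unital.orig C)) rfl).2.trans (h'.1 (ptEquiv C (Unital.orig C)) rfl).2.symm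
  | some x =>
    by_cases hx : x.1.2 = 0
    · exact (h.1 x hx).1.trans (h'.1 x hx).1.symm
    · obtain ⟨y, e1, e2, e3⟩ := h.2 x hx
      obtain ⟨y', e1', e2', e3'⟩ := h'.2 x hx
      rw [e1, e1']
      exact congrArg some (Subtype.ext (Prod.ext (e2.trans e2'.symm) (e3.trans e3'.symm)))

theorem map_modelGrp :
    (Unital.modelGrp C).map (permEquiv C).toMonoidHom = modelGroup F C.q := by
  rw [Unital.modelGrp, modelGroup, MonoidHom.map_closure]
  congr 1
  refine Set.Subset.antisymm ?_ ?_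
  · rintro _ ⟨g, rfl | ⟨p, rfl⟩, rfl⟩
    · exact Or.inr (isTau_tau C)
    · exact Or.inl ⟨_, _, (ptEquiv C p).2, isTransl_transl C p⟩
  · rintro e (⟨u, z, h, he⟩ | he)
    · refine ⟨Unital.transl C ((ptEquiv C).symm ⟨(u, z), h⟩), Or.inr ⟨_, rfl⟩, ?_⟩
      refine isTransl_unique C ?_ he
      have h1 := isTransl_transl C ((ptEquiv C).symm ⟨(u, z), h⟩)
      have h2 := (ptEquiv C).apply_symm_apply (⟨(u, z), h⟩ : QPt F C.q)
      rw [h2] at h1
      exact h1
    · exact ⟨_, Or.inl rfl, isTau_unique C (isTau_tau C) he⟩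

/-- **The model is `PSU₃(q)`.** -/
theorem nonempty_modelGroup_equiv {G : Type} [Field G] [Fintype G] {n : ℕ} (hn : 2 ≤ n)
    (hcard : Fintype.card G = (2 ^ n) ^ 2) :
    Nonempty (modelGroup G (2 ^ n) ≃* Cfsg.PSU 3 G (2 ^ n)) := by
  obtain ⟨C, hC⟩ := exists_conjField (2 ^ n) hcard
  have : CharP G 2 := by
    obtain ⟨p, hp⟩ := CharP.exists G
    obtain ⟨k, hpp, hk⟩ := FiniteField.card G p
    have hd : p ∣ 2 := hpp.dvd_of_dvd_pow
      (show p ∣ 2 ^ (n * 2) by rw [pow_mul, ← hcard, hk]; exact dvd_pow_self p k.ne_zero)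
    rwa [(Nat.prime_dvd_prime_iff_eq hpp Nat.prime_two).1 hd] at hp
  have h4 : 2 ^ 2 ≤ 2 ^ n := Nat.pow_le_pow_right (by norm_num) hn
  rw [← hC]
  obtain ⟨e⟩ := Unital.nonempty_modelGrp_equiv C (by omega)
  exact ⟨((MulEquiv.subgroupCongr (map_modelGrp C)).symm.trans
    ((permEquiv C).subgroupMap (Unital.modelGrp C)).symm).trans e⟩

end CfsgLib.SuzukiThm.Unitary
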