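import Cfsg.Agent.SuzukiTheorem.LineData
import Cfsg.Agent.SuzukiTheorem.Circles

/-!
# The shapes on `Q ⧸ E`: the squaring map is an inverse anisotropic form

`rep v` is an element of `Q ∖ E` with second row `v`, `cls` the map to `Q ⧸ E`, and
`C T = {cls (rep v) | det(T, v) = 1} ∪ {1}`.  The functional equation of `g` gives
`C (T + n(R) R) = cls (rep R) · C T` when `det(T, R) = 1`, where `rep R` squares to `ι (n R)`.
Hence the orbit of `C T` under translations gives an oval invariant under transvections, so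
`n(R) = 1 / N(R)` for an anisotropic form `N`, and `w ↦ cls (rep (w / N w))` is additive on
independent pairs.
-/

set_option autoImplicit false
set_option linter.unusedSectionVars false
set_option linter.unusedSimpArgs false
set_option linter.style.haveILetI false

namespace CfsgLib.SuzukiCoords

open CfsgLib.SuzukiThm

universe u v

variable {G : Type u} {Ω : Type v} [Group G] [MulAction G Ω] [Finite G] {a : Ω} {t : G}
  {Q : Subgroup G} {P : Frame a t Q} {F : Type} [Field F] [Fintype F] [CharP F 2]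
  {L : LineData P F}

/-- The determinant of two rows. -/
def rdet (v w : F × F) : F := v.1 * w.2 + v.2 * w.1

theorem rdet_self (v : F × F) : rdet v v = 0 := by
  rw [rdet, mul_comm v.2, CharTwo.add_self_eq_zero]

theorem rdet_comm (v w : F × F) : rdet v w = rdet w v := by simp [rdet]; ring

theorem rdet_add_smul_self (v w : F × F) (c : F) : rdet (v + c • w) w = rdet v w := by
  simp [rdet]
  linear_combination (c * w.1 * w.2) * CharTwo.two_eq_zero (R := F)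

theorem rdet_add_right (v w x : F × F) : rdet v (w + x) = rdet v w + rdet v x := by
  simp [rdet]; ring

theorem rdet_smul_left (v w : F × F) (c : F) : rdet (c • v) w = c * rdet v w := by
  simp [rdet]; ring

theorem rdet_smul_right (v w : F × F) (c : F) : rdet v (c • w) = c * rdet v w := by
  simp [rdet]; ring

theorem exists_rdet_eq {v : F × F} (hv : v ≠ 0) (c : F) : ∃ w : F × F, rdet w v = c := by
  by_cases h : v.2 = 0
  · have h1 : v.1 ≠ 0 := fun h1 => hv (Prod.ext h1 h)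
    exact ⟨(0, c / v.1), by simp [rdet, h, div_mul_cancel₀ _ h1]⟩
  · exact ⟨(c / v.2, 0), by simp [rdet, div_mul_cancel₀ _ h]⟩

theorem eq_smul_of_rdet {v w : F × F} (hv : v ≠ 0) (h : rdet v w = 0) : ∃ c : F, w = c • v := by
  rw [rdet, CharTwo.add_eq_zero] at h
  by_cases h0 : v.1 = 0
  · have h1 : v.2 ≠ 0 := fun h1 => hv (Prod.ext h0 h1)
    rw [h0, zero_mul] at h
    refine ⟨w.2 / v.2, Prod.ext ?_ ?_⟩
    · simp [h0, (mul_eq_zero.1 h.symm).resolve_left h1]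
    · simp [div_mul_cancel₀ _ h1]
  · refine ⟨w.1 / v.1, Prod.ext ?_ ?_⟩
    · simp [div_mul_cancel₀ _ h0]
    · simp
      field_simp
      linear_combination h

theorem eq_of_rdet_one {T T' v : F × F} (h : ∀ w, rdet T w = 1 → rdet T' w = 1)
    (hv : rdet T v = 1) : T = T' := by
  have h0 : T ≠ 0 := fun h0 => by simp [rdet, h0] at hv
  have h1 := h v hv
  have h2 := h (v + T) (by rw [rdet_add_right, hv, rdet_self, add_zero])
  rw [rdet_add_right, h1, add_eq_left] at h2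
  obtain ⟨c, hc⟩ := eq_smul_of_rdet h0 (by rw [rdet_comm]; exact h2)
  rw [hc, rdet_smul_left, hv, mul_one] at h1
  rw [hc, h1, one_smul]

variable (R : RowData L) (hsq : ∀ x ∈ Q, x * x ∈ P.E)

theorem R_ne_zero {x : G} (hx : x ∈ Q) (hxE : x ∉ P.E) : R.R x ≠ 0 := fun h => by
  simpa [h] using R.det x hx hxE

theorem T_ne_zero {x : G} (hx : x ∈ Q) (hxE : x ∉ P.E) : R.T x ≠ 0 := fun h => by
  simpa [h] using R.det x hx hxE

theorem ι_mem (c : F) : L.ι c ∈ P.E := by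
  rw [← SetLike.mem_coe, ← L.range_ι]
  exact ⟨c, rfl⟩

theorem exists_ι {x : G} (hx : x ∈ P.E) : ∃ c : F, L.ι c = x := by
  rw [← SetLike.mem_coe, ← L.range_ι] at hx
  exact hx

theorem ι_zero : L.ι 0 = 1 := by
  have h := L.ι_add 0 0
  rw [add_zero] at h
  exact mul_eq_right.1 h.symm

theorem ι_inv (c : F) : (L.ι c)⁻¹ = L.ι c := P.E_inv (ι_mem c)

theorem mul_mem_E_iff {x : G} {e : G} (he : e ∈ P.E) : e * x ∈ P.E ↔ x ∈ P.E :=
  P.E.mul_mem_cancel_left he

theorem ι_comm (c : F) {x : G} (hx : x ∈ Q) : L.ι c * x = x * L.ι c := P.E_central (ι_mem c) hx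

include R in
/-- Elements with the same second row lie in one coset of `E`. -/
theorem exists_ι_of_R_eq {x y : G} (hx : x ∈ Q) (hxE : x ∉ P.E) (hy : y ∈ Q) (hyE : y ∉ P.E)
    (h : R.R x = R.R y) : ∃ μ : F, y = L.ι μ * x := by
  have hd : rdet (R.R x) (R.T x + R.T y) = 0 := by
    rw [rdet_add_right, rdet_comm _ (R.T x), rdet_comm _ (R.T y)]
    have h1 : rdet (R.T x) (R.R x) = 1 := R.det x hx hxE
    have h2 : rdet (R.T y) (R.R y) = 1 := R.det y hy hyE
    rw [h1, h, h2, CharTwo.add_self_eq_zero]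
  obtain ⟨μ, hμ⟩ := eq_smul_of_rdet (R_ne_zero R hx hxE) hd
  refine ⟨μ, ?_⟩
  obtain ⟨h1, h2⟩ := R.mul_ι x hx hxE μ
  have hT : R.T y = R.T x + μ • R.R x := by
    rw [← hμ, ← add_assoc, CharTwo.add_self_eq_zero, zero_add]
  exact (R.bij (R.T y) (R.R y) (R.det y hy hyE)).unique ⟨⟨hy, hyE⟩, rfl, rfl⟩
    ⟨⟨mul_mem (P.E_le (ι_mem μ)) hx, fun hm => hxE ((mul_mem_E_iff (ι_mem μ)).1 hm)⟩,
      by rw [h1, hT], by rw [h2, h]⟩

include R in
theorem exists_with_R {v : F × F} (hv : v ≠ 0) : ∃ x : ↥Q, (x : G) ∉ P.E ∧ R.R x = v := by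
  obtain ⟨w, hw⟩ := exists_rdet_eq hv 1
  obtain ⟨x, ⟨hx, -, hR⟩, -⟩ := R.bij w v hw
  exact ⟨⟨x, hx.1⟩, hx.2, hR⟩

open scoped Classical in
/-- An element with second row `v`; `1` for `v = 0`. -/
noncomputable def rep (v : F × F) : ↥Q :=
  if h : v ≠ 0 then (exists_with_R R h).choose else 1

theorem rep_spec {v : F × F} (hv : v ≠ 0) : (rep R v : G) ∉ P.E ∧ R.R (rep R v) = v := by
  rw [rep, dif_pos hv]
  exact (exists_with_R R hv).choose_spec

theorem rep_zero : rep R (0 : F × F) = 1 := by simp [rep]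

/-- `E` inside `Q`. -/
def Esub (P : Frame a t Q) : Subgroup ↥Q := P.E.subgroupOf Q

instance (P : Frame a t Q) : (Esub P).Normal := ⟨fun x hx y => by
  show ((y * x * y⁻¹ : ↥Q) : G) ∈ P.E
  have h := P.E_central (show (x : G) ∈ P.E from hx) y.2
  simp only [Subgroup.coe_mul, InvMemClass.coe_inv]
  rw [← h, mul_inv_cancel_right]
  exact hx⟩

/-- The map to `Q ⧸ E`. -/
abbrev cls (P : Frame a t Q) : ↥Q →* ↥Q ⧸ Esub P := QuotientGroup.mk' (Esub P)

theorem cls_eq_one_iff {x : ↥Q} : cls P x = 1 ↔ (x : G) ∈ P.E := QuotientGroup.eq_one_iff x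

theorem cls_ι_mul (c : F) (x : ↥Q) :
    cls P (⟨L.ι c, P.E_le (ι_mem c)⟩ * x) = cls P x := by
  rw [map_mul, cls_eq_one_iff.2 (ι_mem c), one_mul]

theorem cls_rep {x : ↥Q} (hxE : (x : G) ∉ P.E) : cls P (rep R (R.R x)) = cls P x := by
  obtain ⟨h1, h2⟩ := rep_spec R (R_ne_zero R x.2 hxE)
  obtain ⟨μ, hμ⟩ := exists_ι_of_R_eq R x.2 hxE (rep R (R.R x)).2 h1 h2.symm
  rw [show rep R (R.R x) = ⟨L.ι μ, P.E_le (ι_mem μ)⟩ * x from Subtype.ext hμ, cls_ι_mul]

/-- The point of `Q ⧸ E` with second row `v`. -/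
noncomputable def pt (v : F × F) : ↥Q ⧸ Esub P := cls P (rep R v)

theorem pt_eq_one_iff {v : F × F} : pt R v = 1 ↔ v = 0 := by
  refine ⟨fun h => by_contra fun hv => (rep_spec R hv).1 (cls_eq_one_iff.1 h), ?_⟩
  rintro rfl
  rw [pt, rep_zero, map_one]

theorem pt_injective : Function.Injective (pt R : F × F → ↥Q ⧸ Esub P) := by
  intro v w h
  by_cases hv : v = 0
  · exact hv.trans ((pt_eq_one_iff R).1 (h.symm.trans ((pt_eq_one_iff R).2 hv))).symm
  have hw : w ≠ 0 := fun hw => hv ((pt_eq_one_iff R).1 (h.trans ((pt_eq_one_iff R).2 hw)))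
  obtain ⟨h1, h2⟩ := rep_spec R hv
  obtain ⟨h3, h4⟩ := rep_spec R hw
  have h5 : ((rep R v : G))⁻¹ * rep R w ∈ P.E :=
    (QuotientGroup.eq (s := Esub P) (a := rep R v) (b := rep R w)).1 h
  obtain ⟨μ, hμ⟩ := exists_ι (L := L) h5
  have h6 : (rep R w : G) = L.ι μ * rep R v := by
    rw [ι_comm μ (rep R v).2, hμ, mul_inv_cancel_left]
  rw [← h4, h6, ((R.mul_ι _ (rep R v).2 h1 μ)).2, h2]

section

include hsq

theorem cls_mul_self (X : ↥Q ⧸ Esub P) : X * X = 1 := by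
  induction X using QuotientGroup.induction_on with
  | H x =>
    show cls P x * cls P x = 1
    rw [← map_mul, cls_eq_one_iff]
    exact hsq x x.2

theorem cls_comm (X Y : ↥Q ⧸ Esub P) : X * Y = Y * X := by
  have hi : ∀ Z : ↥Q ⧸ Esub P, Z⁻¹ = Z := fun Z => inv_eq_of_mul_eq_one_right (cls_mul_self hsq Z)
  rw [← hi (X * Y), mul_inv_rev, hi, hi]

theorem inv_eq (X : ↥Q ⧸ Esub P) : X⁻¹ = X := inv_eq_of_mul_eq_one_right (cls_mul_self hsq X)

theorem exists_sq (x : ↥Q) : ∃ c : F, L.ι c = (x : G) * x := exists_ι (hsq x x.2)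

/-- `x * x = ι (sqv v)` for `x` of second row `v`. -/
noncomputable def sqv (v : F × F) : F := (exists_sq (L := L) hsq (rep R v)).choose

theorem sq_eq {x : G} (hx : x ∈ Q) (hxE : x ∉ P.E) : x * x = L.ι (sqv R hsq (R.R x)) := by
  obtain ⟨h1, h2⟩ := rep_spec R (R_ne_zero R hx hxE)
  obtain ⟨μ, hμ⟩ := exists_ι_of_R_eq R (rep R (R.R x)).2 h1 hx hxE h2
  have h3 := (exists_sq (L := L) hsq (rep R (R.R x))).choose_spec
  rw [sqv, h3]
  conv_lhs => rw [hμ]
  rw [mul_assoc, ← mul_assoc (rep R (R.R x) : G) (L.ι μ), ← ι_comm μ (rep R (R.R x)).2,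
    ← mul_assoc, ← mul_assoc, P.E_sq (ι_mem μ), one_mul]

theorem sqv_ne_zero {v : F × F} (hv : v ≠ 0) : sqv R hsq v ≠ 0 := fun h => by
  obtain ⟨h1, h2⟩ := rep_spec R hv
  have := sq_eq R hsq (rep R v).2 h1
  rw [h2, h, ι_zero] at this
  exact h1 (P.mem_E_of_mem_Q (rep R v).2 this)

theorem rows_inv {x : G} (hx : x ∈ Q) (hxE : x ∉ P.E) :
    R.T x⁻¹ = R.T x + sqv R hsq (R.R x) • R.R x ∧ R.R x⁻¹ = R.R x := by
  have h : x⁻¹ = L.ι (sqv R hsq (R.R x)) * x := by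
    refine inv_eq_of_mul_eq_one_right ?_
    rw [ι_comm _ hx, ← mul_assoc, sq_eq R hsq hx hxE, P.E_sq (ι_mem _)]
  rw [h]
  exact R.mul_ι x hx hxE _

theorem sqv_smul {v : F × F} (hv : v ≠ 0) (c : Fˣ) :
    sqv R hsq (((c⁻¹ : Fˣ) : F) • v) = (c : F) * c * sqv R hsq v := by
  obtain ⟨h1, h2⟩ := rep_spec R hv
  set x : G := (rep R v : G)
  have hk : L.κ c ∈ P.K := by rw [← L.range_κ]; exact ⟨c, rfl⟩
  have hq : L.κ c * x * (L.κ c)⁻¹ ∈ Q := RankOne.D_norm_Q P.hS (P.K_le hk) (rep R v).2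
  have hE : L.κ c * x * (L.κ c)⁻¹ ∉ P.E := fun h => h1 (by
    have := P.D_norm_E (inv_mem (P.K_le hk)) h
    rwa [show (L.κ c)⁻¹ * (L.κ c * x * (L.κ c)⁻¹) * (L.κ c)⁻¹⁻¹ = x by group] at this)
  have h3 := sq_eq R hsq hq hE
  rw [(R.conj_κ x (rep R v).2 h1 c).2, h2,
    show L.κ c * x * (L.κ c)⁻¹ * (L.κ c * x * (L.κ c)⁻¹) = L.κ c * (x * x) * (L.κ c)⁻¹ by group,
    sq_eq R hsq (rep R v).2 h1, h2, L.conj_ι] at h3
  exact (L.ι_injective h3).symm

/-- The functional equation of `g`. -/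
theorem exists_product {x : G} (hx : x ∈ Q) (hxE : x ∉ P.E) {ν : F} (hν : ν ≠ 0) :
    ∃ y, y ∈ Q ∧ y ∉ P.E ∧ R.T y = R.T x + sqv R hsq (R.R x) • R.R x ∧
      R.R y = R.R x + ν • (R.T x + sqv R hsq (R.R x) • R.R x) ∧
      x * y ∉ P.E ∧ R.T (x * y) = R.T x ∧ ∃ ν' : F, R.R (x * y) = R.R x + ν' • R.T x := by
  have hx1 : x ≠ 1 := fun h => hxE (h ▸ one_mem _)
  have hxi : x⁻¹ ∈ Q := inv_mem hx
  have hxiE : x⁻¹ ∉ P.E := fun h => hxE (P.E.inv_mem_iff.1 h)
  obtain ⟨hTi, hRi⟩ := rows_inv R hsq hx hxE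
  have hw : P.g x⁻¹ ∈ Q := P.g_mem _
  have hwE := R.g_mem _ hxi hxiE
  obtain ⟨hTw, hRw⟩ := R.rows_g _ hxi hxiE
  rw [hRi] at hTw
  rw [hTi] at hRw
  set z := L.ι ν * P.g x⁻¹ with hz
  have hzQ : z ∈ Q := mul_mem (P.E_le (ι_mem ν)) hw
  have hzE : z ∉ P.E := fun h => hwE ((mul_mem_E_iff (ι_mem ν)).1 h)
  have hz1 : z ≠ 1 := fun h => hzE (h ▸ one_mem _)
  obtain ⟨hTz, hRz⟩ := R.mul_ι _ hw hwE ν
  rw [← hz, hTw, hRw] at hTz
  rw [← hz, hRw] at hRz
  set y := P.g z with hy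
  have hyE : y ∉ P.E := R.g_mem _ hzQ hzE
  obtain ⟨hTy, hRy⟩ := R.rows_g _ hzQ hzE
  rw [← hy, hRz] at hTy
  rw [← hy, hTz] at hRy
  have hgy : P.f x * P.g y = L.ι ν := by
    rw [hy, P.g_g hzQ hz1, hz, (P.parts_inv hx hx1).1, ← mul_assoc, ← ι_comm ν (P.f_mem x),
      mul_inv_cancel_right]
  have hxy : x * y ≠ 1 := fun h => by
    have h2 : y = x⁻¹ := eq_inv_of_mul_eq_one_right h
    rw [h2, (P.parts_inv hx hx1).1, mul_inv_cancel] at hgy
    exact hν (L.ι_injective (hgy.symm.trans ι_zero.symm))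
  obtain ⟨-, hg, -, -⟩ := P.parts_mul hx hx1 (P.g_mem z) (P.g_ne_one hzQ hz1) hxy
  rw [hgy] at hg
  have heE : P.h x * P.g (L.ι ν) * (P.h x)⁻¹ ∈ P.E := by
    rw [L.g_ι ν hν]
    exact P.D_norm_E (P.h_mem x) (ι_mem (L := L) _)
  obtain ⟨ν', hν'⟩ := exists_ι (L := L) heE
  rw [← hν', ← ι_comm ν' (P.g_mem x)] at hg
  have hgxE := R.g_mem _ hx hxE
  obtain ⟨hTg, hRg⟩ := R.rows_g _ hx hxE
  obtain ⟨hTm, hRm⟩ := R.mul_ι _ (P.g_mem x) hgxE ν'
  rw [hTg, hRg] at hTm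
  rw [hRg] at hRm
  have hxyQ : x * y ∈ Q := mul_mem hx (P.g_mem z)
  have hmE : L.ι ν' * P.g x ∉ P.E := fun h => hgxE ((mul_mem_E_iff (ι_mem ν')).1 h)
  have hmQ : L.ι ν' * P.g x ∈ Q := mul_mem (P.E_le (ι_mem ν')) (P.g_mem x)
  have he : x * y = P.g (L.ι ν' * P.g x) := by rw [← hg, P.g_g hxyQ hxy]
  have hxyE : x * y ∉ P.E := he ▸ R.g_mem _ hmQ hmE
  obtain ⟨h5, h6⟩ := R.rows_g _ hmQ hmE
  rw [← he, hRm] at h5
  rw [← he, hTm] at h6
  exact ⟨y, P.g_mem z, hyE, hTy, hRy, hxyE, h5, ν', h6⟩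

/-- The shape of `T`. -/
def C (T : F × F) : Set (↥Q ⧸ Esub P) := insert 1 (pt R '' {v | rdet T v = 1})

omit hsq in
theorem card_C {T : F × F} (hT : T ≠ 0) : (C R T).ncard = Fintype.card F + 1 := by
  obtain ⟨v, hv⟩ := exists_rdet_eq hT 1
  rw [rdet_comm] at hv
  rw [C, Set.ncard_insert_of_notMem, Set.ncard_image_of_injective _ (pt_injective R)]
  · congr 1
    have : {w | rdet T w = 1} = Set.range fun c : F => v + c • T := by
      ext w
      refine ⟨fun hw => ?_, ?_⟩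
      · obtain ⟨c, hc⟩ := eq_smul_of_rdet hT (w := v + w)
          (by rw [rdet_add_right, hv, hw, CharTwo.add_self_eq_zero])
        exact ⟨c, show v + c • T = w by rw [← hc, ← add_assoc, CharTwo.add_self_eq_zero, zero_add]⟩
      · rintro ⟨c, rfl⟩
        show rdet T (v + c • T) = 1
        rw [rdet_add_right, rdet_smul_right, rdet_self, hv, mul_zero, add_zero]
    rw [this, Set.ncard_range_of_injective, Nat.card_eq_fintype_card]
    exact fun c d h => smul_left_injective F hT (add_left_cancel h)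
  · rintro ⟨w, hw, h1⟩
    rw [pt_eq_one_iff] at h1
    simp [h1, rdet] at hw


omit hsq in
theorem eq_of_C_eq {T T' : F × F} (hT : T ≠ 0) (h : C R T = C R T') : T = T' := by
  obtain ⟨v, hv⟩ := exists_rdet_eq hT 1
  refine eq_of_rdet_one (fun w hw => ?_) (show rdet T v = 1 by rw [rdet_comm]; exact hv)
  have hmem : pt R w ∈ C R T := Or.inr ⟨w, hw, rfl⟩
  rw [h] at hmem
  rcases hmem with h1 | ⟨w', hw', h1⟩
  · rw [pt_eq_one_iff] at h1
    simp [h1, rdet] at hw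
  · exact (pt_injective R h1) ▸ hw'

theorem add_sqv_ne_zero {T v : F × F} (hd : rdet T v = 1) : T + sqv R hsq v • v ≠ 0 := fun h => by
  have := rdet_add_smul_self T v (sqv R hsq v)
  rw [h, hd] at this
  simp [rdet] at this

/-- The translation between shapes. -/
theorem C_translate {T v : F × F} (hd : rdet T v = 1) :
    C R (T + sqv R hsq v • v) = (fun X => pt R v * X) '' C R T := by
  obtain ⟨x, ⟨⟨hx, hxE⟩, hTx, hRx⟩, -⟩ := R.bij T v hd
  set T' := T + sqv R hsq v • v with hT'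
  have hxv : cls P ⟨x, hx⟩ = pt R v := by
    rw [pt, ← hRx]; exact (cls_rep R (x := ⟨x, hx⟩) hxE).symm
  have hmul : ∀ X : ↥Q ⧸ Esub P, pt R v * (pt R v * X) = X := fun X => by
    rw [← mul_assoc, cls_mul_self hsq, one_mul]
  have hsub : ((fun X => pt R v * X) '' C R T') ⊆ C R T := by
    rintro _ ⟨X, hX, rfl⟩
    rcases hX with rfl | ⟨w, hw, rfl⟩
    · exact Or.inr ⟨v, hd, (mul_one _).symm⟩
    rw [Set.mem_ofPred_eq] at hw
    have hd' : rdet T' v = 1 := by rw [hT', rdet_add_smul_self, hd]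
    obtain ⟨ν, hν⟩ := eq_smul_of_rdet (add_sqv_ne_zero R hsq hd) (w := v + w)
      (by rw [rdet_add_right, hd', hw, CharTwo.add_self_eq_zero])
    have hw' : w = v + ν • T' := by rw [← hν, ← add_assoc, CharTwo.add_self_eq_zero, zero_add]
    by_cases h0 : ν = 0
    · rw [hw', h0, zero_smul, add_zero]
      exact Or.inl (cls_mul_self hsq _)
    obtain ⟨y, hy, hyE, hTy, hRy, hxyE, hTxy, ν', hRxy⟩ := exists_product R hsq hx hxE h0
    rw [hTx, hRx] at hRy hRxy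
    refine Or.inr ⟨v + ν' • T, ?_, ?_⟩
    · show rdet T (v + ν' • T) = 1
      rw [rdet_add_right, rdet_smul_right, rdet_self, mul_zero, add_zero, hd]
    · show pt R (v + ν' • T) = pt R v * pt R w
      rw [← hxv, hw', hT', ← hRy, ← hRxy]
      unfold pt
      rw [cls_rep R (x := ⟨x * y, mul_mem hx hy⟩) hxyE, cls_rep R (x := ⟨y, hy⟩) hyE, ← map_mul]
      rfl
  have hT0 : T ≠ 0 := fun h => by simp [h, rdet] at hd
  have heq : ((fun X => pt R v * X) '' C R T') = C R T := by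
    refine Set.eq_of_subset_of_ncard_le hsub ?_ (Set.toFinite _)
    rw [Set.ncard_image_of_injective _ fun X Y h => mul_left_cancel h]
    exact ((card_C R hT0).trans (card_C R (add_sqv_ne_zero R hsq hd)).symm).le
  rw [← heq, ← Set.image_comp]
  conv_lhs => rw [← Set.image_id (C R T')]
  exact Set.image_congr fun X _ => (hmul X).symm

theorem eq_one_of_stab {T : F × F} (hT : T ≠ 0) {d : ↥Q ⧸ Esub P}
    (h : (fun X => d * X) '' C R T = C R T) : d = 1 := by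
  by_contra hd
  have h1 : d * 1 ∈ (fun X => d * X) '' C R T := ⟨1, Or.inl rfl, rfl⟩
  rw [h, mul_one] at h1
  rcases h1 with h1 | ⟨v, hv, rfl⟩
  · exact hd h1
  · rw [Set.mem_ofPred_eq] at hv
    rw [← C_translate R hsq hv] at h
    have h2 := eq_of_C_eq R (add_sqv_ne_zero R hsq hv) h
    rw [add_eq_left, smul_eq_zero] at h2
    rcases h2 with h2 | h2
    · exact sqv_ne_zero R hsq (fun h3 => by simp [h3, rdet] at hv) h2
    · simp [h2, rdet] at hv

/-- The translation class of `T₀`. -/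
def shapeClass (T₀ : F × F) : Set (F × F) :=
  {T | T ≠ 0 ∧ ∃ d : ↥Q ⧸ Esub P, C R T = (fun X => d * X) '' C R T₀}

theorem add_mem_shapeClass {T₀ T v : F × F} (hT : T ∈ shapeClass R T₀) (hd : rdet T v = 1) :
    T + sqv R hsq v • v ∈ shapeClass R T₀ := by
  obtain ⟨-, d, hd'⟩ := hT
  refine ⟨add_sqv_ne_zero R hsq hd, pt R v * d, ?_⟩
  rw [C_translate R hsq hd, hd', ← Set.image_comp]
  exact Set.image_congr fun X _ => (mul_assoc _ _ _).symm

/-- Conjugation by `κ c` on `Q ⧸ E`. -/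
theorem exists_sigma (c : Fˣ) :
    ∃ σ : ↥Q ⧸ Esub P →* ↥Q ⧸ Esub P, (∀ v, σ (pt R v) = pt R (((c⁻¹ : Fˣ) : F) • v)) ∧
      (c ≠ 1 → ∀ X, σ X = X → X = 1) := by
  have hk : L.κ c ∈ P.K := by rw [← L.range_κ]; exact ⟨c, rfl⟩
  let ψ : ↥Q →* ↥Q :=
    { toFun := fun x => ⟨L.κ c * x * (L.κ c)⁻¹, RankOne.D_norm_Q P.hS (P.K_le hk) x.2⟩
      map_one' := Subtype.ext (by simp)
      map_mul' := fun x y => Subtype.ext (by simp [mul_assoc]) }
  let σ := QuotientGroup.map (Esub P) (Esub P) ψ fun x hx => P.D_norm_E (P.K_le hk) hx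
  refine ⟨σ, fun v => ?_, fun hc X => ?_⟩
  · show cls P (ψ (rep R v)) = _
    by_cases hv : v = 0
    · rw [hv, rep_zero, map_one, map_one, smul_zero, (pt_eq_one_iff R).2 rfl]
    obtain ⟨h1, h2⟩ := rep_spec R hv
    have hE : (ψ (rep R v) : G) ∉ P.E := fun h => h1 (by
      have := P.D_norm_E (inv_mem (P.K_le hk)) h
      rwa [show (L.κ c)⁻¹ * (ψ (rep R v) : G) * (L.κ c)⁻¹⁻¹ = rep R v by
        simp [ψ, mul_assoc]] at this)
    rw [pt, ← cls_rep R hE]
    congr 2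
    rw [show (ψ (rep R v) : G) = L.κ c * rep R v * (L.κ c)⁻¹ from rfl,
      (R.conj_κ _ (rep R v).2 h1 c).2, h2]
  · induction X using QuotientGroup.induction_on with
    | H x =>
      intro h
      refine cls_eq_one_iff.2 (P.K_fpf_coset hk (fun h1 => hc (L.κ_injective (h1.trans (map_one _).symm)))
        x.2 ?_)
      exact (QuotientGroup.eq (s := Esub P) (a := x) (b := ψ x)).1 h.symm

theorem C_smul (c : Fˣ) {σ : ↥Q ⧸ Esub P →* ↥Q ⧸ Esub P}
    (hσ : ∀ v, σ (pt R v) = pt R (((c⁻¹ : Fˣ) : F) • v)) (T : F × F) :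
    C R ((c : F) • T) = σ '' C R T := by
  rw [C, C, Set.image_insert_eq, map_one, ← Set.image_comp]
  congr 1
  ext X
  constructor
  · rintro ⟨w, hw, rfl⟩
    refine ⟨(c : F) • w, ?_, by simp [hσ, smul_smul]⟩
    rw [Set.mem_ofPred_eq, rdet_smul_left] at hw
    rwa [Set.mem_ofPred_eq, rdet_smul_right]
  · rintro ⟨w, hw, rfl⟩
    refine ⟨((c⁻¹ : Fˣ) : F) • w, ?_, by simp [hσ]⟩
    rw [Set.mem_ofPred_eq] at hw ⊢
    rw [rdet_smul_left, rdet_smul_right, hw, mul_one, ← Units.val_mul, mul_inv_cancel, Units.val_one]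

/-- A translation class contains at most one point of each ray. -/
theorem eq_one_of_smul_mem {T₀ T : F × F} (hT : T ∈ shapeClass R T₀) {c : F}
    (hc : c • T ∈ shapeClass R T₀) : c = 1 := by
  classical
  have hcomm := cls_comm (P := P) hsq
  have himg : ∀ d e : ↥Q ⧸ Esub P, ∀ S : Set (↥Q ⧸ Esub P),
      (fun X => d * X) '' ((fun X => e * X) '' S) = (fun X => (d * e) * X) '' S := fun d e S => by
    rw [← Set.image_comp]
    exact Set.image_congr fun X _ => (mul_assoc d e X).symm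
  obtain ⟨hT0, d₀, hd₀⟩ := hT
  obtain ⟨hcT, d₁, hd₁⟩ := hc
  have hback : ∀ d : ↥Q ⧸ Esub P, (fun X => (d * d₀) * X) '' C R T =
      (fun X => d * X) '' C R T₀ := fun d => by
    rw [hd₀, himg, mul_assoc, cls_mul_self hsq, mul_one]
  have hcu : c ≠ 0 := fun h => hcT (by rw [h, zero_smul])
  let H : Submonoid Fˣ :=
    { carrier := {u | ∃ d : ↥Q ⧸ Esub P, C R ((u : F) • T) = (fun X => d * X) '' C R T}
      one_mem' := ⟨1, by simp⟩
      mul_mem' := fun {u u'} ⟨d, hd⟩ ⟨d', hd'⟩ => by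
        obtain ⟨σ, hσ, -⟩ := exists_sigma R hsq u
        refine ⟨σ d' * d, ?_⟩
        rw [Units.val_mul, mul_smul, C_smul R hsq u hσ, hd', ← himg, ← hd, C_smul R hsq u hσ,
          ← Set.image_comp, ← Set.image_comp]
        exact Set.image_congr fun X _ => map_mul σ d' X }
  have hmem : Units.mk0 c hcu ∈ H := ⟨d₁ * d₀, by rw [Units.val_mk0, hd₁, hback]⟩
  by_contra hc1
  have hu1 : Units.mk0 c hcu ≠ 1 := fun h => hc1 (by simpa using congrArg Units.val h)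
  set u := Units.mk0 c hcu
  obtain ⟨ℓ, hℓ, hℓd⟩ := Nat.exists_prime_and_dvd (n := orderOf u) (by rwa [Ne, orderOf_eq_one_iff])
  haveI : Fact ℓ.Prime := ⟨hℓ⟩
  set w := u ^ (orderOf u / ℓ) with hw
  have how : orderOf w = ℓ := by
    rw [hw, orderOf_pow' _ (Nat.div_pos (Nat.le_of_dvd (orderOf_pos u) hℓd) hℓ.pos).ne',
      Nat.gcd_eq_right (Nat.div_dvd_of_dvd hℓd), Nat.div_div_self hℓd (orderOf_pos u).ne']
  have hw1 : w ≠ 1 := fun h => by rw [h, orderOf_one] at how; exact hℓ.one_lt.ne how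
  obtain ⟨d, hd⟩ := H.pow_mem hmem (orderOf u / ℓ)
  rw [← hw] at hd
  obtain ⟨σ, hσ, hfpf⟩ := exists_sigma R hsq w
  rw [C_smul R hsq w hσ] at hd
  have hin : ∀ X ∈ C R T, d * σ X ∈ C R T := by
    intro X hX
    have h1 : σ X ∈ (fun X => d * X) '' C R T := hd ▸ Set.mem_image_of_mem σ hX
    obtain ⟨Y, hY, hY'⟩ := h1
    rw [← hY', ← mul_assoc, cls_mul_self hsq, one_mul]
    exact hY
  let f : Function.End ↥(C R T) := fun X => ⟨d * σ X.1, hin X.1 X.2⟩
  have hiter : ∀ i : ℕ, ∃ D : ↥Q ⧸ Esub P, ∀ X : ↥(C R T), ((f ^ i) X).1 = D * σ^[i] X.1 := by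
    intro i
    induction i with
    | zero => exact ⟨1, fun X => by rw [pow_zero, one_mul]; rfl⟩
    | succ i ih =>
      obtain ⟨D, hD⟩ := ih
      refine ⟨d * σ D, fun X => ?_⟩
      rw [pow_succ', Function.iterate_succ_apply']
      show d * σ ((f ^ i) X).1 = _
      rw [hD X, map_mul, mul_assoc]
  have hσℓ : ∀ X ∈ C R T, σ^[ℓ] X = X := by
    intro X hX
    have hi : ∀ i : ℕ, ∀ v : F × F, σ^[i] (pt R v) = pt R ((((w ^ i)⁻¹ : Fˣ) : F) • v) := by
      intro i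
      induction i with
      | zero => intro v; simp
      | succ i ih =>
        intro v
        rw [Function.iterate_succ_apply', ih, hσ, smul_smul]
        congr 2
        rw [← Units.val_mul, pow_succ, mul_inv_rev]
    rcases hX with rfl | ⟨v, -, rfl⟩
    · exact Function.iterate_fixed (map_one σ) ℓ
    · rw [hi, ← how, pow_orderOf_eq_one, inv_one, Units.val_one, one_smul]
  have hfℓ : f ^ ℓ ^ 1 = 1 := by
    obtain ⟨D, hD⟩ := hiter ℓ
    have hsub : (fun X => D * X) '' C R T ⊆ C R T := by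
      rintro _ ⟨X, hX, rfl⟩
      show D * X ∈ _
      rw [← hσℓ X hX, ← hD ⟨X, hX⟩]
      exact ((f ^ ℓ) ⟨X, hX⟩).2
    have hD1 : D = 1 := eq_one_of_stab R hsq hT0 (Set.eq_of_subset_of_ncard_le hsub
      (by rw [Set.ncard_image_of_injective _ fun X Y h => mul_left_cancel h]) (Set.toFinite _))
    funext X
    rw [pow_one]
    exact Subtype.ext (by rw [hD X, hD1, one_mul, hσℓ _ X.2]; rfl)
  haveI : Fintype ↥(C R T) := Fintype.ofFinite _
  have hmod := Equiv.Perm.card_fixedPoints_modEq (p := ℓ) (n := 1) hfℓ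
  have hfix : Fintype.card f.fixedPoints ≤ 1 := by
    refine Fintype.card_le_one_iff.2 fun X Y => ?_
    have hX : d * σ X.1.1 = X.1.1 := congrArg Subtype.val X.2
    have hY : d * σ Y.1.1 = Y.1.1 := congrArg Subtype.val Y.2
    have h1 : σ (X.1.1 * Y.1.1) = X.1.1 * Y.1.1 := by
      conv_rhs => rw [← hX, ← hY]
      rw [map_mul, hcomm d (σ X.1.1), mul_assoc, ← mul_assoc d d, cls_mul_self hsq, one_mul]
    have h2 := hfpf hw1 _ h1
    exact Subtype.ext (Subtype.ext ((mul_eq_one_iff_eq_inv.1 h2).trans (inv_eq hsq _)))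
  have hcardC : Fintype.card ↥(C R T) = Fintype.card F + 1 := by
    rw [← Nat.card_eq_fintype_card, Nat.card_coe_set_eq]
    exact card_C R hT0
  have hℓq : ℓ ∣ Fintype.card F - 1 := by
    rw [← how, ← Fintype.card_units]
    exact orderOf_dvd_card
  have hq : 2 ∣ Fintype.card F := by
    obtain ⟨n, -, hn⟩ := FiniteField.card F 2
    rw [hn]
    exact dvd_pow_self 2 n.ne_zero
  rw [hcardC] at hmod
  have hq1 : 1 ≤ Fintype.card F := Fintype.card_pos
  have h2mod : Fintype.card F + 1 ≡ 2 [MOD ℓ] := by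
    refine ((Nat.modEq_iff_dvd' (by omega)).2 ?_).symm
    rwa [show Fintype.card F + 1 - 2 = Fintype.card F - 1 by omega]
  have h3 : ℓ ∣ 2 - Fintype.card f.fixedPoints :=
    (Nat.modEq_iff_dvd' (by omega)).1 (hmod.symm.trans h2mod)
  have h4 : ℓ ≤ 2 := by
    refine (Nat.le_of_dvd (by omega) h3).trans (Nat.sub_le _ _)
  have h5 : ℓ = 2 := le_antisymm h4 hℓ.two_le
  rw [h5] at hℓq
  omega

end

end CfsgLib.SuzukiCoords
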